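import Cfsg.Agent.Lib.Classical.Residual.Cases

/-!
The traces of the perfect covers of `A₆` and `A₇`.
-/

set_option autoImplicit false

namespace Cfsg.Agent.Classical.Residual

open Matrix
open Cfsg.Agent.Classical.Bloom

variable {F : Type*} [Field F] [Fintype F]

local notation "SL₃" => Matrix.SpecialLinearGroup (Fin 3) F
local notation "M₃" => Matrix (Fin 3) (Fin 3) F

section
variable (p : ℕ) [hp : Fact p.Prime] [CharP F p]

omit [Fintype F] in
theorem cube_root_pow (hp3 : p ≠ 3) {c : F} (hc : c ^ 3 = 1) :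
    c ^ p ^ 2 = c ∧ (p % 3 = 1 → c ^ p = c) ∧ (p % 3 = 2 → c ^ p = c ^ 2) := by
  have h30 : p % 3 ≠ 0 := fun h =>
    hp3 ((Nat.prime_dvd_prime_iff_eq Nat.prime_three hp.out).1 (Nat.dvd_of_mod_eq_zero h)).symm
  refine ⟨?_, fun e => by rw [pow_eq_pow_mod p hc, e, pow_one], fun e => by rw [pow_eq_pow_mod p hc, e]⟩
  rw [pow_eq_pow_mod _ hc, Nat.pow_mod]
  rcases (show p % 3 = 1 ∨ p % 3 = 2 by omega) with e | e <;> rw [e] <;> simp

omit [Fintype F] in
/-- Real elements of order at most six. -/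
theorem small_order_frob {g u : SL₃} (hr : u * g * u⁻¹ = g⁻¹) {n : ℕ} (hn1 : 1 ≤ n)
    (hn : n ≤ 5 ∧ p ≠ 3 ∨ n ≤ 6 ∧ p = 5) (h : g ^ n = 1) :
    trace (g : M₃) ^ p ^ 2 = trace (g : M₃) ∧
      ((n ≠ 5 ∨ p % 5 = 1 ∨ p % 5 = 4 ∨ p = 5) → trace (g : M₃) ^ p = trace (g : M₃)) := by
  have first : (n ≠ 5 ∨ p % 5 = 1 ∨ p % 5 = 4 ∨ p = 5) → trace (g : M₃) ^ p = trace (g : M₃) := by
    intro hne
    by_cases hpn : p ∣ n
    · -- unipotent
      obtain ⟨k, hk⟩ : ∃ k, n = p ^ k := by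
        have hle := Nat.le_of_dvd (by omega) hpn
        have := hp.out.two_le
        obtain ⟨m, hm⟩ := hpn
        rcases (show p = 2 ∨ p = 5 by
          have hpr := hp.out
          rcases hn with ⟨h5, h3⟩ | ⟨-, h5⟩
          · have hp6 : p ≤ 5 := by omega
            interval_cases p <;> first | omega | (norm_num at hpr)
          · exact Or.inr h5) with rfl | rfl
        · rcases (show n = 2 ∨ n = 4 by omega) with rfl | rfl
          · exact ⟨1, rfl⟩
          · exact ⟨2, rfl⟩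
        · exact ⟨1, by omega⟩
      obtain ⟨h3, -⟩ := trace_unipotent p (k := k) (hk ▸ h)
      rw [h3]
      have := map_ofNat (frobenius F p) 3
      rwa [frobenius_def] at this
    · have hf := frob_real p (k := 1) hr h
      rw [pow_one] at hf
      refine hf ?_
      have h2 : 2 ∣ p → p = 2 := fun hd => ((Nat.prime_dvd_prime_iff_eq Nat.prime_two hp.out).1 hd).symm
      have h3' : 3 ∣ p → p = 3 := fun hd => ((Nat.prime_dvd_prime_iff_eq Nat.prime_three hp.out).1 hd).symm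
      rcases (show n = 1 ∨ n = 2 ∨ n = 3 ∨ n = 4 ∨ n = 5 ∨ n = 6 by omega) with rfl | rfl | rfl | rfl | rfl | rfl
      · exact Or.inl (by omega)
      · by_cases hp2 : p = 2
        · subst hp2; exact absurd (dvd_refl 2) hpn
        · omega
      · rcases hn with ⟨-, h5⟩ | ⟨-, h5⟩ <;> omega
      · by_cases hp2 : p = 2
        · subst hp2; exact absurd (by norm_num : 2 ∣ 4) hpn
        · omega
      · rcases hne with hne | hne | hne | hne
        · exact absurd rfl hne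
        · omega
        · omega
        · subst hne; exact absurd (dvd_refl 5) hpn
      · rcases hn with ⟨h5, -⟩ | ⟨-, rfl⟩ <;> omega
  refine ⟨?_, first⟩
  by_cases hne : n ≠ 5 ∨ p % 5 = 1 ∨ p % 5 = 4 ∨ p = 5
  · rw [sq, pow_mul, first hne, first hne]
  · push Not at hne
    obtain ⟨rfl, h1, h4, h5⟩ := hne
    refine frob_real p hr h ?_
    have h50 : p % 5 ≠ 0 := fun e =>
      h5 ((Nat.prime_dvd_prime_iff_eq Nat.prime_five hp.out).1 (Nat.dvd_of_mod_eq_zero e)).symm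
    rw [Nat.add_mod, Nat.pow_mod]
    rcases (show p % 5 = 2 ∨ p % 5 = 3 by omega) with e | e <;> rw [e] <;> simp

end

namespace Core

variable {Γ : Subgroup (Matrix.SpecialLinearGroup (Fin 3) F)} (K : Core Γ)

include K in
theorem six_case (p α : ℕ) [hp : Fact p.Prime] [CharP F p] (hp3 : p ≠ 3) (hF : Fintype.card F = p ^ α)
    (hmod : α = 1 → p % 15 = 1 ∨ p % 15 = 4) (e : Γ.map pr ≃* alternatingGroup (Fin 6)) : IsSixCase Γ p := by
  have key : ∀ g ∈ Γ, ∃ (c τ : F) (n : ℕ) (g' u : SL₃), c ^ 3 = 1 ∧ 1 ≤ n ∧ n ≤ 5 ∧ g' ^ n = 1 ∧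
      u * g' * u⁻¹ = g'⁻¹ ∧ τ = trace (g' : M₃) ∧ trace (g : M₃) = c * τ ∧
      trace ((g⁻¹ : SL₃) : M₃) = c ^ 2 * τ ∧ pr g = pr g' := by
    intro g hg
    obtain ⟨⟨n, hn1, hn5, hn⟩, hc⟩ := alt_six (e ⟨pr g, Subgroup.mem_map_of_mem _ hg⟩)
    obtain ⟨u, hu, huc⟩ := conj_of_isConj e hg (inv_mem hg) (by
      convert hc using 1
      rw [← map_inv]
      exact congrArg e (Subtype.ext (map_inv pr g)))
    obtain ⟨c, g', hc3, hcg, hr, hgn, ht, ht'⟩ := exists_real_part (h := u) (by rw [huc, map_inv]) (pow_of_pow e hg hn)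
    refine ⟨c, _, n, g', u, hc3, hn1, hn5, hgn, hr, rfl, ht, ht', ?_⟩
    exact (pr_eq_pr.2 ⟨c, hc3, hcg⟩).symm
  refine ⟨⟨e⟩, ?_⟩
  have h2 : Fintype.card F ≤ p ^ 2 := K.card_le p 2 two_pos fun g hg => by
    obtain ⟨c, τ, n, g', u, hc, hn1, hn5, hgn, hr, rfl, ht, -, -⟩ := key g hg
    rw [ht, mul_pow, (cube_root_pow p hp3 hc).1, (small_order_frob p hr hn1 (Or.inl ⟨hn5, hp3⟩) hgn).1]
  rw [hF] at h2
  have hα2 := (Nat.pow_le_pow_iff_right hp.out.one_lt).1 h2
  have hα0 : α ≠ 0 := fun e0 => by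
    have := Fintype.one_lt_card (α := F)
    rw [hF, e0, pow_zero] at this; omega
  rcases (show α = 1 ∨ α = 2 by omega) with rfl | rfl
  · exact Or.inl ⟨by rw [hF, pow_one], hmod rfl⟩
  refine Or.inr ⟨hF, hp3, fun hU => ?_, fun hU => ?_⟩
  · -- exchanged traces
    by_contra hgoal
    have hno : ¬ ((p % 5 = 1 ∨ p % 5 = 4) ∧ p % 3 = 1) := by
      rintro ⟨h5, h3⟩
      have := K.card_le p 1 one_pos fun g hg => by
        obtain ⟨c, τ, n, g', u, hc, hn1, hn5, hgn, hr, rfl, ht, -, -⟩ := key g hg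
        rw [pow_one, ht, mul_pow, (cube_root_pow p hp3 hc).2.1 h3,
          (small_order_frob p hr hn1 (Or.inl ⟨hn5, hp3⟩) hgn).2 (by omega)]
      rw [hF] at this
      have := (Nat.pow_le_pow_iff_right hp.out.one_lt).1 this
      omega
    have h30 : p % 3 ≠ 0 := fun h =>
      hp3 ((Nat.prime_dvd_prime_iff_eq Nat.prime_three hp.out).1 (Nat.dvd_of_mod_eq_zero h)).symm
    have h50 : p % 5 = 0 → p = 5 := fun h =>
      ((Nat.prime_dvd_prime_iff_eq Nat.prime_five hp.out).1 (Nat.dvd_of_mod_eq_zero h)).symm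
    have h5 : p % 5 = 2 ∨ p % 5 = 3 := by omega
    haveI : Fact (Nat.Prime 5) := ⟨Nat.prime_five⟩
    have hfive : ∃ x : alternatingGroup (Fin 6), orderOf x = 5 := by
      refine exists_prime_orderOf_dvd_card' 5 ?_
      rw [nat_card_alternatingGroup, Nat.card_eq_fintype_card, Fintype.card_fin]
      norm_num [Nat.factorial]
    obtain ⟨x, hx⟩ := hfive
    obtain ⟨g, hg, hgx⟩ := (e.symm x).2
    obtain ⟨c, τ, n, g', u, hc, hn1, hn5, hgn, hr, rfl, ht, ht', hpr⟩ := key g hg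
    have hord : orderOf (pr g) = 5 := by rw [hgx, Subgroup.orderOf_coe, MulEquiv.orderOf_eq, hx]
    have hn : n = 5 := by
      have : 5 ∣ n := hord ▸ orderOf_dvd_of_pow_eq_one (by rw [hpr, ← map_pow, hgn, map_one])
      have := Nat.le_of_dvd hn1 this
      omega
    subst hn
    have hU' := hU g hg
    rw [ht, ht', mul_pow] at hU'
    set τ := trace (g' : M₃)
    have hτ : τ ^ p = τ := by
      have hc0 : c ≠ 0 := fun e0 => by rw [e0, zero_pow three_ne_zero] at hc; exact zero_ne_one hc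
      rcases (show p % 3 = 1 ∨ p % 3 = 2 by omega) with h | h
      · rw [(cube_root_pow p hp3 hc).2.1 h, sq, mul_assoc] at hU'
        have h1 : τ ^ p = c * τ := mul_left_cancel₀ hc0 hU'
        have h2' : τ = c ^ 2 * τ := by
          calc τ = τ ^ p ^ 2 := (small_order_frob p hr hn1 (Or.inl ⟨hn5, hp3⟩) hgn).1.symm
            _ = _ := by rw [sq p, pow_mul, h1, mul_pow, (cube_root_pow p hp3 hc).2.1 h, h1]; ring
        rw [h1]
        calc c * τ = c * (c ^ 2 * τ) := by rw [← h2']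
          _ = τ := by rw [← mul_assoc, ← pow_succ', hc, one_mul]
      · rw [(cube_root_pow p hp3 hc).2.2 h] at hU'
        exact mul_left_cancel₀ (pow_ne_zero 2 hc0) hU'
    have h1 := five_trivial p h5 hr hgn hτ
    rw [h1, map_one] at hpr
    rw [hpr, orderOf_one] at hord
    omega
  · -- no exchanged traces
    by_contra hgoal
    refine hU fun g hg => ?_
    obtain ⟨c, τ, n, g', u, hc, hn1, hn5, hgn, hr, rfl, ht, ht', -⟩ := key g hg
    have h50 : p % 5 = 0 → p = 5 := fun h =>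
      ((Nat.prime_dvd_prime_iff_eq Nat.prime_five hp.out).1 (Nat.dvd_of_mod_eq_zero h)).symm
    rw [ht, ht', mul_pow, (small_order_frob p hr hn1 (Or.inl ⟨hn5, hp3⟩) hgn).2 (by omega)]
    congr 1
    by_contra hc2
    have h30 : p % 3 ≠ 0 := fun h =>
      hp3 ((Nat.prime_dvd_prime_iff_eq Nat.prime_three hp.out).1 (Nat.dvd_of_mod_eq_zero h)).symm
    have h3 : p % 3 = 1 := by
      by_contra h
      exact hc2 ((cube_root_pow p hp3 hc).2.2 (by omega))
    have := K.card_le p 1 one_pos fun g hg => by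
      obtain ⟨c, τ, n, g', u, hc, hn1, hn5, hgn, hr, rfl, ht, -, -⟩ := key g hg
      rw [pow_one, ht, mul_pow, (cube_root_pow p hp3 hc).2.1 h3,
        (small_order_frob p hr hn1 (Or.inl ⟨hn5, hp3⟩) hgn).2 (by omega)]
    rw [hF] at this
    have := (Nat.pow_le_pow_iff_right hp.out.one_lt).1 this
    omega

include K in
theorem a7_case (α : ℕ) [CharP F 5] (hF : Fintype.card F = 5 ^ α) (hα : Even α)
    (e : Γ.map pr ≃* alternatingGroup (Fin 7)) : IsA7Case Γ 5 := by
  haveI : Fact (Nat.Prime 5) := ⟨Nat.prime_five⟩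
  have hU : UnitTr Γ 5 := by
    intro g hg
    rcases alt_seven (e ⟨pr g, Subgroup.mem_map_of_mem _ hg⟩) with ⟨⟨n, hn1, hn6, hn⟩, hc⟩ | ⟨hn, hc⟩
    · obtain ⟨u, hu, huc⟩ := conj_of_isConj e hg (inv_mem hg) (by
        convert hc using 1
        rw [← map_inv]
        exact congrArg e (Subtype.ext (map_inv pr g)))
      obtain ⟨c, g', hc3, -, hr, hgn, ht, ht'⟩ := exists_real_part (h := u) (by rw [huc, map_inv]) (pow_of_pow e hg hn)
      rw [ht, ht', mul_pow, (cube_root_pow 5 (by norm_num) hc3).2.2 (by norm_num),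
        (small_order_frob 5 hr hn1 (Or.inr ⟨hn6, rfl⟩) hgn).2 (Or.inr (Or.inr (Or.inr rfl)))]
    · obtain ⟨u, hu, huc⟩ := conj_of_isConj e hg (pow_mem hg 2) (by
        convert hc using 1
        rw [← map_pow]
        exact congrArg e (Subtype.ext (map_pow pr g 2)))
      obtain ⟨c, g', hc3, hr, h7, ht, ht'⟩ := exists_seven_part (h := u) huc (pow_of_pow e hg hn)
      rw [ht, ht', mul_pow, (cube_root_pow 5 (by norm_num) hc3).2.2 (by norm_num), ← trace_pow_prime 5,
        ← Matrix.SpecialLinearGroup.coe_pow,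
        show g' ^ 5 = u * g'⁻¹ * u⁻¹ from by
          rw [show u * g'⁻¹ * u⁻¹ = (u * g' * u⁻¹)⁻¹ by group, hr]
          exact eq_inv_of_mul_eq_one_left (by rw [← pow_add]; exact h7), trace_conj]
  refine ⟨⟨e⟩, rfl, ?_, hU⟩
  have h := K.card_le 5 2 two_pos fun g hg => by
    rw [sq, pow_mul, hU g hg, hU g⁻¹ (inv_mem hg), inv_inv]
  rw [hF] at h ⊢
  have := (Nat.pow_le_pow_iff_right (by norm_num : 1 < 5)).1 h
  have hα0 : α ≠ 0 := fun e0 => by
    have := Fintype.one_lt_card (α := F)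
    rw [hF, e0, pow_zero] at this; omega
  obtain ⟨k, hk⟩ := hα
  rw [show α = 2 by omega]
  rfl

end Core

end Cfsg.Agent.Classical.Residual
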