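import Cfsg.Agent.Lib.Classical.Residual.UnitFive
import Cfsg.Agent.S0255

/-!
The residual core of a maximal subgroup as a subgroup of the special linear group.
-/

set_option autoImplicit false
set_option maxHeartbeats 400000
set_option synthInstance.maxHeartbeats 400000

namespace Cfsg.Agent.Classical.Residual

open Matrix Cfsg.Geo
open Cfsg.Agent.Classical.Bloom
open Cfsg.Agent.Classical.UnitThree (SU3)
open Cfsg.Agent.Classical.Asch (mem_GU_gram)
open Cfsg.Agent.Classical.MaxTv (qEquiv qEquiv_apply)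

variable {F : Type*} [Field F] [Fintype F]

local notation "G₃" => GL (Fin 3) F
local notation "SL₃" => Matrix.SpecialLinearGroup (Fin 3) F
local notation "M₃" => Matrix (Fin 3) (Fin 3) F

/-- A subgroup of the general linear group pulled back to the special linear group. -/
def sPart (P : Subgroup G₃) : Subgroup SL₃ := P.comap Matrix.SpecialLinearGroup.toGL

omit [Fintype F] in
theorem toGL_inj : Function.Injective (Matrix.SpecialLinearGroup.toGL : SL₃ →* G₃) := fun _ _ e =>
  Subtype.ext (congrArg Units.val e)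

section

variable {H P : Subgroup (GL (Fin 3) F)} (hC : IsResidualCore H P)

include hC

omit [Fintype F] in
theorem core_le_special : P ≤ specialLinear (Fin 3) F := by
  intro x hx
  rw [← hC.perfect] at hx
  refine (Subgroup.commutator_le.2 fun a _ b _ => ?_) hx
  show a * b * a⁻¹ * b⁻¹ ∈ (Matrix.GeneralLinearGroup.det : G₃ →* Fˣ).ker
  rw [MonoidHom.mem_ker, map_mul, map_mul, map_mul, map_inv, map_inv, mul_comm (Matrix.GeneralLinearGroup.det a),
    mul_inv_cancel_right, mul_inv_cancel]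

omit [Fintype F] in
theorem sPart_map : (sPart P).map Matrix.SpecialLinearGroup.toGL = P := by
  refine Subgroup.map_comap_eq_self fun x hx => ?_
  have h := congrArg Units.val (MonoidHom.mem_ker.1 (core_le_special hC hx))
  exact ⟨⟨(x : M₃), h⟩, Units.ext rfl⟩

omit [Fintype F] in
theorem exists_lift {x : G₃} (hx : x ∈ P) : ∃ g ∈ sPart P, Matrix.SpecialLinearGroup.toGL g = x :=
  Subgroup.mem_map.1 ((sPart_map hC).symm ▸ hx)

omit [Fintype F] in
theorem quotient_iso : Nonempty ((P ⧸ (scalars (Fin 3) F).subgroupOf P) ≃* (sPart P).map pr) := by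
  let eP : sPart P ≃* P := ((sPart P).equivMapOfInjective _ toGL_inj).trans (MulEquiv.subgroupCongr (sPart_map hC))
  let f : P →* (sPart P).map pr := (pr.subgroupMap (sPart P)).comp eP.symm.toMonoidHom
  have hf : Function.Surjective f := (pr.subgroupMap_surjective _).comp eP.symm.surjective
  have hker : f.ker = (scalars (Fin 3) F).subgroupOf P := by
    ext x
    obtain ⟨g, rfl⟩ := eP.surjective x
    rw [MonoidHom.mem_ker, Subgroup.mem_subgroupOf, mem_scalars_iff]
    show pr.subgroupMap (sPart P) (eP.symm (eP g)) = 1 ↔ _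
    rw [MulEquiv.symm_apply_apply]
    constructor
    · intro h
      obtain ⟨c, hc, e⟩ := pr_eq_one.1 (congrArg Subtype.val h)
      exact ⟨Units.mk0 c (fun e0 => by rw [e0] at hc; simp at hc), e⟩
    · rintro ⟨c, e⟩
      have hd := (g : SL₃).2
      have e' : ((g : SL₃) : M₃) = (c : F) • 1 := e
      rw [e', det_smul, det_one, mul_one, Fintype.card_fin] at hd
      exact Subtype.ext (pr_eq_one.2 ⟨(c : F), hd, e'⟩)
  exact ⟨(QuotientGroup.quotientMulEquivOfEq hker.symm).trans (QuotientGroup.quotientKerEquivOfSurjective f hf)⟩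

theorem core_of_residual
    (hQ : ¬ ∃ Q : (Fin 3 → F) → F, IsNondegenerateQuadraticForm Q ∧ FixesQuadForm (matrixSet P) Q) :
    Core (sPart P) := by
  obtain ⟨e⟩ := quotient_iso hC
  have hmat : ∀ s ∈ matrixSet P, ∃ g ∈ sPart P, (g : M₃) = s := by
    rintro _ ⟨x, hx, rfl⟩
    obtain ⟨g, hg, rfl⟩ := exists_lift hC hx
    exact ⟨g, hg, rfl⟩
  have hmem : ∀ g ∈ sPart P, (g : M₃) ∈ matrixSet P := fun g hg => ⟨_, hg, rfl⟩
  constructor
  · refine Subgroup.map_injective toGL_inj ?_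
    rw [Subgroup.map_commutator, sPart_map hC, hC.perfect]
  · haveI := hC.simple
    haveI : Nontrivial ((sPart P).map pr) := e.toEquiv.symm.nontrivial
    exact e.symm.isSimpleGroup
  · intro hab
    exact hC.nonabelian ⟨⟨fun a b => e.injective (by rw [map_mul, map_mul, hab.is_comm.comm])⟩⟩
  · intro W hW
    refine hC.absIrred.1 W fun s hs => ?_
    obtain ⟨g, hg, rfl⟩ := hmat s hs
    rintro _ ⟨w, hw, rfl⟩
    rw [Matrix.toLin'_apply]
    exact hW ⟨g, hg⟩ w hw
  · intro M hM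
    refine hC.absIrred.2 M fun s hs => ?_
    obtain ⟨g, hg, rfl⟩ := hmat s hs
    exact hM g hg
  · intro F₀ hne B hB
    refine hC.no_subfield F₀ hne ⟨B, fun s hs i j => ?_⟩
    obtain ⟨g, hg, rfl⟩ := hmat s hs
    exact hB g hg i j
  · rintro ⟨Q, hQn, hfix⟩
    refine hQ ⟨Q, hQn, fun s hs x => ?_⟩
    obtain ⟨g, hg, rfl⟩ := hmat s hs
    exact hfix g hg x

end

theorem iso_psl32 {P : Subgroup G₃} {H : Subgroup G₃} (hC : IsResidualCore H P) {p : ℕ}
    (h : IsSevenCase (sPart P) p) :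
    Nonempty ((P ⧸ (scalars (Fin 3) F).subgroupOf P) ≃* Matrix.ProjectiveSpecialLinearGroup (Fin 3) (ZMod 2)) := by
  haveI : Fact (Nat.Prime 7) := ⟨by norm_num⟩
  haveI : Fact (Nat.Prime 2) := ⟨Nat.prime_two⟩
  obtain ⟨e⟩ := quotient_iso hC
  obtain ⟨e7⟩ := h.1
  obtain ⟨e2⟩ := S0255.result (F := ZMod 7) (K := ZMod 2) (ZMod.card 7) (ZMod.card 2)
  exact ⟨(e.trans e7).trans e2⟩

omit [Fintype F] in
theorem iso_of_map {P : Subgroup G₃} {H : Subgroup G₃} (hC : IsResidualCore H P) {M : Type*} [Group M]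
    (h : Nonempty ((sPart P).map pr ≃* M)) :
    Nonempty ((P ⧸ (scalars (Fin 3) F).subgroupOf P) ≃* M) := by
  obtain ⟨e⟩ := quotient_iso hC
  obtain ⟨e'⟩ := h
  exact ⟨e.trans e'⟩

omit [Fintype F] in
theorem special_eq_range : specialLinear (Fin 3) F = (Matrix.SpecialLinearGroup.toGL : SL₃ →* G₃).range := by
  ext x
  constructor
  · intro hx
    exact ⟨⟨(x : M₃), congrArg Units.val (MonoidHom.mem_ker.1 hx)⟩, Units.ext rfl⟩
  · rintro ⟨g, rfl⟩
    exact MonoidHom.mem_ker.2 (Units.ext g.2)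

/-- The order of the special unitary group. -/
theorem card_SU3 (q : ℕ) : Nat.card (SU3 F q) = Nat.card (Cfsg.SU 3 F q) := by
  have h : SU3 F q = (Cfsg.SU 3 F q).map (Matrix.SpecialLinearGroup.toGL : SL₃ →* G₃) := by
    ext x
    constructor
    · rintro ⟨hx, hd⟩
      exact ⟨⟨(x : M₃), congrArg Units.val (MonoidHom.mem_ker.1 hd)⟩, hx, Units.ext rfl⟩
    · rintro ⟨g, hg, rfl⟩
      exact ⟨hg, MonoidHom.mem_ker.2 (Units.ext g.2)⟩
  rw [h]
  exact Subgroup.card_map_of_injective toGL_inj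

/-- Isometries have traces exchanged by inversion and the power `q`. -/
theorem unitTr_of_le {q : ℕ} (hF : Fintype.card F = q ^ 2) {Γ : Subgroup SL₃}
    (hle : Γ.map Matrix.SpecialLinearGroup.toGL ≤ GU 3 F q) : UnitTr Γ q := by
  intro g hg
  set σ := qEquiv hF
  have hgram : (g : M₃)ᵀ * (1 * (g : M₃).map σ) = 1 :=
    (mem_GU_gram (σ := σ) fun _ => rfl).1 (hle (Subgroup.mem_map_of_mem _ hg))
  rw [Matrix.one_mul] at hgram
  have h1 : ((g⁻¹ : SL₃) : M₃)ᵀ * (g : M₃)ᵀ = 1 := by
    rw [← transpose_mul, ← Matrix.SpecialLinearGroup.coe_mul, mul_inv_cancel, Matrix.SpecialLinearGroup.coe_one,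
      transpose_one]
  have hinv : ((g⁻¹ : SL₃) : M₃)ᵀ = (g : M₃).map σ := by
    calc ((g⁻¹ : SL₃) : M₃)ᵀ = ((g⁻¹ : SL₃) : M₃)ᵀ * ((g : M₃)ᵀ * (g : M₃).map σ) := by rw [hgram, mul_one]
      _ = _ := by rw [← mul_assoc, h1, one_mul]
  rw [← trace_transpose ((g⁻¹ : SL₃) : M₃), hinv, trace_fin_three, trace_fin_three]
  simp only [Matrix.map_apply, map_add, σ, qEquiv_apply]
  rw [← qEquiv_apply hF, map_add, map_add, qEquiv_apply, qEquiv_apply, qEquiv_apply]

end Cfsg.Agent.Classical.Residual
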