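import Cfsg.Agent.Lib.Classical.Residual.Setup

/-!
Traces of elements conjugate to their inverses or to their squares modulo scalars.
-/

set_option autoImplicit false

namespace Cfsg.Agent.Classical.Residual

open Matrix
open Cfsg.Agent.Classical.Bloom

theorem trace_pow_prime {F : Type*} [Field F] (p : ℕ) [Fact p.Prime] [CharP F p] {n : Type*} [Fintype n]
    [DecidableEq n] [Nonempty n] (M : Matrix n n F) : trace (M ^ p) = trace M ^ p := by
  have key : (M ^ p).charpoly = M.charpoly.map (frobenius F p) := by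
    apply Polynomial.expand_injective (R := F) (Fact.out : p.Prime).pos
    rw [← Polynomial.map_expand, Polynomial.map_frobenius_expand]
    unfold Matrix.charpoly
    rw [AlgHom.map_det, ← Matrix.det_pow]
    apply congr_arg Matrix.det
    refine matPolyEquiv.injective ?_
    rw [map_pow, matPolyEquiv_charmatrix, sub_pow_char_of_commute _ ((Polynomial.C M).commute_X (R := Matrix n n F)),
      ← Polynomial.C_pow]
    exact (by simpa using matPolyEquiv_eq_X_pow_sub_C p M)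
  rw [Matrix.trace_eq_neg_charpoly_coeff, Matrix.trace_eq_neg_charpoly_coeff, key, Polynomial.coeff_map,
    frobenius_def, ← frobenius_def, ← map_neg (frobenius F p), frobenius_def]

variable {F : Type*} [Field F]

local notation "SL₃" => Matrix.SpecialLinearGroup (Fin 3) F
local notation "M₃" => Matrix (Fin 3) (Fin 3) F

theorem trace_pow_prime_pow (p : ℕ) [Fact p.Prime] [CharP F p] (M : M₃) : ∀ k : ℕ,
    trace (M ^ p ^ k) = trace M ^ p ^ k
  | 0 => by simp
  | k + 1 => by rw [pow_succ p, pow_mul, trace_pow_prime, trace_pow_prime_pow p M k, ← pow_mul]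

/-- The Cayley–Hamilton identity. -/
theorem cayley (g : SL₃) : (g : M₃) ^ 3 - trace (g : M₃) • (g : M₃) ^ 2 +
    trace ((g⁻¹ : SL₃) : M₃) • (g : M₃) - 1 = 0 := by
  have hd : (g : M₃).det = 1 := g.2
  rw [Matrix.SpecialLinearGroup.coe_inv, adjugate_fin_three]
  rw [det_fin_three] at hd
  ext i j
  fin_cases i <;> fin_cases j <;>
    simp [pow_succ, Matrix.mul_apply, Fin.sum_univ_three, trace_fin_three, one_apply] <;>
    first | linear_combination hd | ring

theorem trace_sq (g : SL₃) :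
    trace ((g ^ 2 : SL₃) : M₃) = trace (g : M₃) ^ 2 - 2 * trace ((g⁻¹ : SL₃) : M₃) := by
  rw [Matrix.SpecialLinearGroup.coe_inv, adjugate_fin_three, sq g, Matrix.SpecialLinearGroup.coe_mul]
  simp [Matrix.mul_apply, Fin.sum_univ_three, trace_fin_three]
  ring

theorem trace_conj (h g : SL₃) : trace ((h * g * h⁻¹ : SL₃) : M₃) = trace (g : M₃) := by
  rw [Matrix.SpecialLinearGroup.coe_mul, trace_mul_comm, ← Matrix.SpecialLinearGroup.coe_mul, ← mul_assoc,
    inv_mul_cancel, one_mul]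

theorem trace_unipotent (p : ℕ) [Fact p.Prime] [CharP F p] {g : SL₃} {k : ℕ} (hg : g ^ p ^ k = 1) :
    trace (g : M₃) = 3 ∧ trace ((g⁻¹ : SL₃) : M₃) = 3 := by
  have key : ∀ y : SL₃, y ^ p ^ k = 1 → trace (y : M₃) = 3 := fun y hy => by
    have h1 : ((y : M₃) - 1) ^ p ^ k = 0 := by
      rw [sub_pow_char_pow_of_commute p k (Commute.one_right _), one_pow, ← Matrix.SpecialLinearGroup.coe_pow, hy,
        Matrix.SpecialLinearGroup.coe_one, sub_self]
    have h2 := (Matrix.isNilpotent_trace_of_isNilpotent ⟨_, h1⟩).eq_zero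
    rw [trace_sub, trace_one, sub_eq_zero, Fintype.card_fin] at h2
    exact_mod_cast h2
  exact ⟨key g hg, key g⁻¹ (by rw [inv_pow, hg, inv_one])⟩

/-- An element inverted modulo scalars is a scalar times a real element. -/
theorem exists_real_part {g h : SL₃} {n : ℕ} (hc : pr (h * g * h⁻¹) = pr g⁻¹) (hn : pr g ^ n = 1) :
    ∃ (c : F) (g' : SL₃), c ^ 3 = 1 ∧ (g : M₃) = c • (g' : M₃) ∧ h * g' * h⁻¹ = g'⁻¹ ∧ g' ^ n = 1 ∧
      trace (g : M₃) = c * trace (g' : M₃) ∧ trace ((g⁻¹ : SL₃) : M₃) = c ^ 2 * trace (g' : M₃) := by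
  obtain ⟨a, ha, e⟩ := pr_eq_pr.1 hc.symm
  have hz : (a • (1 : M₃)).det = 1 := by rw [det_smul, det_one, mul_one, Fintype.card_fin, ha]
  set z : SL₃ := ⟨a • 1, hz⟩ with hzdef
  have hzc : z ∈ Subgroup.center SL₃ := mem_center_scalar.2 ⟨a, ha, rfl⟩
  have e' : h * g * h⁻¹ = z * g⁻¹ := Subtype.ext (by
    rw [e, Matrix.SpecialLinearGroup.coe_mul z, show (z : M₃) = a • 1 from rfl, smul_mul_assoc, one_mul])
  have hcom : ∀ y : SL₃, y * z = z * y := fun y => Subgroup.mem_center_iff.1 hzc y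
  have hz3 : z ^ 3 = 1 := by
    refine center_pow_three ?_
    rw [← MonoidHom.mem_ker, ker_pr]; exact hzc
  have hreal : h * (z * g) * h⁻¹ = (z * g)⁻¹ := by
    calc h * (z * g) * h⁻¹ = z * (h * g * h⁻¹) := by rw [← mul_assoc h, hcom h]; group
      _ = z * z * g⁻¹ := by rw [e', mul_assoc]
      _ = z⁻¹ * g⁻¹ := by
        rw [show z * z = z⁻¹ from eq_inv_of_mul_eq_one_left (by rw [← hz3, pow_succ, sq])]
      _ = _ := by rw [← _root_.mul_inv_rev, hcom g]
  set g' := z * g with hg'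
  have hgg : (g : M₃) = a ^ 2 • (g' : M₃) := by
    rw [hg', Matrix.SpecialLinearGroup.coe_mul, show (z : M₃) = a • 1 from rfl, smul_mul_assoc, one_mul, smul_smul,
      ← pow_succ, ha, one_smul]
  have hgi : ((g⁻¹ : SL₃) : M₃) = a • ((g'⁻¹ : SL₃) : M₃) := by
    rw [show g⁻¹ = z * g'⁻¹ by rw [hg', _root_.mul_inv_rev, ← hcom, inv_mul_cancel_right],
      Matrix.SpecialLinearGroup.coe_mul, show (z : M₃) = a • 1 from rfl, smul_mul_assoc, one_mul]
  have htr : trace ((g'⁻¹ : SL₃) : M₃) = trace (g' : M₃) := by rw [← hreal, trace_conj]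
  refine ⟨a ^ 2, g', by rw [← pow_mul, mul_comm, pow_mul, ha, one_pow], hgg, hreal, ?_, ?_, ?_⟩
  · have hp : pr (g' ^ n) = 1 := by
      rw [map_pow, hg', map_mul, show pr z = 1 by rw [← MonoidHom.mem_ker, ker_pr]; exact hzc, one_mul, hn]
    have h1 : (g' ^ n)⁻¹ = g' ^ n := by
      rw [← inv_pow, ← hreal, conj_pow, center_commute hp h, mul_inv_cancel_right]
    have h2 : g' ^ n * g' ^ n = 1 := by rw [← mul_eq_one_iff_inv_eq.2 h1]
    calc g' ^ n = (g' ^ n) ^ 3 * ((g' ^ n * g' ^ n))⁻¹ := by group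
      _ = 1 := by rw [center_pow_three hp, h2, inv_one, mul_one]
  · rw [hgg, trace_smul, smul_eq_mul]
  · rw [hgi, trace_smul, smul_eq_mul, htr, ← pow_mul, show 2 * 2 = 3 + 1 from rfl, pow_succ, ha, one_mul]

/-- Real elements have traces fixed by a power of the characteristic. -/
theorem frob_real (p : ℕ) [Fact p.Prime] [CharP F p] {g h : SL₃} {n k : ℕ} (hr : h * g * h⁻¹ = g⁻¹)
    (hn : g ^ n = 1) (hmod : (p ^ k) % n = 1 % n ∨ (p ^ k + 1) % n = 0) :
    trace (g : M₃) ^ p ^ k = trace (g : M₃) := by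
  rw [← trace_pow_prime_pow p, ← Matrix.SpecialLinearGroup.coe_pow]
  rcases hmod with e | e
  · rw [pow_eq_pow_mod _ hn, e, ← pow_eq_pow_mod _ hn, pow_one]
  · have h1 : g ^ (p ^ k + 1) = 1 := by
      obtain ⟨m, hm⟩ := Nat.dvd_of_mod_eq_zero e
      rw [hm, pow_mul, hn, one_pow]
    rw [show g ^ p ^ k = g⁻¹ from eq_inv_of_mul_eq_one_left (by rwa [← pow_succ]), ← hr, trace_conj]

/-- A rational real element of order five is the identity unless five is a square. -/
theorem five_trivial (p : ℕ) [Fact p.Prime] [CharP F p] (hp : p % 5 = 2 ∨ p % 5 = 3) {g h : SL₃}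
    (hr : h * g * h⁻¹ = g⁻¹) (hn : g ^ 5 = 1) (hτ : trace (g : M₃) ^ p = trace (g : M₃)) : g = 1 := by
  have hτ' : trace ((g⁻¹ : SL₃) : M₃) = trace (g : M₃) := by rw [← hr, trace_conj]
  have hsq : trace ((g ^ 2 : SL₃) : M₃) = trace (g : M₃) := by
    rw [← trace_pow_prime p, ← Matrix.SpecialLinearGroup.coe_pow, pow_eq_pow_mod _ hn] at hτ
    rcases hp with e | e
    · rwa [e] at hτ
    · rw [← trace_conj h (g ^ 2), ← conj_pow, hr]
      rw [e] at hτ
      rwa [show g⁻¹ ^ 2 = g ^ 3 from by rw [inv_pow]; exact inv_eq_of_mul_eq_one_right (by rw [← pow_add]; exact hn)]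
  rw [trace_sq, hτ'] at hsq
  have hmul : trace (g : M₃) * (trace (g : M₃) - 3) = 0 := by linear_combination hsq
  have hch := cayley g
  rw [hτ'] at hch
  rcases mul_eq_zero.1 hmul with e | e
  · rw [e, zero_smul, zero_smul, sub_zero, add_zero, sub_eq_zero] at hch
    have h3 : g ^ 3 = 1 := Subtype.ext (by rw [Matrix.SpecialLinearGroup.coe_pow, hch]; rfl)
    calc g = (g ^ 3) ^ 2 * (g ^ 5)⁻¹ := by group
      _ = 1 := by rw [h3, hn]; group
  · rw [sub_eq_zero] at e
    have h0 : ((g : M₃) - 1) ^ 3 = 0 := by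
      rw [← hch, e]
      simp only [pow_succ, pow_zero, one_mul, sub_mul, mul_sub, mul_one, smul_sub]
      module
    have h3 : (g : M₃) ^ p ^ 2 = 1 := by
      have h1 : ((g : M₃) - 1) ^ p ^ 2 = 0 := pow_eq_zero_of_le (by
        have := (Fact.out : p.Prime).two_le
        nlinarith) h0
      rwa [sub_pow_char_pow_of_commute p 2 (Commute.one_right _), one_pow, sub_eq_zero] at h1
    have h4 : g ^ p ^ 2 = 1 := Subtype.ext (by rw [Matrix.SpecialLinearGroup.coe_pow, h3]; rfl)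
    have hco : Nat.gcd (p ^ 2) 5 = 1 := by
      refine Nat.Coprime.pow_left 2 ((Nat.coprime_primes Fact.out Nat.prime_five).2 fun e5 => ?_)
      rw [e5] at hp
      simp at hp
    have := pow_gcd_eq_one.2 ⟨h4, hn⟩
    rwa [hco, pow_one] at this

/-- An element conjugate to its square modulo scalars, of order seven modulo scalars. -/
theorem exists_seven_part {g h : SL₃} (hc : pr (h * g * h⁻¹) = pr (g ^ 2)) (hn : pr g ^ 7 = 1) :
    ∃ (c : F) (g' : SL₃), c ^ 3 = 1 ∧ h * g' * h⁻¹ = g' ^ 2 ∧ g' ^ 7 = 1 ∧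
      trace (g : M₃) = c * trace (g' : M₃) ∧ trace ((g⁻¹ : SL₃) : M₃) = c ^ 2 * trace ((g'⁻¹ : SL₃) : M₃) := by
  set z : SL₃ := g ^ 7 with hzdef
  have hz1 : pr z = 1 := by rw [hzdef, map_pow, hn]
  obtain ⟨a, ha, hza⟩ := pr_eq_one.1 hz1
  have hcom : ∀ y : SL₃, y * z = z * y := center_commute hz1
  have hz3 : z ^ 3 = 1 := center_pow_three hz1
  set g' := z ^ 2 * g with hg'
  have h7 : g' ^ 7 = 1 := by
    rw [hg', (Commute.pow_left (hcom g).symm 2).mul_pow, ← hzdef, ← pow_mul, ← pow_succ,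
      show 2 * 7 + 1 = 3 * 5 from rfl, pow_mul, hz3, one_pow]
  have hp : pr g' = pr g := by rw [hg', map_mul, map_pow, hz1, one_pow, one_mul]
  have hq : pr (h * g' * h⁻¹) = pr (g' ^ 2) := by
    rw [map_mul, map_mul, hp, ← map_mul, ← map_mul, hc, map_pow, map_pow, hp]
  obtain ⟨b, hb, e⟩ := pr_eq_pr.1 hq.symm
  have hb1 : b = 1 := by
    have h1 : ((h * g' * h⁻¹) ^ 7 : SL₃) = 1 := by rw [conj_pow, h7]; group
    have h2 := congrArg Subtype.val h1
    rw [Matrix.SpecialLinearGroup.coe_pow, e, smul_pow, ← Matrix.SpecialLinearGroup.coe_pow, ← pow_mul,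
      mul_comm 2 7, pow_mul, h7, one_pow, Matrix.SpecialLinearGroup.coe_one] at h2
    have h00 := congrFun (congrFun h2 0) 0
    simp at h00
    calc b = b ^ 7 / (b ^ 3) ^ 2 := by rw [hb]; rw [show b ^ 7 = (b ^ 3) ^ 2 * b by ring, hb]; ring
      _ = 1 := by rw [h00, hb]; ring
  rw [hb1, one_smul] at e
  refine ⟨a, g', ha, Subtype.ext e, h7, ?_, ?_⟩
  · have : g = z * g' := by rw [hg', ← mul_assoc, ← pow_succ', hz3, one_mul]
    conv_lhs => rw [this, Matrix.SpecialLinearGroup.coe_mul, hza, smul_mul_assoc, one_mul, trace_smul, smul_eq_mul]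
  · have : g⁻¹ = z ^ 2 * g'⁻¹ := by rw [hg', _root_.mul_inv_rev, ← mul_assoc, ← (Commute.pow_right (hcom g⁻¹) 2).eq, mul_inv_cancel_right]
    rw [this, Matrix.SpecialLinearGroup.coe_mul, Matrix.SpecialLinearGroup.coe_pow, hza, smul_pow, one_pow,
      smul_mul_assoc, one_mul, trace_smul, smul_eq_mul]

end Cfsg.Agent.Classical.Residual
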