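import Cfsg.Agent.Lib.Classical.Residual.Perm
import Cfsg.Agent.Lib.Classical.Residual.Traces
import Cfsg.Agent.Lib.Block.OrderPSL
import Cfsg.Agent.S0102

/-!
The traces of the almost simple candidates: `PSL(2, K)`, `A₆` and `A₇`.
-/

set_option autoImplicit false

namespace Cfsg.Agent.Classical.Residual

open Matrix
open Cfsg.Agent.Classical.Bloom

variable {F : Type*} [Field F] [Fintype F]

local notation "SL₃" => Matrix.SpecialLinearGroup (Fin 3) F
local notation "M₃" => Matrix (Fin 3) (Fin 3) F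

/-- The case of the simple group of order 168. -/
def IsSevenCase (Γ : Subgroup (Matrix.SpecialLinearGroup (Fin 3) F)) (p : ℕ) : Prop :=
  Nonempty (Γ.map pr ≃* Matrix.ProjectiveSpecialLinearGroup (Fin 2) (ZMod 7)) ∧
    ((Fintype.card F = p ∧ (p % 7 = 1 ∨ p % 7 = 2 ∨ p % 7 = 4)) ∨
     (Fintype.card F = p ^ 2 ∧ (p % 7 = 3 ∨ p % 7 = 5 ∨ p % 7 = 6) ∧ UnitTr Γ p))

/-- The case of the alternating group of degree six. -/
def IsSixCase (Γ : Subgroup (Matrix.SpecialLinearGroup (Fin 3) F)) (p : ℕ) : Prop :=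
  Nonempty (Γ.map pr ≃* alternatingGroup (Fin 6)) ∧
    ((Fintype.card F = p ∧ (p % 15 = 1 ∨ p % 15 = 4)) ∨
     (Fintype.card F = p ^ 2 ∧ p ≠ 3 ∧ (UnitTr Γ p → p % 15 = 11 ∨ p % 15 = 14 ∨ p = 5) ∧
       (¬ UnitTr Γ p → p % 5 = 2 ∨ p % 5 = 3)))

/-- The case of the alternating group of degree seven. -/
def IsA7Case (Γ : Subgroup (Matrix.SpecialLinearGroup (Fin 3) F)) (p : ℕ) : Prop :=
  Nonempty (Γ.map pr ≃* alternatingGroup (Fin 7)) ∧ p = 5 ∧ Fintype.card F = 25 ∧ UnitTr Γ 5

namespace Core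

variable {Γ : Subgroup (Matrix.SpecialLinearGroup (Fin 3) F)} (K : Core Γ)
  {M : Type*} [Group M] (e : Γ.map pr ≃* M)

include K in
/-- The size of the field is bounded by a Frobenius power fixing all traces. -/
theorem card_le (p k : ℕ) [Fact p.Prime] [CharP F p] (hk : 0 < k)
    (h : ∀ g ∈ Γ, trace (g : M₃) ^ p ^ k = trace (g : M₃)) : Fintype.card F ≤ p ^ k := by
  classical
  have hfix : ∀ a : F, a ^ p ^ k = a := fun a => by
    have htop := K.field_eq_top (RingHom.eqLocusField (iterateFrobenius F p k) (RingHom.id F)) fun g hg => by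
      show iterateFrobenius F p k _ = _
      rw [iterateFrobenius_def]; exact h g hg
    have ha : a ∈ RingHom.eqLocusField (iterateFrobenius F p k) (RingHom.id F) := htop ▸ Subfield.mem_top a
    rw [← iterateFrobenius_def]; exact ha
  have h1 : 1 < p ^ k := Nat.one_lt_pow hk.ne' (Fact.out : p.Prime).one_lt
  have hP : (Polynomial.X ^ p ^ k - Polynomial.X : Polynomial F) ≠ 0 := FiniteField.X_pow_card_sub_X_ne_zero F h1
  have := Finset.card_le_card (s := (Finset.univ : Finset F))
    (t := (Polynomial.X ^ p ^ k - Polynomial.X : Polynomial F).roots.toFinset)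
    fun a _ => by rw [Multiset.mem_toFinset, Polynomial.mem_roots hP]; simp [hfix]
  have h2 := (this.trans (Multiset.toFinset_card_le _)).trans (Polynomial.card_roots' _)
  rwa [Finset.card_univ, FiniteField.X_pow_card_sub_X_natDegree_eq F h1] at h2

omit [Fintype F] in
include e in
theorem conj_of_isConj {g g' : SL₃} (hg : g ∈ Γ) (hg' : g' ∈ Γ)
    (h : IsConj (e ⟨pr g, Subgroup.mem_map_of_mem _ hg⟩) (e ⟨pr g', Subgroup.mem_map_of_mem _ hg'⟩)) :
    ∃ u ∈ Γ, pr (u * g * u⁻¹) = pr g' := by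
  obtain ⟨c, hc⟩ := isConj_iff.1 h
  obtain ⟨u, hu, eu⟩ := (e.symm c).2
  refine ⟨u, hu, ?_⟩
  have := congrArg (fun x => ((e.symm x : Γ.map pr) : Matrix.ProjectiveSpecialLinearGroup (Fin 3) F)) hc
  simp only [map_mul, map_inv, MulEquiv.symm_apply_apply, Subgroup.coe_mul, Subgroup.coe_inv, ← eu] at this
  rwa [map_mul, map_mul, map_inv]

omit [Fintype F] in
theorem pow_of_pow {g : SL₃} (hg : g ∈ Γ) {n : ℕ} (h : e ⟨pr g, Subgroup.mem_map_of_mem _ hg⟩ ^ n = 1) :
    pr g ^ n = 1 := by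
  rw [← map_pow, map_eq_one_iff e e.injective] at h
  simpa using congrArg Subtype.val h

include K e in
/-- Cyclic Sylow 3-subgroups: the perfect group is simple. -/
theorem kernel_trivial [Finite M] (hcyc : ∀ P : Sylow 3 M, IsCyclic P) {z : SL₃} (hz : z ∈ Γ) (h1 : pr z = 1) :
    z = 1 := by
  haveI : Fact (Nat.Prime 3) := ⟨Nat.prime_three⟩
  let σ : Γ →* M := e.toMonoidHom.comp (pr.subgroupMap Γ)
  have hperf : commutator Γ = ⊤ := by
    apply Subgroup.map_injective Γ.subtype_injective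
    rw [Subgroup.map_subtype_commutator, K.perfect, ← MonoidHom.range_eq_map, Subgroup.range_subtype]
  have hσ : Function.Surjective σ := e.surjective.comp (pr.subgroupMap_surjective Γ)
  have hM : commutator M = ⊤ := by
    rw [← MonoidHom.range_eq_top.2 hσ, MonoidHom.range_eq_map, ← hperf, commutator_def, commutator_def,
      Subgroup.map_commutator, ← MonoidHom.range_eq_map, MonoidHom.range_eq_top.2 hσ]
  have hker : ∀ x : Γ, σ x = 1 → pr (x : SL₃) = 1 := fun x hx => by
    have := e.injective (hx.trans (map_one e).symm)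
    exact congrArg Subtype.val this
  have := S0102.result hM hcyc σ hσ (fun x hx => Subgroup.mem_center_iff.2 fun y =>
    Subtype.ext (center_commute (hker x hx) y)) hperf
  by_contra hne
  refine this ?_
  have ho : orderOf z = 3 := orderOf_eq_prime (center_pow_three h1) hne
  have hz' : (⟨z, hz⟩ : Γ) ∈ σ.ker := by
    show e (pr.subgroupMap Γ ⟨z, hz⟩) = 1
    rw [map_eq_one_iff e e.injective]
    exact Subtype.ext h1
  calc 3 = orderOf (⟨⟨z, hz⟩, hz'⟩ : σ.ker) := by rw [← Subgroup.orderOf_coe, ← Subgroup.orderOf_coe, ho]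
    _ ∣ _ := orderOf_dvd_natCard _

include K e in
theorem real_of_isConj [Finite M] (hcyc : ∀ P : Sylow 3 M, IsCyclic P) {g : SL₃} (hg : g ∈ Γ) {k : ℕ}
    (h : IsConj (e ⟨pr g, Subgroup.mem_map_of_mem _ hg⟩) (e ⟨pr (g ^ k), Subgroup.mem_map_of_mem _ (pow_mem hg k)⟩)) :
    ∃ u ∈ Γ, u * g * u⁻¹ = g ^ k := by
  obtain ⟨u, hu, hc⟩ := conj_of_isConj e hg (pow_mem hg k) h
  refine ⟨u, hu, mul_inv_eq_one.1 (K.kernel_trivial e hcyc (z := u * g * u⁻¹ * (g ^ k)⁻¹)
    (mul_mem (mul_mem (mul_mem hu hg) (inv_mem hu)) (inv_mem (pow_mem hg k))) ?_)⟩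
  rw [map_mul, map_inv, hc, mul_inv_cancel]

include K in
/-- The groups `PSL(2, K')` with elements real or unipotent. -/
theorem not_psl2 (p : ℕ) [Fact p.Prime] [CharP F p] [Finite M] (hcyc : p = 3 ∨ ∀ P : Sylow 3 M, IsCyclic P)
    (e : Γ.map pr ≃* M) (hre : ∀ x : M, IsConj x x⁻¹ ∨ x ^ p = 1) : False := by
  have hker : ∀ z ∈ Γ, pr z = 1 → z = 1 := fun z hz h1 => by
    rcases hcyc with rfl | hcyc
    · obtain ⟨c, hc, ez⟩ := pr_eq_one.1 h1
      have hc1 : c = 1 := sub_eq_zero.1 (pow_eq_zero_iff (n := 3) (by norm_num) |>.1 (by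
        have h3 : (3 : F) = 0 := by exact_mod_cast CharP.cast_eq_zero F 3
        linear_combination hc + (c - c ^ 2) * h3))
      exact Subtype.ext (by rw [ez, hc1, one_smul]; rfl)
    · exact K.kernel_trivial e hcyc hz h1
  refine K.not_real fun g hg => ?_
  rcases hre (e ⟨pr g, Subgroup.mem_map_of_mem _ hg⟩) with h | h
  · obtain ⟨u, hu, hc⟩ := conj_of_isConj e hg (inv_mem hg) (by
      convert h using 1
      rw [← map_inv]
      exact congrArg e (Subtype.ext (map_inv pr g)))
    have h1 := hker _ (mul_mem (mul_mem (mul_mem hu hg) (inv_mem hu)) hg) (by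
      rw [map_mul, hc, map_inv, inv_mul_cancel])
    rw [← eq_inv_of_mul_eq_one_left h1, trace_conj]
  · have h1 : g ^ p = 1 := hker _ (pow_mem hg p) (by rw [map_pow]; exact pow_of_pow e hg h)
    obtain ⟨a, b⟩ := trace_unipotent p (k := 1) (by rwa [pow_one] : g ^ p ^ 1 = 1)
    rw [a, b]

include K in
theorem not_psl2_field (p : ℕ) [Fact p.Prime] [CharP F p] {L : Type*} [Field L] [Fintype L] [CharP L p]
    (h4 : 4 ≤ Fintype.card L) (e : Γ.map pr ≃* Matrix.ProjectiveSpecialLinearGroup (Fin 2) L) : False :=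
  K.not_psl2 p (by
    by_cases h3 : p = 3
    · exact Or.inl h3
    · exact Or.inr fun P => psl2_sylow_three p h3 h4 (MulEquiv.refl _) P) e (psl2_real_or_unipotent p)

include K in
theorem not_psl2_five (p : ℕ) [Fact p.Prime] [CharP F p] {L : Type*} [Field L] [Fintype L]
    (h5 : Fintype.card L = 5) (e : Γ.map pr ≃* Matrix.ProjectiveSpecialLinearGroup (Fin 2) L) : False := by
  haveI : Fact (Nat.Prime 5) := ⟨Nat.prime_five⟩
  haveI : CharP L 5 := charP_of_card_eq_prime h5
  refine K.not_psl2 p (Or.inr fun P => psl2_sylow_three 5 (by norm_num) (by omega) (MulEquiv.refl _) P) e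
    fun x => Or.inl (psl2_real ⟨2, ?_⟩ x)
  have : ((5 : ℕ) : L) = 0 := CharP.cast_eq_zero L 5
  push_cast at this
  linear_combination -this

include K in
theorem seven_case (p : ℕ) [hp : Fact p.Prime] [CharP F p] (hp7 : p ≠ 7) {L : Type*} [Field L] [Fintype L]
    (h7 : Fintype.card L = 7) (e : Γ.map pr ≃* Matrix.ProjectiveSpecialLinearGroup (Fin 2) L) :
    IsSevenCase Γ p := by
  haveI : Fact (Nat.Prime 7) := ⟨by norm_num⟩
  haveI : CharP L 7 := charP_of_card_eq_prime h7
  have hcyc : ∀ P : Sylow 3 (Matrix.ProjectiveSpecialLinearGroup (Fin 2) L), IsCyclic P :=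
    fun P => psl2_sylow_three 7 (by norm_num) (by omega) (MulEquiv.refl _) P
  have key : ∀ g ∈ Γ, (trace ((g⁻¹ : SL₃) : M₃) = trace (g : M₃) ∧ trace (g : M₃) ^ p = trace (g : M₃)) ∨
      (g ^ 7 = 1 ∧ ∃ u, u * g * u⁻¹ = g ^ 2) := by
    intro g hg
    rcases psl2_seven h7 (e ⟨pr g, Subgroup.mem_map_of_mem _ hg⟩) with ⟨hn, hc⟩ | ⟨hn, hc⟩
    · left
      obtain ⟨u, hu, huc⟩ := conj_of_isConj e hg (inv_mem hg) (by
        convert hc using 1
        rw [← map_inv]
        exact congrArg e (Subtype.ext (map_inv pr g)))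
      have h1 := K.kernel_trivial e hcyc (mul_mem (mul_mem (mul_mem hu hg) (inv_mem hu)) hg) (by
        rw [map_mul, huc, map_inv, inv_mul_cancel])
      have hr : u * g * u⁻¹ = g⁻¹ := eq_inv_of_mul_eq_one_left h1
      refine ⟨by rw [← hr, trace_conj], ?_⟩
      have hg' : ∀ n, pr g ^ n = 1 → g ^ n = 1 := fun n h =>
        K.kernel_trivial e hcyc (pow_mem hg n) (by rwa [map_pow])
      conv_lhs => rw [← pow_one p]
      rcases hn with h | h | h <;> have h := hg' _ (pow_of_pow e hg h)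
      · by_cases h2 : p = 2
        · subst h2
          rw [(trace_unipotent 2 (k := 1) (by exact h : g ^ 2 ^ 1 = 1)).1, pow_one]
          have : (2 : F) = 0 := by exact_mod_cast CharP.cast_eq_zero F 2
          linear_combination (3 : F) * this
        · refine frob_real p hr h ?_
          rw [pow_one]
          have : ¬ 2 ∣ p := fun hd => h2 ((Nat.prime_dvd_prime_iff_eq Nat.prime_two hp.out).1 hd).symm
          omega
      · by_cases h3 : p = 3
        · subst h3
          rw [(trace_unipotent 3 (k := 1) (by rwa [pow_one] : g ^ 3 ^ 1 = 1)).1, pow_one]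
          have : (3 : F) = 0 := by exact_mod_cast CharP.cast_eq_zero F 3
          rw [this]; norm_num
        · refine frob_real p hr h ?_
          rw [pow_one]
          have : ¬ 3 ∣ p := fun hd => h3 ((Nat.prime_dvd_prime_iff_eq Nat.prime_three hp.out).1 hd).symm
          omega
      · by_cases h2 : p = 2
        · subst h2
          rw [(trace_unipotent 2 (k := 2) (by exact h : g ^ 2 ^ 2 = 1)).1, pow_one]
          have : (2 : F) = 0 := by exact_mod_cast CharP.cast_eq_zero F 2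
          linear_combination (3 : F) * this
        · refine frob_real p hr h ?_
          rw [pow_one]
          have : ¬ 2 ∣ p := fun hd => h2 ((Nat.prime_dvd_prime_iff_eq Nat.prime_two hp.out).1 hd).symm
          omega
    · right
      refine ⟨K.kernel_trivial e hcyc (pow_mem hg 7) (by rw [map_pow]; exact pow_of_pow e hg hn), ?_⟩
      obtain ⟨u, -, hu⟩ := K.real_of_isConj e hcyc hg (k := 2) (by
        convert hc using 1
        rw [← map_pow]
        exact congrArg e (Subtype.ext (map_pow pr g 2)))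
      exact ⟨u, hu⟩
  have hp70 : p % 7 ≠ 0 := fun h =>
    hp7 ((Nat.prime_dvd_prime_iff_eq (by norm_num) hp.out).1 (Nat.dvd_of_mod_eq_zero h)).symm
  have frob : ∀ g : SL₃, g ^ 7 = 1 → trace (g : M₃) ^ p = trace ((g ^ (p % 7) : SL₃) : M₃) := fun g hg => by
    rw [← trace_pow_prime p, ← Matrix.SpecialLinearGroup.coe_pow, pow_eq_pow_mod p hg]
  have h2c : ∀ g u : SL₃, u * g * u⁻¹ = g ^ 2 → trace ((g ^ 2 : SL₃) : M₃) = trace (g : M₃) ∧
      trace ((g ^ 4 : SL₃) : M₃) = trace (g : M₃) := fun g u h => by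
    refine ⟨by rw [← h, trace_conj], ?_⟩
    rw [show g ^ 4 = u * g ^ 2 * u⁻¹ by rw [← conj_pow, h, ← pow_mul], trace_conj, ← h, trace_conj]
  have iso : Nonempty (Γ.map pr ≃* Matrix.ProjectiveSpecialLinearGroup (Fin 2) (ZMod 7)) := by
    let r : ZMod 7 ≃+* L := ZMod.ringEquivOfPrime L (by norm_num) h7
    obtain ⟨eP⟩ := Cfsg.Agent.Block.OrdP.psl_congr' (n := 2) r.symm
    exact ⟨e.trans eP⟩
  refine ⟨iso, ?_⟩
  by_cases hlin : p % 7 = 1 ∨ p % 7 = 2 ∨ p % 7 = 4
  · refine Or.inl ⟨le_antisymm ?_ ?_, hlin⟩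
    · have hle := K.card_le p 1 one_pos fun g hg => by
        rw [pow_one]
        rcases key g hg with ⟨-, h⟩ | ⟨h, u, hu⟩
        · exact h
        · rw [frob g h]
          rcases hlin with e' | e' | e' <;> rw [e']
          · rw [pow_one]
          · exact (h2c g u hu).1
          · exact (h2c g u hu).2
      rwa [pow_one] at hle
    · obtain ⟨n, -, hn⟩ := FiniteField.card F p
      rw [hn]; exact Nat.le_self_pow n.pos.ne' p
  · have hun : p % 7 = 3 ∨ p % 7 = 5 ∨ p % 7 = 6 := by omega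
    have hU : UnitTr Γ p := fun g hg => by
      rcases key g hg with ⟨h1, h2⟩ | ⟨h, u, hu⟩
      · rw [h2, h1]
      · have hi : ∀ i : ℕ, g⁻¹ ^ i * g ^ i = 1 := fun i => by rw [inv_pow, inv_mul_cancel]
        have h2i : u * g⁻¹ * u⁻¹ = g⁻¹ ^ 2 := by
          rw [inv_pow, ← hu]; group
        rw [frob g h]
        have hneg : ∀ i j : ℕ, i + j = 7 → g ^ i = g⁻¹ ^ j := fun i j hij => by
          rw [inv_pow]; exact eq_inv_of_mul_eq_one_left (by rw [← pow_add, hij, h])
        rcases hun with e' | e' | e' <;> rw [e']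
        · rw [hneg 3 4 rfl]; exact (h2c g⁻¹ u h2i).2
        · rw [hneg 5 2 rfl]; exact (h2c g⁻¹ u h2i).1
        · rw [hneg 6 1 rfl, pow_one]
    refine Or.inr ⟨?_, hun, hU⟩
    have hle := K.card_le p 2 two_pos fun g hg => by
      rw [sq, pow_mul, hU g hg, hU g⁻¹ (inv_mem hg), inv_inv]
    obtain ⟨n, -, hn⟩ := FiniteField.card F p
    rw [hn] at hle ⊢
    have := (Nat.pow_le_pow_iff_right hp.out.one_lt).1 hle
    rcases (show (n : ℕ) = 1 ∨ (n : ℕ) = 2 by have := n.pos; omega) with e' | e'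
    · exfalso
      refine K.not_real fun g hg => ?_
      rw [← hU g hg]
      have := FiniteField.pow_card (trace (g : M₃))
      rwa [hn, e', pow_one] at this
    · rw [e']

end Core

end Cfsg.Agent.Classical.Residual
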