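import Cfsg.Agent.Lib.Classical.Residual.Odd

/-!
Residual groups containing transvections in odd characteristic are the whole classical group.
-/

set_option autoImplicit false

namespace Cfsg.Agent.Classical.Residual

open Matrix
open Cfsg.Agent.Classical.Bloom
open scoped commutatorElement

variable {F : Type*} [Field F] [Fintype F]

local notation "SL₃" => Matrix.SpecialLinearGroup (Fin 3) F
local notation "M₃" => Matrix (Fin 3) (Fin 3) F

/-- The group is the special linear group or a special unitary group. -/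
def IsWhole (Γ : Subgroup (Matrix.SpecialLinearGroup (Fin 3) F)) : Prop :=
  Γ = ⊤ ∨ ∃ r, Fintype.card F = r ^ 2 ∧ UnitTr Γ r ∧ ¬ NoUnit Γ ∧
    Nat.card Γ = Nat.card (Cfsg.SU 3 F r)

omit [Fintype F] in
theorem entries_of_moveGL {Γ : Subgroup SL₃} {D : GL (Fin 3) F} {L : Subfield F}
    (h : ∀ g ∈ moveGL D Γ, ∀ i j, (g : M₃) i j ∈ L) :
    ∀ g ∈ Γ, ∀ i j, ((D : M₃) * (g : M₃) * ((D⁻¹ : GL (Fin 3) F) : M₃)) i j ∈ L := fun g hg i j => by
  rw [← conjGL_coe]
  exact h _ (mem_moveGL.2 ⟨g, hg, rfl⟩) i j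

namespace Core

variable {Γ : Subgroup (Matrix.SpecialLinearGroup (Fin 3) F)} (K : Core Γ)

omit [Fintype F] in
include K in
theorem irrB : Irr Γ := by
  constructor
  · intro v hv
    by_contra! h
    rcases K.irr (Submodule.span F {v}) (fun g x hx => by
      obtain ⟨a, rfl⟩ := Submodule.mem_span_singleton.1 hx
      obtain ⟨c, hc⟩ := h g g.2
      rw [rep_apply, mulVec_smul, hc]
      exact Submodule.smul_mem _ _ (Submodule.smul_mem _ _ (Submodule.mem_span_singleton_self v))) with h0 | h0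
    · exact hv (by simpa using h0)
    · have := congrArg (fun W : Submodule F (Fin 3 → F) => Module.finrank F W) h0
      simp [finrank_span_singleton hv, finrank_top] at this
  · intro φ hφ
    by_contra! h
    rcases K.irr (LinearMap.ker (dotProductEquiv F (Fin 3) φ)) (fun g x hx => by
      simp only [LinearMap.mem_ker, dotProductEquiv_apply_apply] at hx ⊢
      obtain ⟨c, hc⟩ := h g g.2
      rw [rep_apply, dotProduct_mulVec, hc, smul_dotProduct, hx, smul_zero]) with h0 | h0
    · have h1 := (dotProductEquiv F (Fin 3) φ).finrank_range_add_finrank_ker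
      rw [h0, finrank_bot, Module.finrank_fintype_fun_eq_card, Fintype.card_fin] at h1
      have h2 := Submodule.finrank_le (LinearMap.range (dotProductEquiv F (Fin 3) φ))
      rw [Module.finrank_self] at h2
      omega
    · refine hφ ?_
      have := LinearMap.ker_eq_top.1 h0
      simpa using this

omit [Fintype F] in
include K in
/-- A non-central normal subgroup is the whole group. -/
theorem eq_of_normal {Δ : Subgroup SL₃} (hle : Δ ≤ Γ) (hn : ∀ g ∈ Γ, ∀ x ∈ Δ, g * x * g⁻¹ ∈ Δ)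
    (hne : Δ.map pr ≠ ⊥) : Δ = Γ := by
  refine le_antisymm hle ?_
  set N : Subgroup (Γ.map pr) := (Δ.map pr).subgroupOf (Γ.map pr) with hN
  have hNn : N.Normal := ⟨fun x hx y => by
    obtain ⟨d, hd, ed⟩ := hx
    obtain ⟨g, hg, eg⟩ := y.2
    refine ⟨g * d * g⁻¹, hn g hg d hd, ?_⟩
    simp only [map_mul, map_inv, ed, eg]
    rfl⟩
  rcases K.simple.eq_bot_or_eq_top_of_normal N hNn with h | h
  · exfalso
    refine hne (eq_bot_iff.2 ?_)
    rintro _ ⟨d, hd, rfl⟩
    have : (⟨pr d, Subgroup.mem_map_of_mem _ (hle hd)⟩ : Γ.map pr) ∈ N := ⟨d, hd, rfl⟩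
    rw [h, Subgroup.mem_bot] at this
    exact congrArg Subtype.val this
  · have key : ∀ g ∈ Γ, ∃ d ∈ Δ, pr (g * d⁻¹) = 1 := fun g hg => by
      obtain ⟨d, hd, e⟩ : (⟨pr g, Subgroup.mem_map_of_mem _ hg⟩ : Γ.map pr) ∈ N := h ▸ Subgroup.mem_top _
      exact ⟨d, hd, by rw [map_mul, map_inv, e]; exact mul_inv_cancel _⟩
    conv_lhs => rw [← K.perfect]
    rw [Subgroup.commutator_le]
    intro a ha b hb
    obtain ⟨d, hd, ea⟩ := key a ha
    obtain ⟨e, he, eb⟩ := key b hb
    set z := a * d⁻¹ with hz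
    set w := b * e⁻¹ with hw
    have hza : a = z * d := by simp [hz]
    have hwb : b = w * e := by simp [hw]
    have hz' : ∀ y : SL₃, y * z = z * y := center_commute ea
    have hw' : ∀ y : SL₃, y * w = w * y := center_commute eb
    clear_value z w
    subst hza hwb
    have : ⁅z * d, w * e⁆ = ⁅d, e⁆ := by
      rw [commutatorElement_def, commutatorElement_def, _root_.mul_inv_rev, _root_.mul_inv_rev]
      calc z * d * (w * e) * (d⁻¹ * z⁻¹) * (e⁻¹ * w⁻¹) = z * (d * w) * e * d⁻¹ * (z⁻¹ * e⁻¹) * w⁻¹ := by group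
        _ = z * (w * d) * e * d⁻¹ * (e⁻¹ * z⁻¹) * w⁻¹ := by
          rw [hw' d, show z⁻¹ * e⁻¹ = e⁻¹ * z⁻¹ by rw [← _root_.mul_inv_rev, hz', _root_.mul_inv_rev]]
        _ = z * (w * (d * e * d⁻¹ * e⁻¹)) * z⁻¹ * w⁻¹ := by group
        _ = w * (d * e * d⁻¹ * e⁻¹) * w⁻¹ := by rw [← hz', mul_inv_cancel_right]
        _ = d * e * d⁻¹ * e⁻¹ := by rw [← hw', mul_inv_cancel_right]
    rw [this]
    exact mul_mem (mul_mem (mul_mem hd he) (inv_mem hd)) (inv_mem he)

include K in
theorem tv_whole (h2 : (2 : F) ≠ 0) (htv : (tvs Γ).Nonempty) : IsWhole Γ := by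
  classical
  set Δ := Subgroup.closure (tvs Γ) with hΔ
  have hle : Δ ≤ Γ := (Subgroup.closure_le _).2 fun g hg => hg.1
  have hgen : Δ = Subgroup.closure (tvs Δ) := by
    refine le_antisymm ((Subgroup.closure_le _).2 fun g hg => Subgroup.subset_closure ?_)
      ((Subgroup.closure_le _).2 fun g hg => hg.1)
    exact ⟨Subgroup.subset_closure hg, hg.2⟩
  have hnorm : ∀ g ∈ Γ, ∀ n ∈ Δ, g * n * g⁻¹ ∈ Δ := by
    intro g hg n hn
    induction hn using Subgroup.closure_induction with
    | mem x hx =>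
      obtain ⟨hxΓ, v, φ, hv, hφ, hi, e⟩ := hx
      obtain ⟨hi', y, hy, ey⟩ := (show Bloom.InT Γ v φ from ⟨hi, x, hxΓ, e⟩).conj hg
      refine Subgroup.subset_closure ⟨mul_mem (mul_mem hg hxΓ) (inv_mem hg), (g : M₃) *ᵥ v,
        φ ᵥ* ((g⁻¹ : SL₃) : M₃), fun h0 => hv ?_, fun h0 => hφ ?_, hi', ?_⟩
      · have := congrArg (((g⁻¹ : SL₃) : M₃) *ᵥ ·) h0
        simp only [mulVec_mulVec, ← Matrix.SpecialLinearGroup.coe_mul, inv_mul_cancel,
          Matrix.SpecialLinearGroup.coe_one, one_mulVec, mulVec_zero] at this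
        exact this
      · have := congrArg (· ᵥ* (g : M₃)) h0
        simp only [vecMul_vecMul, ← Matrix.SpecialLinearGroup.coe_mul, inv_mul_cancel,
          Matrix.SpecialLinearGroup.coe_one, vecMul_one, zero_vecMul] at this
        exact this
      · rw [Matrix.SpecialLinearGroup.coe_mul, Matrix.SpecialLinearGroup.coe_mul, e, mul_add, add_mul, mul_one,
          ← Matrix.SpecialLinearGroup.coe_mul, mul_inv_cancel, Matrix.SpecialLinearGroup.coe_one, mul_vecMulVec,
          vecMulVec_mul]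
    | one => simp
    | mul a b _ _ ha hb =>
      rw [show g * (a * b) * g⁻¹ = (g * a * g⁻¹) * (g * b * g⁻¹) by group]
      exact mul_mem ha hb
    | inv a _ ha =>
      rw [show g * a⁻¹ * g⁻¹ = (g * a * g⁻¹)⁻¹ by group]
      exact inv_mem ha
  have heq : Δ = Γ := K.eq_of_normal hle hnorm (fun h => by
    obtain ⟨t, ht⟩ := htv
    obtain ⟨-, v, φ, hv, hφ, hi, et⟩ := id ht
    have h1 : pr t = 1 := Subgroup.mem_bot.1 (h ▸ Subgroup.mem_map_of_mem pr (Subgroup.subset_closure ht))
    obtain ⟨c, -, ec⟩ := pr_eq_one.1 h1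
    obtain ⟨i, hi'⟩ := Function.ne_iff.1 hv
    obtain ⟨j, hj'⟩ := Function.ne_iff.1 hφ
    -- a transvection is not a scalar
    have hsq : vecMulVec v φ * vecMulVec v φ = 0 := by
      rw [vecMulVec_mul_vecMulVec, hi, zero_smul]; ext a b; simp [vecMulVec_apply]
    have hN : vecMulVec v φ = (c - 1) • (1 : M₃) := by rw [sub_smul, one_smul, ← ec, et]; abel
    rw [hN, smul_mul_assoc, one_mul, smul_smul] at hsq
    have hc : (c - 1) * (c - 1) = 0 := by simpa using congrFun (congrFun hsq 0) 0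
    rw [mul_self_eq_zero.1 hc, zero_smul] at hN
    have := congrFun (congrFun hN i) j
    rw [vecMulVec_apply] at this
    exact mul_ne_zero hi' hj' this)
  obtain ⟨D, hD⟩ := generated_main h2 hgen (irr_closure_tvs K.irrB htv)
  rw [heq] at hD
  rcases hD with ⟨L, hL⟩ | ⟨M, r, hM, hU⟩
  · left
    have htop : L = ⊤ := by
      by_contra hne
      exact K.field L hne D (entries_of_moveGL fun g hg => mem_slOver.1 (hL ▸ hg))
    subst htop
    refine eq_top_iff.2 fun g _ => ?_
    obtain ⟨g', hg', e⟩ := mem_moveGL.1 (show conjGL D g ∈ moveGL D Γ by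
      rw [hL]; exact mem_slOver.2 fun i j => Subfield.mem_top _)
    rwa [← (conjGL D).injective e]
  · right
    obtain ⟨p, hp⟩ := CharP.exists F
    haveI := hp
    obtain ⟨n, hpp, hn⟩ := FiniteField.card F p
    haveI : Fact p.Prime := ⟨hpp⟩
    obtain ⟨d, -, hd⟩ := natCard_eq_pow p M
    obtain ⟨β, -, hβ⟩ := (Nat.dvd_prime_pow hpp).1 (show r ∣ p ^ d by rw [← hd, hM]; exact dvd_pow_self r two_ne_zero)
    obtain ⟨σ, hσ⟩ : ∃ σ : F →+* F, ∀ x, σ x = x ^ r :=
      ⟨iterateFrobenius F p β, fun x => by rw [iterateFrobenius_def, hβ]⟩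
    have htop : M = ⊤ := by
      by_contra hne
      exact K.field M hne D (entries_of_moveGL fun g hg => ((mem_suOver_iff σ hσ).1 (hU ▸ hg)).1)
    subst htop
    have hr : Fintype.card F = r ^ 2 := by
      rw [← hM, ← Nat.card_eq_fintype_card]
      exact (Nat.card_congr Subfield.topEquiv.toEquiv).symm
    have htr : UnitTr Γ r := fun g hg => by
      have hm := ((mem_suOver_iff σ hσ).1 (hU ▸ mem_moveGL.2 ⟨g, hg, rfl⟩ : conjGL D g ∈ UFrame.suOver ⊤ r)).2
      have hinv : ((conjGL D g)⁻¹ : SL₃).1ᵀ = (conjGL D g : M₃).map σ := by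
        have h1 : ((conjGL D g)⁻¹ : SL₃).1ᵀ * (conjGL D g : M₃)ᵀ = 1 := by
          rw [← transpose_mul, ← Matrix.SpecialLinearGroup.coe_mul, mul_inv_cancel,
            Matrix.SpecialLinearGroup.coe_one, transpose_one]
        calc ((conjGL D g)⁻¹ : SL₃).1ᵀ = ((conjGL D g)⁻¹ : SL₃).1ᵀ * ((conjGL D g : M₃)ᵀ * (conjGL D g : M₃).map σ) := by
              rw [hm, mul_one]
          _ = _ := by rw [← mul_assoc, h1, one_mul]
      have e := congrArg trace hinv
      rw [trace_transpose, ← map_inv, conjGL_coe, trace_mul_cycle, ← Units.val_mul, inv_mul_cancel,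
        Units.val_one, one_mul] at e
      rw [e, show trace ((conjGL D g : M₃).map σ) = σ (trace (conjGL D g : M₃)) from
        (AddMonoidHom.map_trace σ.toAddMonoidHom _).symm, hσ, conjGL_coe, trace_mul_cycle, ← Units.val_mul,
        inv_mul_cancel, Units.val_one, one_mul]
    refine ⟨r, hr, htr, K.unitary_of_unitTr hr htr, ?_⟩
    have hsu : UFrame.suOver (⊤ : Subfield F) r = Cfsg.SU 3 F r := by
      ext g
      rw [mem_suOver_iff σ hσ, UFrame.mem_su_iff σ hσ]
      simp
    rw [← hsu, ← hU]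
    exact (Subgroup.card_map_of_injective (conjGL D).injective).symm

end Core

end Cfsg.Agent.Classical.Residual
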