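import Cfsg.Agent.Lib.Classical.Residual.SmallMain
import Cfsg.Agent.Lib.Classical.Residual.Whole

/-!
The residual groups in all characteristics.
-/

set_option autoImplicit false

namespace Cfsg.Agent.Classical.Residual

open Matrix
open Cfsg.Agent.Classical.Bloom

variable {F : Type*} [Field F] [Fintype F]

namespace Core

variable {Γ : Subgroup (Matrix.SpecialLinearGroup (Fin 3) F)} (K : Core Γ)

include K in
theorem cases_all (p α : ℕ) [hp : Fact p.Prime] (hF : Fintype.card F = p ^ α) :
    IsWhole Γ ∨ IsSevenCase Γ p ∨ IsSixCase Γ p ∨ IsA7Case Γ p := by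
  haveI : CharP F p := charP_of_card_eq_prime_pow hF
  by_cases hp2 : p = 2
  · subst hp2
    rcases K.core_even with h | h | h
    · exact Or.inl h
    · exact Or.inr (Or.inl h)
    · exact Or.inr (Or.inr (Or.inl h))
  · by_cases htv : (tvs Γ).Nonempty
    · exact Or.inl (K.tv_whole (Ring.two_ne_zero (by rw [ringChar.eq F p]; exact hp2)) htv)
    · exact Or.inr (K.odd_cases p α hp2 hF htv)

end Core

end Cfsg.Agent.Classical.Residual
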