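import Cfsg.Agent.Lib.Classical.Residual.Cases
import Cfsg.Agent.S0799
import Cfsg.Agent.S2475
import Cfsg.Agent.S0252

/-!
A subgroup of `SL(2, 2^m)` with two root elements in general position and a four-group.
-/

set_option autoImplicit false

namespace Cfsg.Agent.Classical.Residual

open Matrix

variable {F : Type*} [Field F] [CharP F 2]

local notation "SL₂" => Matrix.SpecialLinearGroup (Fin 2) F
local notation "M₂" => Matrix (Fin 2) (Fin 2) F

/-- The upper unitriangular matrix. -/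
def upp (a : F) : Matrix.SpecialLinearGroup (Fin 2) F := ⟨!![1, a; 0, 1], by simp [det_fin_two]⟩

/-- The lower unitriangular matrix. -/
def low (a : F) : Matrix.SpecialLinearGroup (Fin 2) F := ⟨!![1, 0; a, 1], by simp [det_fin_two]⟩

omit [CharP F 2] in
@[simp] theorem upp_coe (a : F) : ((upp a : SL₂) : M₂) = !![1, a; 0, 1] := rfl

omit [CharP F 2] in
@[simp] theorem low_coe (a : F) : ((low a : SL₂) : M₂) = !![1, 0; a, 1] := rfl

omit [CharP F 2] in
theorem upp_mul (a b : F) : upp a * upp b = upp (a + b) := by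
  ext i j; fin_cases i <;> fin_cases j <;> simp [Matrix.mul_apply, Fin.sum_univ_two, add_comm]

omit [CharP F 2] in
theorem low_mul (a b : F) : low a * low b = low (a + b) := by
  ext i j; fin_cases i <;> fin_cases j <;> simp [Matrix.mul_apply, Fin.sum_univ_two]

omit [CharP F 2] in
theorem upp_injective : Function.Injective (upp (F := F)) := fun a b h => by
  simpa using congrArg (fun g : SL₂ => (g : M₂) 0 1) h

omit [CharP F 2] in
theorem low_injective : Function.Injective (low (F := F)) := fun a b h => by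
  simpa using congrArg (fun g : SL₂ => (g : M₂) 1 0) h

theorem upp_sq (a : F) : upp a * upp a = 1 := by
  rw [upp_mul, CharTwo.add_self_eq_zero]
  ext i j; fin_cases i <;> fin_cases j <;> simp

theorem low_sq (a : F) : low a * low a = 1 := by
  rw [low_mul, CharTwo.add_self_eq_zero]
  ext i j; fin_cases i <;> fin_cases j <;> simp

theorem two_power_sq {g : SL₂} {k : ℕ} (h : g ^ 2 ^ k = 1) : g ^ 2 = 1 ∧ trace (g : M₂) = 0 := by
  haveI : Fact (Nat.Prime 2) := ⟨Nat.prime_two⟩
  have h1 : ((g : M₂) - 1) ^ 2 ^ k = 0 := by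
    rw [sub_pow_char_pow_of_commute 2 k (Commute.one_right _), one_pow, ← Matrix.SpecialLinearGroup.coe_pow, h,
      Matrix.SpecialLinearGroup.coe_one, sub_self]
  have ht : trace (g : M₂) = 0 := by
    have h2 := (Matrix.isNilpotent_trace_of_isNilpotent ⟨_, h1⟩).eq_zero
    rw [trace_sub, trace_one, sub_eq_zero, Fintype.card_fin] at h2
    rw [h2]; exact CharP.cast_eq_zero F 2
  refine ⟨?_, ht⟩
  have hd : (g : M₂).det = 1 := g.2
  rw [det_fin_two, CharTwo.sub_eq_add] at hd
  rw [trace_fin_two, CharTwo.add_eq_zero] at ht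
  rw [sq]
  ext i j
  fin_cases i <;> fin_cases j <;> simp [Matrix.mul_apply, Fin.sum_univ_two, ht] at hd ⊢
  · linear_combination hd
  · rw [mul_comm, CharTwo.add_self_eq_zero]
  · rw [mul_comm, CharTwo.add_self_eq_zero]
  · linear_combination hd

/-- Commuting with a non-trivial upper element. -/
theorem upper_of_commute {g : SL₂} {k : ℕ} (h : g ^ 2 ^ k = 1) {a : F} (ha : a ≠ 0) (hc : g * upp a = upp a * g) :
    ∃ b, g = upp b := by
  obtain ⟨h2, ht⟩ := two_power_sq h
  have e00 := congrArg (fun x : SL₂ => (x : M₂) 0 0) hc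
  simp [Matrix.mul_apply, Fin.sum_univ_two] at e00
  have hc0 : (g : M₂) 1 0 = 0 := e00.resolve_left ha
  rw [trace_fin_two, CharTwo.add_eq_zero] at ht
  have hd : (g : M₂).det = 1 := g.2
  rw [det_fin_two, hc0, mul_zero, sub_zero, ht] at hd
  have h1 : (g : M₂) 1 1 = 1 := by
    have h' : ((g : M₂) 1 1 + 1) * ((g : M₂) 1 1 + 1) = 0 := by
      linear_combination hd + ((g : M₂) 1 1 + 1) * CharTwo.two_eq_zero (R := F)
    exact CharTwo.add_eq_zero.1 (mul_self_eq_zero.1 h')
  refine ⟨(g : M₂) 0 1, ?_⟩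
  ext i j
  fin_cases i <;> fin_cases j <;> simp [hc0, h1, ht]

variable [Fintype F]

theorem sl2_proj_injective : Function.Injective (Cfsg.Agent.Classical.slToPSL 2 F) := by
  intro g h e
  have h1 : Cfsg.Agent.Classical.slToPSL 2 F (h⁻¹ * g) = 1 := by rw [map_mul, map_inv, e, inv_mul_cancel]
  rw [Cfsg.Agent.Classical.slToPSL_eq_one_iff] at h1
  obtain ⟨c, hc⟩ := h1
  have hd : ((h⁻¹ * g : SL₂) : M₂).det = 1 := (h⁻¹ * g).2
  rw [hc, scalar_apply, det_diagonal, Finset.prod_const, Finset.card_univ, Fintype.card_fin] at hd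
  have hc1 : c = 1 := by
    have h' : (c + 1) * (c + 1) = 0 := by linear_combination hd + (c + 1) * CharTwo.two_eq_zero (R := F)
    exact CharTwo.add_eq_zero.1 (mul_self_eq_zero.1 h')
  rw [hc1, map_one] at hc
  exact (inv_mul_eq_one.1 (show h⁻¹ * g = (1 : SL₂) from Matrix.SpecialLinearGroup.ext _ _ fun i j => congrFun (congrFun hc i) j)).symm

theorem pgl_equiv_psl {K : Type*} [Field K] [Fintype K] [CharP K 2] :
    Nonempty (Matrix.ProjGenLinGroup (Fin 2) K ≃* Matrix.ProjectiveSpecialLinearGroup (Fin 2) K) := by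
  refine ⟨(MulEquiv.ofBijective Matrix.ProjectiveSpecialLinearGroup.toPGL
    ⟨Matrix.ProjectiveSpecialLinearGroup.toPGL_injective, fun x => ?_⟩).symm⟩
  induction x using Matrix.ProjGenLinGroup.induction_on with | mk g => ?_
  haveI : Fact (Nat.Prime 2) := ⟨Nat.prime_two⟩
  obtain ⟨s, hs⟩ := (frobeniusEquiv K 2).surjective ((g : Matrix (Fin 2) (Fin 2) K).det)
  rw [frobeniusEquiv_apply, frobenius_def] at hs
  have hdet : (g : Matrix (Fin 2) (Fin 2) K).det ≠ 0 := (g.isUnit.map Matrix.detMonoidHom).ne_zero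
  have hs0 : s ≠ 0 := fun e => hdet (by rw [← hs, e, zero_pow two_ne_zero])
  let y : Matrix.SpecialLinearGroup (Fin 2) K := ⟨s⁻¹ • (g : Matrix (Fin 2) (Fin 2) K), by
    rw [det_smul, Fintype.card_fin, ← hs]; field_simp⟩
  refine ⟨QuotientGroup.mk y, ?_⟩
  show Matrix.ProjGenLinGroup.mk _ = Matrix.ProjGenLinGroup.mk g
  rw [Matrix.ProjGenLinGroup.mk_eq_mk_iff]
  exact ⟨Units.mk0 s hs0, Units.ext (Matrix.ext fun i j => by simp [y]; change s⁻¹ * (g : Matrix (Fin 2) (Fin 2) K) i j * s = _; field_simp)⟩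

/-- The facts about a subgroup isomorphic to `PSL(2, K)`. -/
theorem psl_facts {X : Subgroup SL₂} {K : Type*} [Field K] [Fintype K] [CharP K 2]
    (e : X ≃* Matrix.ProjectiveSpecialLinearGroup (Fin 2) K) :
    Nat.card X = Fintype.card K * ((Fintype.card K - 1) * (Fintype.card K + 1)) ∧
      (4 ≤ Fintype.card K → ∀ x : X, orderOf x ∣ 2 ∨ orderOf x ∣ Fintype.card K - 1 ∨ orderOf x ∣ Fintype.card K + 1) := by
  haveI : Fact (Nat.Prime 2) := ⟨Nat.prime_two⟩
  obtain ⟨n, -, hn⟩ := FiniteField.card K 2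
  have hd : Nat.gcd 2 (Fintype.card K - 1) = 1 := by
    refine Nat.prime_two.coprime_iff_not_dvd.2 fun h => ?_
    have : 2 ∣ Fintype.card K := by rw [hn]; exact dvd_pow_self 2 n.pos.ne'
    have := Fintype.card_pos (α := K)
    omega
  constructor
  · rw [Nat.card_congr e.toEquiv]
    have := Dickson.card_psl (F := K)
    rwa [show Dickson.del K = 1 from hd, mul_one] at this
  · intro h4 x
    have := Set.mem_range_self (f := (orderOf : Matrix.ProjectiveSpecialLinearGroup (Fin 2) K → ℕ)) (e x)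
    rw [S2475.result 2 h4, hd, Nat.div_one, Nat.div_one] at this
    simpa using this

/-- The structure of such subgroups. -/
theorem dickson_even (X : Subgroup SL₂) (hA : 3 ≤ {a : F | upp a ∈ X}.ncard) {b : F} (hb : b ≠ 0)
    (hlow : low b ∈ X) :
    {a : F | low a ∈ X}.ncard = {a : F | upp a ∈ X}.ncard ∧
      ∀ g ∈ X, trace (g : M₂) ^ {a : F | upp a ∈ X}.ncard = trace (g : M₂) := by
  classical
  haveI : Fact (Nat.Prime 2) := ⟨Nat.prime_two⟩
  set A := {a : F | upp a ∈ X} with hAdef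
  set B := {a : F | low a ∈ X} with hBdef
  let U : Subgroup SL₂ :=
    { carrier := Set.range upp
      mul_mem' := by rintro _ _ ⟨a, rfl⟩ ⟨c, rfl⟩; exact ⟨a + c, (upp_mul a c).symm⟩
      one_mem' := ⟨0, by ext i j; fin_cases i <;> fin_cases j <;> simp⟩
      inv_mem' := by rintro _ ⟨a, rfl⟩; exact ⟨a, eq_inv_of_mul_eq_one_left (upp_sq a)⟩ }
  let L : Subgroup SL₂ :=
    { carrier := Set.range low
      mul_mem' := by rintro _ _ ⟨a, rfl⟩ ⟨c, rfl⟩; exact ⟨a + c, (low_mul a c).symm⟩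
      one_mem' := ⟨0, by ext i j; fin_cases i <;> fin_cases j <;> simp⟩
      inv_mem' := by rintro _ ⟨a, rfl⟩; exact ⟨a, eq_inv_of_mul_eq_one_left (low_sq a)⟩ }
  have cardA : Nat.card (X ⊓ U : Subgroup SL₂) = A.ncard := by
    rw [← Nat.card_coe_set_eq]
    exact (Nat.card_congr (Equiv.ofBijective (fun a : A => (⟨upp a, a.2, a, rfl⟩ : (X ⊓ U : Subgroup SL₂)))
      ⟨fun a c e => Subtype.ext (upp_injective (congrArg Subtype.val e)),
        fun y => by obtain ⟨a, ha⟩ := y.2.2; exact ⟨⟨a, show upp a ∈ X from ha ▸ y.2.1⟩, Subtype.ext ha⟩⟩)).symm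
  have cardB : Nat.card (X ⊓ L : Subgroup SL₂) = B.ncard := by
    rw [← Nat.card_coe_set_eq]
    exact (Nat.card_congr (Equiv.ofBijective (fun a : B => (⟨low a, a.2, a, rfl⟩ : (X ⊓ L : Subgroup SL₂)))
      ⟨fun a c e => Subtype.ext (low_injective (congrArg Subtype.val e)),
        fun y => by obtain ⟨a, ha⟩ := y.2.2; exact ⟨⟨a, show low a ∈ X from ha ▸ y.2.1⟩, Subtype.ext ha⟩⟩)).symm
  obtain ⟨a₀, ha₀, ha₀0⟩ : ∃ a ∈ A, a ≠ 0 := by
    obtain ⟨a, ha, hne⟩ := Set.exists_ne_of_one_lt_ncard (by omega : 1 < A.ncard) 0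
    exact ⟨a, ha, hne⟩
  -- a two-subgroup of `X` containing `X ⊓ U` lies in it
  have hmaxU : ∀ Q : Subgroup X, IsPGroup 2 Q → (X ⊓ U).subgroupOf X ≤ Q → Q ≤ (X ⊓ U).subgroupOf X := by
    intro Q hQ hle y hy
    haveI : Nontrivial Q := ⟨⟨⟨⟨upp a₀, ha₀⟩, hle ⟨ha₀, a₀, rfl⟩⟩, 1, fun e => ha₀0 (by
      simpa using congrArg (fun z : Q => (((z : X) : SL₂) : M₂) 0 1) e)⟩⟩
    obtain ⟨z, hz, hz1⟩ := Subgroup.nontrivial_iff_exists_ne_one _ |>.1 hQ.center_nontrivial
    have hzc : ∀ w : Q, w * z = z * w := fun w => Subgroup.mem_center_iff.1 hz w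
    have pow1 : ∀ w : Q, ∃ k : ℕ, ((w : X) : SL₂) ^ 2 ^ k = 1 := fun w => by
      obtain ⟨k, hk⟩ := hQ w
      exact ⟨k, by rw [← Subgroup.coe_pow, ← Subgroup.coe_pow, hk]; rfl⟩
    obtain ⟨k, hk⟩ := pow1 z
    obtain ⟨c, hc⟩ := upper_of_commute hk ha₀0
      (congrArg (fun w : Q => ((w : X) : SL₂)) (hzc ⟨⟨upp a₀, ha₀⟩, hle ⟨ha₀, a₀, rfl⟩⟩)).symm
    have hc0 : c ≠ 0 := fun e => hz1 (Subtype.ext (Subtype.ext (by
      rw [hc, e]; ext i j; fin_cases i <;> fin_cases j <;> simp)))
    obtain ⟨k', hk'⟩ := pow1 ⟨y, hy⟩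
    have := congrArg (fun w : Q => ((w : X) : SL₂)) (hzc ⟨y, hy⟩)
    simp only [Subgroup.coe_mul, hc] at this
    obtain ⟨d, hd⟩ := upper_of_commute hk' hc0 this
    exact ⟨y.2, d, hd.symm⟩
  have hUsq : ∀ y : ((X ⊓ U).subgroupOf X), y ^ 2 = 1 := fun y => by
    obtain ⟨a, ha⟩ := y.2.2
    refine Subtype.ext (Subtype.ext ?_)
    change ((y : X) : SL₂) ^ 2 = 1
    rw [show ((y : X) : SL₂) = upp a from ha.symm, sq, upp_sq]
  have hUp : IsPGroup 2 ((X ⊓ U).subgroupOf X) := fun y => ⟨1, by rw [pow_one]; exact hUsq y⟩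
  have cardA' : Nat.card ((X ⊓ U).subgroupOf X) = A.ncard := by
    rw [Nat.card_congr (Subgroup.subgroupOfEquivOfLe inf_le_left).toEquiv, cardA]
  have hAdvd : A.ncard ∣ Nat.card X := cardA' ▸ Subgroup.card_subgroup_dvd_card _
  obtain ⟨n, hn⟩ := hUp.exists_card_eq
  rw [cardA'] at hn
  have h4A : 4 ∣ A.ncard := by
    rw [hn]
    have : 2 ≤ n := by
      by_contra hlt
      have : (2 : ℕ) ^ n ≤ 2 ^ 1 := Nat.pow_le_pow_right (by norm_num) (by omega)
      omega
    exact pow_dvd_pow 2 this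
  have hbX : (⟨low b, hlow⟩ : X) ^ 2 = 1 := Subtype.ext (by rw [Subgroup.coe_pow, sq]; exact low_sq b)
  have haX : ∀ a (ha : a ∈ A), (⟨upp a, ha⟩ : X) ^ 2 = 1 := fun a ha =>
    Subtype.ext (by rw [Subgroup.coe_pow, sq]; exact upp_sq a)
  have hnot_comm : ¬ Commute (⟨low b, hlow⟩ : X) ⟨upp a₀, ha₀⟩ := fun h => by
    have := congrArg (fun z : X => ((z : SL₂) : M₂) 0 0) h.eq
    simp [Matrix.mul_apply, Fin.sum_univ_two] at this
    tauto
  have main : ∀ (K : Type) [Field K] [Fintype K] [CharP K 2],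
      Nonempty (X ≃* Matrix.ProjectiveSpecialLinearGroup (Fin 2) K) →
      B.ncard = A.ncard ∧ ∀ g ∈ X, trace (g : M₂) ^ A.ncard = trace (g : M₂) := by
    intro K _ _ _ ⟨e⟩
    obtain ⟨hcard, hord⟩ := psl_facts e
    obtain ⟨m, -, hm⟩ := FiniteField.card K 2
    have h4 : 4 ≤ Fintype.card K := by
      by_contra hlt
      have h2 : Fintype.card K = 2 := by
        have := Fintype.one_lt_card (α := K)
        rcases (show Fintype.card K = 2 ∨ Fintype.card K = 3 by omega) with h | h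
        · exact h
        · rw [hm] at h; exact absurd h (by
            intro h3
            have : 2 ∣ 3 := h3 ▸ dvd_pow_self 2 m.pos.ne'
            omega)
      rw [h2] at hcard
      rw [hcard] at hAdvd
      have := h4A.trans hAdvd
      omega
    have hpar : ¬ 2 ∣ (Fintype.card K - 1) * (Fintype.card K + 1) := by
      have : 2 ∣ Fintype.card K := by rw [hm]; exact dvd_pow_self 2 m.pos.ne'
      intro h
      rcases Nat.prime_two.dvd_mul.1 h with h | h <;> omega
    have hsyl : ∀ (P : Subgroup X), IsPGroup 2 P → (∀ Q : Subgroup X, IsPGroup 2 Q → P ≤ Q → Q ≤ P) →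
        Nat.card P = Fintype.card K := by
      intro P hP hmax
      have hPs := (⟨P, hP, fun {Q} hQ hle => le_antisymm (hmax Q hQ hle) hle⟩ : Sylow 2 X).card_eq_multiplicity
      change Nat.card P = _ at hPs
      rw [hPs, hcard, Nat.factorization_mul (by omega) (fun e => hpar (by rw [e]; exact dvd_zero 2)),
        Finsupp.add_apply, Nat.factorization_eq_zero_of_not_dvd (p := 2) hpar, add_zero, hm,
        Nat.prime_two.factorization_pow, Finsupp.single_eq_same]
    have hk : A.ncard = Fintype.card K := by rw [← cardA']; exact hsyl _ hUp hmaxU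
    refine ⟨?_, fun g hg => ?_⟩
    · have hLp : IsPGroup 2 ((X ⊓ L).subgroupOf X) := fun y => ⟨1, by
        obtain ⟨a, ha⟩ := y.2.2
        refine Subtype.ext (Subtype.ext ?_)
        change ((y : X) : SL₂) ^ 2 ^ 1 = 1
        rw [show ((y : X) : SL₂) = low a from ha.symm, pow_one, sq, low_sq]⟩
      obtain ⟨Q, hQ⟩ := hLp.exists_le_sylow
      have hQc : Nat.card Q = A.ncard := by
        rw [← cardA']
        obtain ⟨Q', hQ'⟩ := hUp.exists_le_sylow
        have : (Q' : Subgroup X) = (X ⊓ U).subgroupOf X := le_antisymm (hmaxU _ Q'.isPGroup' hQ') hQ'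
        rw [← this, Q'.card_eq_multiplicity, Q.card_eq_multiplicity]
      have hQL : (Q : Subgroup X) ≤ (X ⊓ L).subgroupOf X := by
        intro y hy
        haveI : Nontrivial Q := Finite.one_lt_card_iff_nontrivial.1 (by rw [hQc]; omega)
        obtain ⟨z, hz, hz1⟩ := Subgroup.nontrivial_iff_exists_ne_one _ |>.1 Q.isPGroup'.center_nontrivial
        have hzc : ∀ w : Q, w * z = z * w := fun w => Subgroup.mem_center_iff.1 hz w
        have tp : ∀ w : Q, ∃ k : ℕ, ((w : X) : SL₂).transpose ^ 2 ^ k = 1 := fun w => by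
          obtain ⟨k, hk⟩ := Q.isPGroup' w
          refine ⟨k, Subtype.ext ?_⟩
          rw [Matrix.SpecialLinearGroup.coe_pow]
          change ((((w : X) : SL₂) : M₂)ᵀ) ^ 2 ^ k = 1
          rw [← transpose_pow, ← Matrix.SpecialLinearGroup.coe_pow, ← Subgroup.coe_pow, ← Subgroup.coe_pow, hk]
          simp
        have hlow' : ∀ (w : SL₂) (c : F), w.transpose = upp c → w = low c := fun w c e => by
          ext i j
          have := congrArg (fun s : SL₂ => (s : M₂) j i) e
          simp at this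
          rw [this]
          fin_cases i <;> fin_cases j <;> simp
        have htc : ∀ v w : SL₂, v * w = w * v → v.transpose * w.transpose = w.transpose * v.transpose :=
          fun v w e => Subtype.ext (by
            change (v : M₂)ᵀ * (w : M₂)ᵀ = (w : M₂)ᵀ * (v : M₂)ᵀ
            rw [← transpose_mul, ← transpose_mul, ← Matrix.SpecialLinearGroup.coe_mul,
              ← Matrix.SpecialLinearGroup.coe_mul, e])
        have hlt : ∀ c : F, (low c).transpose = upp c := fun c => by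
          refine Subtype.ext ?_
          change ((low c : SL₂) : M₂)ᵀ = _
          ext i j; fin_cases i <;> fin_cases j <;> simp
        obtain ⟨k, hk⟩ := tp z
        have e1 := congrArg (fun w : Q => ((w : X) : SL₂)) (hzc ⟨⟨low b, hlow⟩, hQ ⟨hlow, b, rfl⟩⟩)
        replace e1 : low b * ((z : X) : SL₂) = ((z : X) : SL₂) * low b := e1
        obtain ⟨c, hc⟩ := upper_of_commute hk hb (by rw [← hlt]; exact (htc _ _ e1).symm)
        have hc0 : c ≠ 0 := fun e => hz1 (Subtype.ext (Subtype.ext (by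
          rw [hlow' _ _ hc, e]; ext i j; fin_cases i <;> fin_cases j <;> simp)))
        obtain ⟨k', hk'⟩ := tp ⟨y, hy⟩
        have e2 := congrArg (fun w : Q => ((w : X) : SL₂)) (hzc ⟨y, hy⟩)
        replace e2 : (y : SL₂) * ((z : X) : SL₂) = ((z : X) : SL₂) * (y : SL₂) := e2
        obtain ⟨d, hd⟩ := upper_of_commute hk' hc0 (by rw [← hc]; exact htc _ _ e2)
        exact ⟨y.2, d, (hlow' _ _ hd).symm⟩
      rw [← cardB, ← Nat.card_congr (Subgroup.subgroupOfEquivOfLe (inf_le_left : X ⊓ L ≤ X)).toEquiv,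
        ← le_antisymm hQL hQ, hQc]
    · rw [hk, hm]
      have hfrob : trace (g : M₂) ^ 2 ^ (m : ℕ) = trace ((g : M₂) ^ 2 ^ (m : ℕ)) := by
        induction (m : ℕ) with
        | zero => simp
        | succ k ih => rw [pow_succ 2, pow_mul, ih, pow_mul, trace_pow_prime 2]
      rw [hfrob, ← hm, ← Matrix.SpecialLinearGroup.coe_pow]
      have hinv : ∀ x : SL₂, trace ((x⁻¹ : SL₂) : M₂) = trace (x : M₂) := fun x => by
        rw [Matrix.SpecialLinearGroup.coe_inv, adjugate_fin_two, trace_fin_two, trace_fin_two]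
        simp [add_comm]
      have ho : orderOf (⟨g, hg⟩ : X) = orderOf g := (Subgroup.orderOf_coe _).symm
      rcases hord h4 ⟨g, hg⟩ with h | h | h <;> rw [ho] at h
      · have h2 := orderOf_dvd_iff_pow_eq_one.1 h
        have e0 : trace (g : M₂) = 0 := (two_power_sq (g := g) (k := 1) (by rwa [pow_one])).2
        rw [hm, show g ^ 2 ^ (m : ℕ) = 1 from by
          rw [← Nat.succ_pred_eq_of_pos m.pos, pow_succ' 2, pow_mul, h2, one_pow]]
        refine Eq.trans ?_ e0.symm
        rw [Matrix.SpecialLinearGroup.coe_one, trace_one, Fintype.card_fin]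
        exact CharP.cast_eq_zero F 2
      · rw [show Fintype.card K = Fintype.card K - 1 + 1 by omega, pow_succ, orderOf_dvd_iff_pow_eq_one.1 h, one_mul]
      · rw [show g ^ Fintype.card K = g⁻¹ from eq_inv_of_mul_eq_one_left
          (by rw [← pow_succ]; exact orderOf_dvd_iff_pow_eq_one.1 h), hinv]
  let π := (Cfsg.Agent.Classical.slToPSL 2 F)
  let eX : X ≃* X.map π := X.equivMapOfInjective π sl2_proj_injective
  obtain ⟨f, -, hf⟩ := FiniteField.card F 2
  have hk2 : ∀ k : ℕ, (k ∣ (Fintype.card F + 1) / Nat.gcd 2 (Fintype.card F - 1) ∨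
      k ∣ (Fintype.card F - 1) / Nat.gcd 2 (Fintype.card F - 1)) → ¬ 2 ∣ k := by
    intro k hk h2
    have he : 2 ∣ Fintype.card F := by rw [hf]; exact dvd_pow_self 2 f.pos.ne'
    have hg : Nat.gcd 2 (Fintype.card F - 1) = 1 := Nat.prime_two.coprime_iff_not_dvd.2 (by
      have := Fintype.card_pos (α := F); omega)
    rw [hg, Nat.div_one, Nat.div_one] at hk
    have := Fintype.card_pos (α := F)
    rcases hk with hk | hk <;> have := h2.trans hk <;> omega
  rcases S0799.result (F := F) rfl 2 (X.map π) with ⟨k, hk, h⟩ | ⟨P, Kn, hKn, ⟨e⟩⟩ | ⟨⟨e⟩⟩ | ⟨⟨e⟩⟩ | ⟨⟨e⟩⟩ |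
    ⟨K, _, _, m, hm, h⟩
  · exfalso
    have hX : ∀ n, Nat.card (X.map π) = n → 4 ∣ n := fun n hn' => by
      rw [← Nat.card_congr eX.toEquiv] at hn'
      exact hn' ▸ h4A.trans hAdvd
    have := hk2 k hk
    rcases h with ⟨-, hc⟩ | ⟨⟨e⟩⟩
    · have := hX k hc; omega
    · have := hX (2 * k) (by rw [Nat.card_congr e.toEquiv, DihedralGroup.nat_card])
      omega
  · exfalso
    let j : X →* Matrix.ProjectiveSpecialLinearGroup (Fin 2) F := Kn.subtype.comp ((eX.trans e).toMonoidHom)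
    have hj : Function.Injective j := (Subgroup.subtype_injective _).comp (eX.trans e).injective
    set Pk : Subgroup X := (P : Subgroup (Matrix.ProjectiveSpecialLinearGroup (Fin 2) F)).comap j with hPk
    have hinv : ∀ y : X, y ^ 2 = 1 → y ∈ Pk := by
      intro y hy
      have hz : IsPGroup 2 (Subgroup.zpowers (j y)) := fun w => by
        obtain ⟨i, hi⟩ := w.2
        refine ⟨1, Subtype.ext ?_⟩
        rw [Subgroup.coe_pow, ← hi, pow_one, sq]
        show j y ^ i * j y ^ i = 1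
        rw [← _root_.zpow_add, ← two_mul, _root_.zpow_mul, show (j y) ^ (2 : ℤ) = 1 from by
          rw [show (2 : ℤ) = ((2 : ℕ) : ℤ) from rfl, zpow_natCast, ← map_pow, hy, map_one], _root_.one_zpow]
      have hsup := hz.to_sup_of_normal_right' P.isPGroup'
        ((Subgroup.zpowers_le).2 (hKn ((eX.trans e) y).2))
      have := P.is_maximal' hsup le_sup_right
      show j y ∈ (P : Subgroup _)
      rw [← this]
      exact Subgroup.mem_sup_left (Subgroup.mem_zpowers (j y))
    have hPkp : IsPGroup 2 Pk := P.isPGroup'.comap_of_injective j hj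
    obtain ⟨-, c, hc⟩ := hmaxU Pk hPkp (fun y hy => hinv y (congrArg Subtype.val (hUsq ⟨y, hy⟩))) (hinv _ hbX)
    exact hb (by simpa using congrArg (fun z : SL₂ => (z : M₂) 1 0) hc.symm)
  · exfalso
    have hA4 : ∀ x y : alternatingGroup (Fin 4), x ^ 2 = 1 → y ^ 2 = 1 → x * y = y * x := by decide
    let e' := eX.trans e
    exact hnot_comm (e'.injective (by
      rw [map_mul, map_mul]
      exact hA4 _ _ (by rw [← map_pow, hbX, map_one]) (by rw [← map_pow, haX a₀ ha₀, map_one])))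
  · exfalso
    let e' := eX.trans e
    obtain ⟨s, hs⟩ : ∃ s : Equiv.Perm (Fin 4), s ^ 4 = 1 ∧ s ^ 2 ≠ 1 := ⟨finRotate 4, by decide, by decide⟩
    obtain ⟨y, rfl⟩ := e'.surjective s
    obtain ⟨h1, h2⟩ := hs
    rw [← map_pow, map_eq_one_iff e' e'.injective] at h1
    refine h2 ?_
    rw [← map_pow, map_eq_one_iff e' e'.injective]
    exact Subtype.ext (by
      rw [Subgroup.coe_pow]
      exact (two_power_sq (g := (y : SL₂)) (k := 2) (by rw [← Subgroup.coe_pow]; exact congrArg Subtype.val h1)).1)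
  · haveI : Fintype (GaloisField 2 2) := Fintype.ofFinite _
    have h4K : Fintype.card (GaloisField 2 2) = 4 := by
      rw [← Nat.card_eq_fintype_card, GaloisField.card 2 2 two_ne_zero]; rfl
    obtain ⟨i⟩ := S0252.result h4K
    exact main (GaloisField 2 2) ⟨eX.trans (e.trans i.symm)⟩
  · obtain ⟨r, hr⟩ := CharP.exists K
    haveI := hr
    obtain ⟨n', hrp, hn'⟩ := FiniteField.card K r
    have hr2 : r = 2 := by
      have h1 : r ∣ Fintype.card F := by
        rw [← hm, hn', ← pow_mul]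
        refine dvd_pow_self r (Nat.mul_ne_zero n'.pos.ne' fun e => ?_)
        rw [e, pow_zero] at hm
        exact absurd hm.symm (Fintype.one_lt_card (α := F)).ne'
      rw [hf] at h1
      exact (Nat.prime_dvd_prime_iff_eq hrp Nat.prime_two).1 (hrp.dvd_of_dvd_pow h1)
    subst hr2
    rcases h with ⟨⟨e⟩⟩ | ⟨⟨e⟩⟩
    · exact main K ⟨eX.trans e⟩
    · obtain ⟨i⟩ := pgl_equiv_psl (K := K)
      exact main K ⟨eX.trans (e.trans i)⟩

end Cfsg.Agent.Classical.Residual
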