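import Cfsg.Agent.Lib.Classical.Residual.EvenLie

/-!
The Lie ring is rational or unitary.
-/

set_option autoImplicit false

namespace Cfsg.Agent.Classical.Residual

open Matrix
open Cfsg.Agent.Classical.Bloom
open Cfsg.Agent.Fus

variable {F : Type*} [Field F]

local notation "V" => (Fin 3 → F)
local notation "SL₃" => Matrix.SpecialLinearGroup (Fin 3) F
local notation "M₃" => Matrix (Fin 3) (Fin 3) F

/-- The Hermitian form of the twisted case. -/
def jMat (γ : F) : Matrix (Fin 3) (Fin 3) F := !![0, 1, 0; 1, 0, 0; 0, 0, γ⁻¹]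

theorem entries_closure {L : Subfield F} {S : Set SL₃} (h : ∀ g ∈ S, ∀ i j, (g : M₃) i j ∈ L) {g : SL₃}
    (hg : g ∈ Subgroup.closure S) : ∀ i j, (g : M₃) i j ∈ L := by
  have : Subgroup.closure S ≤ slOver L := (Subgroup.closure_le _).2 fun x hx => mem_slOver.2 (h x hx)
  exact mem_slOver.1 (this hg)

namespace EvenFrame

variable {Γ : Subgroup (Matrix.SpecialLinearGroup (Fin 3) F)} {F₀ : Subfield F} [Fintype F] [CharP F 2]
  (K : EvenFrame Γ F₀) {γ : F}

include K in
theorem form_dichotomy (hγ : γ ≠ 0) (hA : offA 1 γ ∈ span0 Γ F₀) :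
    F₀ = ⊤ ∨ (γ ∈ F₀ ∧ ∃ (σ : F →+* F) (z : F), (∀ x, σ x = x ^ Nat.card F₀) ∧
      Fintype.card F = Nat.card F₀ ^ 2 ∧ σ z = z + γ⁻¹ ∧
      ∀ v φ, IsRoot Γ F₀ v φ → ((vecMulVec v φ).map σ)ᵀ * jMat γ = jMat γ * vecMulVec v φ) := by
  classical
  haveI : Fact (Nat.Prime 2) := ⟨Nat.prime_two⟩
  -- an element outside the line of `(1, γ)`
  obtain ⟨x₁, w₁, hb₁, hs₁⟩ : ∃ x w, offA x w ∈ span0 Γ F₀ ∧ w + γ * x ≠ 0 := by
    by_contra h
    push Not at h
    have prop : ∀ x w, offA x w ∈ span0 Γ F₀ → w = γ * x := fun x w hx => CharTwo.add_eq_zero.1 (h x w hx)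
    have hd : ∀ M ∈ span0 Γ F₀, M 2 2 = 0 := fun M hM => by
      have h1 := prop _ _ (K.diag_act (K.diag_mem hM) hA)
      have h2 : M 0 0 = M 1 1 := mul_right_cancel₀ hγ (by linear_combination h1)
      rw [trace_split hM, h2, CharTwo.add_self_eq_zero]
    obtain ⟨v, φ, hr, hv⟩ := K.exists_center_root (χ := ![0, 0, 1]) (by simp)
    simp [dotProduct, Fin.sum_univ_three] at hv
    have hM := span0_root hr
    have h22 := hd _ hM
    rw [vecMulVec_apply, mul_eq_zero, or_iff_right hv] at h22
    have e1 := prop _ _ (K.off_mem hM).1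
    have e2 := prop _ _ (K.off_mem hM).2
    simp [vecMulVec_apply, h22, hv] at e1 e2
    exact hr.right (funext fun i => by fin_cases i <;> simp [h22, e1, e2])
  have hB₀ : ∀ x w, offA x w ∈ span0 Γ F₀ → w + γ * x ∈ F₀ := fun x w hx => by
    have := K.form_mem hA hx
    convert this using 1; ring
  have hs₁F := hB₀ _ _ hb₁
  have hγF : γ ∈ F₀ := by
    have h3 := K.form_mem (K.triple hA hA hA) hb₁
    have : γ * (w₁ + γ * x₁) ∈ F₀ := by convert h3 using 1; ring
    simpa [hs₁] using F₀.div_mem this hs₁F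
  obtain ⟨z, hb⟩ : ∃ z, offA z (γ * z + 1) ∈ span0 Γ F₀ := by
    refine ⟨x₁ / (w₁ + γ * x₁), ?_⟩
    convert offA_smul (F₀.inv_mem hs₁F) hb₁ using 2
    · rw [div_eq_inv_mul]
    · field_simp
      linear_combination (γ * x₁) * CharTwo.two_eq_zero (R := F)
  have hrel : z * (γ * z + 1) ∈ F₀ := by
    have := hB₀ _ _ (K.triple hb hb hb)
    convert this using 1
    linear_combination -((γ * z + 1) * (γ * z * z)) * CharTwo.two_eq_zero (R := F)
  have hW : ∀ x w, offA x w ∈ span0 Γ F₀ → x + (w + γ * x) * z ∈ F₀ := fun x w hx => by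
    have := K.form_mem hb (offA_add hx (offA_smul (hB₀ x w hx) hb))
    convert this using 1
    linear_combination -((z * (w + γ * x)) * (γ * z + 1)) * CharTwo.two_eq_zero (R := F)
  obtain ⟨d, -, hd⟩ := natCard_eq_pow 2 F₀
  obtain ⟨σ, hσ⟩ : ∃ σ : F →+* F, ∀ x, σ x = x ^ Nat.card F₀ :=
    ⟨iterateFrobenius F 2 d, fun x => by rw [iterateFrobenius_def, hd]⟩
  have hfix : ∀ {x : F}, x ∈ F₀ ↔ σ x = x := fun {x} => by rw [hσ]; exact mem_iff_pow_card F₀
  have hz : σ z = z ∨ σ z = z + γ⁻¹ := by
    have h1 := hfix.1 hrel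
    rw [map_mul, map_add, map_mul, map_one, hfix.1 hγF] at h1
    have h2 : (σ z + z) * (γ * (σ z + z) + 1) = 0 := by
      linear_combination h1 + (γ * σ z * z + z * (γ * z + 1)) * CharTwo.two_eq_zero (R := F)
    rcases mul_eq_zero.1 h2 with h | h
    · exact Or.inl (CharTwo.add_eq_zero.1 h)
    · right
      field_simp
      linear_combination h - (γ * z + 1) * CharTwo.two_eq_zero (R := F)
  -- the coordinates of the off-block part
  have hpair : ∀ x w, offA x w ∈ span0 Γ F₀ → σ x = x + (w + γ * x) * (σ z + z) ∧ σ w + γ * σ x = w + γ * x := by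
    intro x w hx
    have h1 := hfix.1 (hW x w hx)
    have h2 := hfix.1 (hB₀ x w hx)
    rw [map_add, map_mul, h2] at h1
    refine ⟨by linear_combination h1 - ((w + γ * x) * σ z) * CharTwo.two_eq_zero (R := F), ?_⟩
    rw [map_add, map_mul, hfix.1 hγF] at h2
    exact h2
  rcases hz with hz | hz
  · left
    by_contra hne
    refine K.field F₀ hne 1 fun g hg i j => ?_
    simp only [inv_one, Units.val_one, one_mul, mul_one]
    rw [K.gen] at hg
    refine entries_closure (fun y hy a b => ?_) hg i j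
    obtain ⟨-, v, φ, hr, e⟩ := hy
    have hM := span0_root hr
    obtain ⟨h01, h10, hs⟩ := K.upper_entry hM
    have key : ∀ x w, offA x w ∈ span0 Γ F₀ → x ∈ F₀ ∧ w ∈ F₀ := fun x w hx => by
      obtain ⟨e1, e2⟩ := hpair x w hx
      rw [hz, CharTwo.add_self_eq_zero, mul_zero, add_zero] at e1
      refine ⟨hfix.2 e1, hfix.2 ?_⟩
      rw [e1] at e2
      exact add_right_cancel e2
    obtain ⟨h02, h21⟩ := key _ _ (K.off_mem hM).1
    obtain ⟨h12, h20⟩ := key _ _ (K.off_mem hM).2
    obtain ⟨h11, h00'⟩ := key _ _ (K.diag_act (K.diag_mem hM) hA)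
    rw [mul_one] at h11
    have h00 : vecMulVec v φ 0 0 ∈ F₀ := by simpa [hγ] using F₀.div_mem h00' hγF
    have h22 : vecMulVec v φ 2 2 ∈ F₀ := by rw [trace_split hM]; exact hs
    rw [e, Matrix.add_apply]
    refine F₀.add_mem (by rw [Matrix.one_apply]; split_ifs <;> [exact F₀.one_mem; exact F₀.zero_mem]) ?_
    fin_cases a <;> fin_cases b <;> assumption
  · right
    have hnz : σ z ≠ z := fun e => by
      rw [hz, add_eq_left, inv_eq_zero] at e; exact hγ e
    have hskew : ∀ v φ, IsRoot Γ F₀ v φ → ((vecMulVec v φ).map σ)ᵀ * jMat γ = jMat γ * vecMulVec v φ := by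
      intro v φ hr
      have hM := span0_root hr
      set M := vecMulVec v φ with hMdef
      obtain ⟨h01, h10, hs⟩ := K.upper_entry hM
      have key : ∀ x w, offA x w ∈ span0 Γ F₀ → γ * σ x = w ∧ σ w = γ * x := fun x w hx => by
        obtain ⟨e1, e2⟩ := hpair x w hx
        rw [hz] at e1
        have e3 : γ * σ x = w := by
          rw [e1]; field_simp
          linear_combination (γ * x + (w + γ * x) * γ * z) * CharTwo.two_eq_zero (R := F)
        refine ⟨e3, ?_⟩
        linear_combination e2 - e3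
      obtain ⟨a1, a2⟩ := key _ _ (K.off_mem hM).1
      obtain ⟨b1, b2⟩ := key _ _ (K.off_mem hM).2
      obtain ⟨c1, c2⟩ := key _ _ (K.diag_act (K.diag_mem hM) hA)
      rw [mul_one, mul_comm (M 0 0) γ] at c1
      have c3 : σ (M 1 1) = M 0 0 := mul_left_cancel₀ hγ c1
      rw [mul_one, map_mul, hfix.1 hγF, mul_comm γ (M 1 1), mul_comm (σ _) γ, mul_comm (M 1 1) γ] at c2
      have c4 : σ (M 0 0) = M 1 1 := mul_left_cancel₀ hγ c2
      have c5 : σ (M 2 2) = M 2 2 := by rw [trace_split hM]; exact hfix.1 hs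
      have d01 := hfix.1 h01
      have d10 := hfix.1 h10
      ext i j
      fin_cases i <;> fin_cases j <;>
        simp [jMat, Matrix.mul_apply, Fin.sum_univ_three, d01, d10, c3, c4, c5, mul_comm]
      · field_simp; linear_combination b2
      · field_simp; linear_combination a2
      · field_simp; linear_combination b1
      · field_simp; linear_combination a1
    refine ⟨hγF, σ, z, hσ, ?_, hz, hskew⟩
    -- the field has the square of the order
    have h2 : ∀ t : F, t ^ Nat.card F₀ ^ 2 = t := by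
      intro t
      have hσσ : σ (σ z) = z := by
        rw [hz, map_add, hz, map_inv₀, hfix.1 hγF, add_assoc, CharTwo.add_self_eq_zero, add_zero]
      let L : Subfield F := RingHom.eqLocusField (σ.comp σ) (RingHom.id F)
      have htop : L = ⊤ := by
        by_contra hne
        refine K.field L hne 1 fun g hg i j => ?_
        simp only [inv_one, Units.val_one, one_mul, mul_one]
        rw [K.gen] at hg
        refine entries_closure (fun y hy a b => ?_) hg i j
        obtain ⟨-, v, φ, hr, e⟩ := hy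
        have hs := hskew v φ hr
        have h1 : ((vecMulVec v φ).map σ).map σ = vecMulVec v φ := by
          have hJ : (jMat γ).map σ = jMat γ := by
            ext i j; fin_cases i <;> fin_cases j <;> simp [jMat, hfix.1 hγF]
          have h' := congrArg (fun X : M₃ => (X.map σ)ᵀ) hs
          simp only [Matrix.map_mul, transpose_mul, transpose_map, transpose_transpose, hJ] at h'
          have hJt : (jMat γ)ᵀ = jMat γ := by
            ext i j; fin_cases i <;> fin_cases j <;> simp [jMat]
          rw [hJt, hs] at h'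
          have hJJ : (!![0, 1, 0; 1, 0, 0; 0, 0, γ] : M₃) * jMat γ = 1 := by
            ext i j; fin_cases i <;> fin_cases j <;> simp [jMat, Matrix.mul_apply, Fin.sum_univ_three, hγ]
          have h'' := congrArg ((!![0, 1, 0; 1, 0, 0; 0, 0, γ] : M₃) * ·) h'
          simpa [← Matrix.mul_assoc, hJJ] using h''
        show σ (σ ((y : M₃) a b)) = (y : M₃) a b
        rw [e, Matrix.add_apply, map_add, map_add]
        congr 1
        · rw [Matrix.one_apply]; split_ifs <;> simp
        · exact congrFun (congrFun h1 a) b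
      have := (htop ▸ Subfield.mem_top t : t ∈ L)
      have h' : σ (σ t) = t := this
      rw [hσ, hσ, ← pow_mul, ← sq] at h'
      exact h'
    have hle : Fintype.card F ≤ Nat.card F₀ ^ 2 := by
      have h1 : 1 < Nat.card F₀ ^ 2 := Nat.one_lt_pow two_ne_zero Finite.one_lt_card
      have hP : (Polynomial.X ^ Nat.card F₀ ^ 2 - Polynomial.X : Polynomial F) ≠ 0 :=
        FiniteField.X_pow_card_sub_X_ne_zero F h1
      have := Finset.card_le_card (s := (Finset.univ : Finset F))
        (t := (Polynomial.X ^ Nat.card F₀ ^ 2 - Polynomial.X : Polynomial F).roots.toFinset)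
        fun a _ => by rw [Multiset.mem_toFinset, Polynomial.mem_roots hP]; simp [-Nat.card_eq_fintype_card, h2]
      have h3 := (this.trans (Multiset.toFinset_card_le _)).trans (Polynomial.card_roots' _)
      rwa [Finset.card_univ, FiniteField.X_pow_card_sub_X_natDegree_eq F h1] at h3
    have hm : Fintype.card F = Nat.card F₀ ^ Module.finrank F₀ F := by
      rw [← Nat.card_eq_fintype_card]
      exact Module.natCard_eq_pow_finrank
    have hne : Module.finrank F₀ F ≠ 1 := fun e => by
      rw [e, pow_one] at hm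
      refine hnz ?_
      rw [hσ, ← hm, FiniteField.pow_card]
    have hpos : 0 < Module.finrank F₀ F := Module.finrank_pos
    rw [hm] at hle ⊢
    have := (Nat.pow_le_pow_iff_right (show 1 < Nat.card F₀ from Finite.one_lt_card)).1 hle
    rw [show Module.finrank F₀ F = 2 by omega]

end EvenFrame

end Cfsg.Agent.Classical.Residual
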