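import Cfsg.Agent.Lib.Classical.Residual.EvenPair

/-!
A frame of root groups over a common subfield, in characteristic two.
-/

set_option autoImplicit false

namespace Cfsg.Agent.Classical.Residual

open Matrix
open Cfsg.Agent.Classical.Bloom
open Cfsg.Agent.Fus

variable {F : Type*} [Field F]

local notation "V" => (Fin 3 → F)
local notation "SL₃" => Matrix.SpecialLinearGroup (Fin 3) F
local notation "M₃" => Matrix (Fin 3) (Fin 3) F

/-- The transvections of the root groups over `F₀`. -/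
def roots (Γ : Subgroup (Matrix.SpecialLinearGroup (Fin 3) F)) (F₀ : Subfield F) :
    Set (Matrix.SpecialLinearGroup (Fin 3) F) :=
  {g | g ∈ Γ ∧ ∃ v φ : Fin 3 → F, IsRoot Γ F₀ v φ ∧ (g : Matrix (Fin 3) (Fin 3) F) = 1 + vecMulVec v φ}

/-- The standing hypotheses in standard coordinates. -/
structure EvenFrame (Γ : Subgroup (Matrix.SpecialLinearGroup (Fin 3) F)) (F₀ : Subfield F) : Prop where
  three : 3 ≤ Nat.card F₀
  irr : Irr Γ
  gen : Γ = Subgroup.closure (roots Γ F₀)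
  up : IsRoot Γ F₀ ![1, 0, 0] ![0, 1, 0]
  dn : IsRoot Γ F₀ ![0, 1, 0] ![1, 0, 0]
  field : ∀ L : Subfield F, L ≠ ⊤ → ∀ B : GL (Fin 3) F, ¬ ∀ g ∈ Γ, ∀ i j, ((B : Matrix (Fin 3) (Fin 3) F) *
    (g : Matrix (Fin 3) (Fin 3) F) * ((B⁻¹ : GL (Fin 3) F) : Matrix (Fin 3) (Fin 3) F)) i j ∈ L

variable {Γ : Subgroup (Matrix.SpecialLinearGroup (Fin 3) F)} {F₀ : Subfield F} {v φ w ψ : Fin 3 → F}

theorem IsRoot.inT (h : IsRoot Γ F₀ v φ) : Bloom.InT Γ v φ := by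
  have := (h.mem 1).2 F₀.one_mem
  rwa [one_smul] at this

theorem IsRoot.lam_eq (h : IsRoot Γ F₀ v φ) : lam Γ v φ = (F₀ : Set F) := Set.ext fun c => h.mem c

theorem IsRoot.ncard (h : IsRoot Γ F₀ v φ) : (lam Γ v φ).ncard = Nat.card F₀ := by
  rw [h.lam_eq, ← Nat.card_coe_set_eq]; rfl

theorem IsRoot.prod [Fintype F] [CharP F 2] (h : IsRoot Γ F₀ v φ) (h' : IsRoot Γ F₀ w ψ) (h3 : 3 ≤ Nat.card F₀) :
    (φ ⬝ᵥ w) * (ψ ⬝ᵥ v) ∈ F₀ := by
  by_cases hα : φ ⬝ᵥ w = 0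
  · rw [hα, zero_mul]; exact F₀.zero_mem
  by_cases hβ : ψ ⬝ᵥ v = 0
  · rw [hβ, mul_zero]; exact F₀.zero_mem
  have h1 : (1 : F) ∈ lam Γ v φ := (h.mem 1).2 F₀.one_mem
  have h1' : (1 : F) ∈ lam Γ w ψ := (h'.mem 1).2 F₀.one_mem
  obtain ⟨-, hm⟩ := lam_pair h.incident h'.incident hα hβ (h.ncard ▸ h3) one_ne_zero h1'
  have := hm 1 h1 1 h1'
  rw [one_mul, one_mul, h.ncard] at this
  exact (mem_iff_pow_card F₀).2 this

theorem IsRoot.scale (h : IsRoot Γ F₀ v φ) {a : F} (ha : a ∈ F₀) (ha0 : a ≠ 0) : IsRoot Γ F₀ v (a • φ) :=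
  ⟨h.left, smul_ne_zero ha0 h.right, by rw [smul_dotProduct, h.incident, smul_zero], fun c => by
    rw [smul_smul, h.mem]
    exact ⟨fun hc => by simpa [ha0] using F₀.div_mem hc ha, fun hc => F₀.mul_mem hc ha⟩⟩

theorem IsRoot.swap_scalar (h : IsRoot Γ F₀ v φ) {a : F} (ha : a ≠ 0) : IsRoot Γ F₀ (a • v) (a⁻¹ • φ) := by
  refine ⟨smul_ne_zero ha h.left, smul_ne_zero (inv_ne_zero ha) h.right,
    by rw [smul_dotProduct, dotProduct_smul, h.incident, smul_zero, smul_zero], fun c => ?_⟩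
  rw [← h.mem c, smul_comm c a⁻¹ φ]
  refine ⟨fun hc => ?_, fun hc => InT.smul_comm hc (mul_inv_cancel₀ ha)⟩
  have := InT.smul_comm hc (inv_mul_cancel₀ ha)
  rwa [inv_smul_smul₀ ha, smul_inv_smul₀ ha] at this

/-- Two vectors and two forms in general position, moved to standard coordinates. -/
theorem exists_coords_eq {v φ w ψ : V} (hφ : φ ⬝ᵥ v = 0) (hψ : ψ ⬝ᵥ w = 0) (hα : φ ⬝ᵥ w ≠ 0) (hβ : ψ ⬝ᵥ v ≠ 0) :
    ∃ P : GL (Fin 3) F, (P : M₃) *ᵥ v = ![1, 0, 0] ∧ (P : M₃) *ᵥ ((ψ ⬝ᵥ v) • w) = ![0, 1, 0] ∧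
      φ ᵥ* ((P⁻¹ : GL (Fin 3) F) : M₃) = ((φ ⬝ᵥ w) * (ψ ⬝ᵥ v)) • ![0, 1, 0] ∧
      ψ ᵥ* ((P⁻¹ : GL (Fin 3) F) : M₃) = (ψ ⬝ᵥ v) • ![1, 0, 0] := by
  set u : V := crossProduct φ ψ with hu
  have hφu : φ ⬝ᵥ u = 0 := dot_self_cross φ ψ
  have hψu : ψ ⬝ᵥ u = 0 := dot_cross_self φ ψ
  have hu0 : u ≠ 0 := fun e => by
    have := cross_cross_eq_smul_sub_smul φ ψ v
    rw [← hu, e, hφ, zero_smul, zero_sub] at this
    rw [map_zero, LinearMap.zero_apply, eq_comm, neg_eq_zero, smul_eq_zero] at this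
    rcases this with h | h
    · exact hβ h
    · exact hα (by rw [h, zero_dotProduct])
  set β := ψ ⬝ᵥ v with hβdef
  let Q : M₃ := Matrix.of fun i j => ![v, β • w, u] j i
  have hQ : ∀ x : V, Q *ᵥ x = x 0 • v + x 1 • (β • w) + x 2 • u := fun x => by
    funext i
    simp only [Q, mulVec, dotProduct, Fin.sum_univ_three, Matrix.of_apply, Matrix.cons_val_zero, Matrix.cons_val_one,
      Matrix.cons_val, Pi.add_apply, Pi.smul_apply, smul_eq_mul]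
    ring
  have hinj : Function.Injective Q.mulVec := fun x y e => by
    have e0 : Q *ᵥ (x - y) = 0 := by rw [mulVec_sub, e, sub_self]
    rw [hQ] at e0
    set z := x - y with hz
    have e1 := congrArg (φ ⬝ᵥ ·) e0
    have e2 := congrArg (ψ ⬝ᵥ ·) e0
    simp [dotProduct_add, dotProduct_smul, hφ, hψ, hφu, hψu, ← hβdef, hα, hβ] at e1 e2
    rw [e1, e2, zero_smul, zero_smul, zero_add, zero_add, smul_eq_zero] at e0
    refine sub_eq_zero.1 (show z = 0 from funext fun i => ?_)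
    fin_cases i
    · exact e2
    · exact e1
    · exact e0.resolve_right hu0
  obtain ⟨Qu, hQu⟩ := Matrix.mulVec_injective_iff_isUnit.1 hinj
  have key : ∀ x y : V, Q *ᵥ x = y → ((Qu⁻¹ : GL (Fin 3) F) : M₃) *ᵥ y = x := fun x y e => by
    rw [← e, mulVec_mulVec, ← hQu, ← Units.val_mul, inv_mul_cancel, Units.val_one, one_mulVec]
  have hβw : (fun i => β * w i) = β • w := rfl
  refine ⟨Qu⁻¹, key _ _ (by rw [hQ]; simp), key _ _ (by rw [hQ]; simp), ?_, ?_⟩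
  · rw [inv_inv, hQu]
    funext j
    show φ ⬝ᵥ (fun i => Q i j) = _
    fin_cases j <;> simp [Q, hβw, dotProduct_smul, hφ, hφu] <;> ring
  · rw [inv_inv, hQu]
    funext j
    show ψ ⬝ᵥ (fun i => Q i j) = _
    fin_cases j <;> simp [Q, hβw, dotProduct_smul, hψ, hψu, ← hβdef]

theorem conj_ne_zero {g : SL₃} (hv : v ≠ 0) (hφ : φ ≠ 0) :
    (g : M₃) *ᵥ v ≠ 0 ∧ φ ᵥ* ((g⁻¹ : SL₃) : M₃) ≠ 0 := by
  refine ⟨fun h0 => hv ?_, fun h0 => hφ ?_⟩
  · have := congrArg (((g⁻¹ : SL₃) : M₃) *ᵥ ·) h0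
    simp only [mulVec_mulVec, ← Matrix.SpecialLinearGroup.coe_mul, inv_mul_cancel,
      Matrix.SpecialLinearGroup.coe_one, one_mulVec, mulVec_zero] at this
    exact this
  · have := congrArg (· ᵥ* (g : M₃)) h0
    simp only [vecMul_vecMul, ← Matrix.SpecialLinearGroup.coe_mul, inv_mul_cancel,
      Matrix.SpecialLinearGroup.coe_one, vecMul_one, zero_vecMul] at this
    exact this

theorem IsRoot.conj (h : IsRoot Γ F₀ v φ) {g : SL₃} (hg : g ∈ Γ) :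
    IsRoot Γ F₀ ((g : M₃) *ᵥ v) (φ ᵥ* ((g⁻¹ : SL₃) : M₃)) :=
  ⟨(conj_ne_zero h.left h.right).1, (conj_ne_zero h.left h.right).2, (InT.conj h.inT hg).1, fun c => by
    have := lam_conj hg v φ
    rw [← h.mem c]
    exact Set.ext_iff.1 this c⟩

theorem moveGL_lam (P : GL (Fin 3) F) (v φ : V) (c : F) :
    Bloom.InT (moveGL P Γ) ((P : M₃) *ᵥ v) (c • (φ ᵥ* ((P⁻¹ : GL (Fin 3) F) : M₃))) ↔ Bloom.InT Γ v (c • φ) := by
  refine ⟨fun h => ?_, fun h => ?_⟩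
  · have := InT.of_moveGL h
    rwa [mulVec_mulVec, smul_vecMul, vecMul_vecMul, ← Units.val_mul, inv_mul_cancel, Units.val_one, one_mulVec,
      vecMul_one] at this
  · have := InT.moveGL h P
    rwa [smul_vecMul] at this

theorem IsRoot.move (h : IsRoot Γ F₀ v φ) (P : GL (Fin 3) F) :
    IsRoot (moveGL P Γ) F₀ ((P : M₃) *ᵥ v) (φ ᵥ* ((P⁻¹ : GL (Fin 3) F) : M₃)) := by
  refine ⟨fun h0 => h.left ?_, fun h0 => h.right ?_, (InT.moveGL h.inT P).1, fun c => by rw [moveGL_lam, h.mem]⟩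
  · have := congrArg (((P⁻¹ : GL (Fin 3) F) : M₃) *ᵥ ·) h0
    simp only [mulVec_mulVec, ← Units.val_mul, inv_mul_cancel, Units.val_one, one_mulVec, mulVec_zero] at this
    exact this
  · have := congrArg (· ᵥ* (P : M₃)) h0
    simp only [vecMul_vecMul, ← Units.val_mul, inv_mul_cancel, Units.val_one, vecMul_one, zero_vecMul] at this
    exact this

theorem gen_move (hgen : Γ = Subgroup.closure (roots Γ F₀)) (P : GL (Fin 3) F) :
    moveGL P Γ = Subgroup.closure (roots (moveGL P Γ) F₀) := by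
  refine le_antisymm ?_ ((Subgroup.closure_le _).2 fun g hg => hg.1)
  conv_lhs => rw [hgen]
  rw [moveGL, MonoidHom.map_closure, Subgroup.closure_le]
  rintro _ ⟨g, ⟨hg, v, φ, h, e⟩, rfl⟩
  refine Subgroup.subset_closure ⟨mem_moveGL.2 ⟨g, hg, rfl⟩, _, _, h.move P, ?_⟩
  show (conjGL P g : M₃) = _
  rw [conjGL_coe, e, mul_add, add_mul, mul_one, ← Units.val_mul, mul_inv_cancel, Units.val_one, mul_vecMulVec,
    vecMulVec_mul]

/-- An opposite partner in a conjugation-stable generating class. -/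
theorem exists_partner_root [CharP F 2] {S : V → V → Prop} (hS : ∀ v φ, S v φ → Bloom.InT Γ v φ ∧ v ≠ 0 ∧ φ ≠ 0)
    (hconj : ∀ v φ, S v φ → ∀ g ∈ Γ, S ((g : M₃) *ᵥ v) (φ ᵥ* ((g⁻¹ : SL₃) : M₃)))
    (hgen : Γ = Subgroup.closure {g | g ∈ Γ ∧ ∃ v φ, S v φ ∧ (g : M₃) = 1 + vecMulVec v φ}) (hirr : Irr Γ)
    (h : S v φ) : ∃ w ψ, S w ψ ∧ φ ⬝ᵥ w ≠ 0 ∧ ψ ⬝ᵥ v ≠ 0 := by
  obtain ⟨⟨hi, -⟩, hv, hφ⟩ := hS v φ h
  have hex1 : ∃ w ψ, S w ψ ∧ ψ ⬝ᵥ v ≠ 0 := by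
    by_contra! h0
    obtain ⟨g, hg, hmove⟩ := hirr.1 v hv
    refine hmove 1 ?_
    rw [one_smul]
    rw [hgen] at hg
    clear hmove
    induction hg using Subgroup.closure_induction with
    | mem y hy =>
      obtain ⟨-, w, ψ, hw, e⟩ := hy
      rw [e, rankOne_mulVec, h0 w ψ hw, zero_smul, add_zero]
    | one => simp
    | mul a b _ _ ha hb => rw [Matrix.SpecialLinearGroup.coe_mul, ← mulVec_mulVec, hb, ha]
    | inv a _ ha =>
      conv_lhs => rw [← ha]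
      rw [mulVec_mulVec, ← Matrix.SpecialLinearGroup.coe_mul, inv_mul_cancel, Matrix.SpecialLinearGroup.coe_one,
        one_mulVec]
  have hex2 : ∃ w ψ, S w ψ ∧ φ ⬝ᵥ w ≠ 0 := by
    by_contra! h0
    obtain ⟨g, hg, hmove⟩ := hirr.2 φ hφ
    refine hmove 1 ?_
    rw [one_smul]
    rw [hgen] at hg
    clear hmove
    induction hg using Subgroup.closure_induction with
    | mem y hy =>
      obtain ⟨-, w, ψ, hw, e⟩ := hy
      rw [e, vecMul_rankOne, h0 w ψ hw, zero_smul, add_zero]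
    | one => simp
    | mul a b _ _ ha hb => rw [Matrix.SpecialLinearGroup.coe_mul, ← vecMul_vecMul, ha, hb]
    | inv a _ ha =>
      conv_lhs => rw [← ha]
      rw [vecMul_vecMul, ← Matrix.SpecialLinearGroup.coe_mul, mul_inv_cancel, Matrix.SpecialLinearGroup.coe_one,
        vecMul_one]
  obtain ⟨w, ψ, hw, hψv⟩ := hex1
  obtain ⟨u, χ, hu, hφu⟩ := hex2
  by_cases hφw : φ ⬝ᵥ w = 0
  swap; · exact ⟨w, ψ, hw, hφw, hψv⟩
  by_cases hχv : χ ⬝ᵥ v = 0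
  swap; · exact ⟨u, χ, hu, hφu, hχv⟩
  obtain ⟨⟨hiw, g₁, hg₁, e₁⟩, hw0, -⟩ := hS w ψ hw
  obtain ⟨⟨hiu, g, hg, e⟩, -, hχ⟩ := hS u χ hu
  have hχw : χ ⬝ᵥ w ≠ 0 := fun hχw =>
    hχ (eq_zero_of_three hχv hχw hiu hi hφw hφu hiw hψv hw0)
  have hinv : ((g⁻¹ : SL₃) : M₃) = 1 + vecMulVec u χ := by
    have h1 : (g : M₃) * (1 + vecMulVec u χ) = 1 := by
      rw [e, mul_add, add_mul, add_mul, one_mul, mul_one, one_mul, TV.vec_mul_vec, hiu, zero_smul, add_zero,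
        add_assoc]
      ext i j; simp [CharTwo.add_self_eq_zero]
    calc ((g⁻¹ : SL₃) : M₃) = ((g⁻¹ : SL₃) : M₃) * ((g : M₃) * (1 + vecMulVec u χ)) := by rw [h1, mul_one]
      _ = _ := by rw [← mul_assoc, ← Matrix.SpecialLinearGroup.coe_mul, inv_mul_cancel,
        Matrix.SpecialLinearGroup.coe_one, one_mul]
  refine ⟨_, _, hconj w ψ hw g hg, ?_, ?_⟩
  · rw [e, rankOne_mulVec, dotProduct_add, hφw, zero_add, dotProduct_smul, smul_eq_mul]
    exact mul_ne_zero hχw hφu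
  · rw [hinv, vecMul_rankOne, add_dotProduct, smul_dotProduct, hχv, smul_zero, add_zero]
    exact hψv

variable [Fintype F]

namespace Core

variable (K : Core Γ)

include K in
/-- The change to standard coordinates. -/
theorem exists_even_frame [CharP F 2] (hbig : ∃ v φ : V, v ≠ 0 ∧ φ ≠ 0 ∧ 3 ≤ (lam Γ v φ).ncard) :
    ∃ (P : GL (Fin 3) F) (F₀ : Subfield F), EvenFrame (moveGL P Γ) F₀ := by
  classical
  haveI : Fact (Nat.Prime 2) := ⟨Nat.prime_two⟩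
  obtain ⟨v₀, φ₀, hv₀, hφ₀, h3⟩ := hbig
  obtain ⟨a, ha, ha0⟩ := Set.exists_ne_of_one_lt_ncard (by omega : 1 < (lam Γ v₀ φ₀).ncard) 0
  have hi₀ : φ₀ ⬝ᵥ v₀ = 0 := by
    have := InT.incident (show Bloom.InT Γ v₀ (a • φ₀) from ha)
    rw [smul_dotProduct, smul_eq_mul] at this
    exact (mul_eq_zero.1 this).resolve_left ha0
  obtain ⟨n, hn⟩ := exists_two_pow (Γ := Γ) hi₀
  set k := (lam Γ v₀ φ₀).ncard with hk
  let S : V → V → Prop := fun v φ => Bloom.InT Γ v φ ∧ v ≠ 0 ∧ φ ≠ 0 ∧ (lam Γ v φ).ncard = k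
  have hS : ∀ v φ, S v φ → Bloom.InT Γ v φ ∧ v ≠ 0 ∧ φ ≠ 0 := fun v φ h => ⟨h.1, h.2.1, h.2.2.1⟩
  have hconj : ∀ v φ, S v φ → ∀ g ∈ Γ, S ((g : M₃) *ᵥ v) (φ ᵥ* ((g⁻¹ : SL₃) : M₃)) := fun v φ h g hg =>
    ⟨InT.conj h.1 hg, (conj_ne_zero h.2.1 h.2.2.1).1, (conj_ne_zero h.2.1 h.2.2.1).2, by
      rw [lam_conj hg]; exact h.2.2.2⟩
  set T : Set SL₃ := {g | g ∈ Γ ∧ ∃ v φ, S v φ ∧ (g : M₃) = 1 + vecMulVec v φ} with hT
  have hgen : Γ = Subgroup.closure T := by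
    refine (K.eq_of_normal ((Subgroup.closure_le _).2 fun g hg => hg.1) (fun g hg x hx => ?_) fun h => ?_).symm
    · induction hx using Subgroup.closure_induction with
      | mem y hy =>
        obtain ⟨hy, v, φ, hS', e⟩ := hy
        refine Subgroup.subset_closure ⟨mul_mem (mul_mem hg hy) (inv_mem hg), _, _, hconj v φ hS' g hg, ?_⟩
        rw [Matrix.SpecialLinearGroup.coe_mul, Matrix.SpecialLinearGroup.coe_mul, e, mul_add, add_mul, mul_one,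
          ← Matrix.SpecialLinearGroup.coe_mul, mul_inv_cancel, Matrix.SpecialLinearGroup.coe_one, mul_vecMulVec,
          vecMulVec_mul]
      | one => simp
      | mul a b _ _ ha hb =>
        rw [show g * (a * b) * g⁻¹ = (g * a * g⁻¹) * (g * b * g⁻¹) by group]
        exact mul_mem ha hb
      | inv a _ ha =>
        rw [show g * a⁻¹ * g⁻¹ = (g * a * g⁻¹)⁻¹ by group]
        exact inv_mem ha
    · obtain ⟨hi', t, ht, et⟩ := show Bloom.InT Γ v₀ (a • φ₀) from ha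
      have htT : t ∈ T := ⟨ht, v₀, a • φ₀, ⟨⟨hi', t, ht, et⟩, hv₀, smul_ne_zero ha0 hφ₀, lam_smul_ncard ha0 v₀ φ₀⟩, et⟩
      have h1 : pr t = 1 := Subgroup.mem_bot.1 (h ▸ Subgroup.mem_map_of_mem pr (Subgroup.subset_closure htT))
      obtain ⟨c, -, ec⟩ := pr_eq_one.1 h1
      obtain ⟨i, hi''⟩ := Function.ne_iff.1 hv₀
      obtain ⟨j, hj''⟩ := Function.ne_iff.1 (smul_ne_zero ha0 hφ₀)
      have hN : vecMulVec v₀ (a • φ₀) = (c - 1) • (1 : M₃) := by rw [sub_smul, one_smul, ← ec, et]; abel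
      have hsq : vecMulVec v₀ (a • φ₀) * vecMulVec v₀ (a • φ₀) = 0 := by rw [TV.vec_mul_vec, hi', zero_smul]
      rw [hN, smul_mul_assoc, one_mul, smul_smul] at hsq
      have hc : (c - 1) * (c - 1) = 0 := by simpa using congrFun (congrFun hsq 0) 0
      rw [mul_self_eq_zero.1 hc, zero_smul] at hN
      have := congrFun (congrFun hN i) j
      rw [vecMulVec_apply] at this
      exact mul_ne_zero hi'' hj'' this
  let F₀ : Subfield F := RingHom.eqLocusField (iterateFrobenius F 2 n) (RingHom.id F)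
  have hmem : ∀ x, x ∈ F₀ ↔ x ^ k = x := fun x => by
    show iterateFrobenius F 2 n x = x ↔ _
    rw [iterateFrobenius_def, hn]
  have key : ∀ v φ, S v φ → IsRoot Γ F₀ v φ ∧ Nat.card F₀ = k ∧ ∃ w ψ, S w ψ ∧ φ ⬝ᵥ w ≠ 0 ∧ ψ ⬝ᵥ v ≠ 0 := by
    intro v φ h
    obtain ⟨w, ψ, hw, hα, hβ⟩ := exists_partner_root hS hconj hgen K.irrB h
    obtain ⟨h1, hv, hφ, hc⟩ := id h
    have h1' : (1 : F) ∈ lam Γ w ψ := by
      show Bloom.InT Γ w ((1 : F) • ψ)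
      rw [one_smul]; exact hw.1
    obtain ⟨hfix, hiff⟩ := lam_eq_fix h1.1 hw.1.1 hα hβ h3 hc one_ne_zero h1'
    have hy := (hiff 1).1 (show Bloom.InT Γ v ((1 : F) • φ) by rw [one_smul]; exact h1)
    simp only [one_mul] at hy hiff
    set y := (φ ⬝ᵥ w) * (ψ ⬝ᵥ v) with hydef
    have hy0 : y ≠ 0 := mul_ne_zero hα hβ
    refine ⟨⟨hv, hφ, h1.1, fun c => (hiff c).trans ?_⟩, ?_, w, ψ, hw, hα, hβ⟩
    · rw [← hmem]
      exact ⟨fun hc' => by simpa [hy0] using F₀.div_mem hc' ((hmem y).2 hy),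
        fun hc' => F₀.mul_mem hc' ((hmem y).2 hy)⟩
    · rw [← hfix, ← Nat.card_coe_set_eq]
      exact Nat.card_congr (Equiv.subtypeEquivRight hmem)
  have h1 : Bloom.InT Γ v₀ (a • φ₀) := ha
  obtain ⟨hr, hcard, w, ψ, hw, hα, hβ⟩ := key v₀ (a • φ₀) ⟨h1, hv₀, smul_ne_zero ha0 hφ₀, lam_smul_ncard ha0 v₀ φ₀⟩
  obtain ⟨hr', -, -⟩ := key w ψ hw
  have hgenR : Γ = Subgroup.closure (roots Γ F₀) := by
    refine le_antisymm ?_ ((Subgroup.closure_le _).2 fun g hg => hg.1)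
    conv_lhs => rw [hgen]
    refine Subgroup.closure_mono ?_
    rintro g ⟨hg, v, φ, hS', e⟩
    exact ⟨hg, v, φ, (key v φ hS').1, e⟩
  set y := ((a • φ₀) ⬝ᵥ w) * (ψ ⬝ᵥ v₀) with hy
  have hy0 : y ≠ 0 := mul_ne_zero hα hβ
  have hyF : y ∈ F₀ := hr.prod hr' (hcard.symm ▸ h3)
  obtain ⟨P, hv', hw', hφ', hψ'⟩ := exists_coords_eq hr.incident hr'.incident hα hβ
  refine ⟨P, F₀, hcard.symm ▸ h3, K.irrB.moveGL P, gen_move hgenR P, ?_, ?_, fun L hL B h => ?_⟩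
  · have := (hr.move P).scale (F₀.inv_mem hyF) (inv_ne_zero hy0)
    rw [hv', hφ', smul_smul, ← hy, inv_mul_cancel₀ hy0, one_smul] at this
    exact this
  · have := (hr'.move P).swap_scalar hβ
    rw [← mulVec_smul, hw', hψ', smul_smul, inv_mul_cancel₀ hβ, one_smul] at this
    exact this
  · refine K.field L hL (B * P) fun g hg i j => ?_
    have := h _ (mem_moveGL.2 ⟨g, hg, rfl⟩) i j
    rw [conjGL_coe] at this
    simpa [_root_.mul_inv_rev, mul_assoc] using this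

end Core

end Cfsg.Agent.Classical.Residual
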