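import Cfsg.Agent.Lib.Classical.Residual.EvenFrame

/-!
The Lie ring spanned by the root groups over `F₀`.
-/

set_option autoImplicit false

namespace Cfsg.Agent.Classical.Residual

open Matrix
open Cfsg.Agent.Classical.Bloom
open Cfsg.Agent.Fus

variable {F : Type*} [Field F]

local notation "V" => (Fin 3 → F)
local notation "SL₃" => Matrix.SpecialLinearGroup (Fin 3) F
local notation "M₃" => Matrix (Fin 3) (Fin 3) F

/-- The additive group spanned by the root matrices. -/
def span0 (Γ : Subgroup (Matrix.SpecialLinearGroup (Fin 3) F)) (F₀ : Subfield F) :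
    AddSubgroup (Matrix (Fin 3) (Fin 3) F) :=
  AddSubgroup.closure {M | ∃ v φ : Fin 3 → F, IsRoot Γ F₀ v φ ∧ M = vecMulVec v φ}

/-- The first pattern of the off-block part. -/
def offA (x w : F) : Matrix (Fin 3) (Fin 3) F := !![0, 0, x; 0, 0, 0; 0, w, 0]

/-- The second pattern of the off-block part. -/
def offB (y u : F) : Matrix (Fin 3) (Fin 3) F := !![0, 0, 0; 0, 0, y; u, 0, 0]

variable {Γ : Subgroup (Matrix.SpecialLinearGroup (Fin 3) F)} {F₀ : Subfield F}

theorem span0_root {v φ : V} (h : IsRoot Γ F₀ v φ) : vecMulVec v φ ∈ span0 Γ F₀ :=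
  AddSubgroup.subset_closure ⟨v, φ, h, rfl⟩

theorem span0_smul {c : F} (hc : c ∈ F₀) {M : M₃} (hM : M ∈ span0 Γ F₀) : c • M ∈ span0 Γ F₀ := by
  induction hM using AddSubgroup.closure_induction with
  | mem M hM =>
    obtain ⟨v, φ, h, rfl⟩ := hM
    rcases eq_or_ne c 0 with rfl | hc0
    · rw [zero_smul]; exact zero_mem _
    · rw [← Matrix.vecMulVec_smul]; exact span0_root (h.scale hc hc0)
  | zero => rw [smul_zero]; exact zero_mem _
  | add a b _ _ ha hb => rw [smul_add]; exact add_mem ha hb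
  | neg a _ ha => rw [smul_neg]; exact neg_mem ha

theorem span0_move {P : GL (Fin 3) F} {M : M₃} (hM : M ∈ span0 Γ F₀) :
    (P : M₃) * M * ((P⁻¹ : GL (Fin 3) F) : M₃) ∈ span0 (moveGL P Γ) F₀ := by
  induction hM using AddSubgroup.closure_induction with
  | mem M hM =>
    obtain ⟨v, φ, h, rfl⟩ := hM
    rw [mul_vecMulVec, vecMulVec_mul]
    exact span0_root (h.move P)
  | zero => simp
  | add a b _ _ ha hb => rw [mul_add, add_mul]; exact add_mem ha hb
  | neg a _ ha => rw [mul_neg, neg_mul]; exact neg_mem ha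

theorem span0_trace_zero {M : M₃} (hM : M ∈ span0 Γ F₀) : trace M = 0 := by
  induction hM using AddSubgroup.closure_induction with
  | mem M hM =>
    obtain ⟨v, φ, h, rfl⟩ := hM
    rw [trace_vecMulVec, dotProduct_comm, h.incident]
  | zero => simp
  | add a b _ _ ha hb => rw [trace_add, ha, hb, add_zero]
  | neg a _ ha => rw [trace_neg, ha, neg_zero]

variable [Fintype F] [CharP F 2]

theorem span0_trace (h3 : 3 ≤ Nat.card F₀) {M N : M₃} (hM : M ∈ span0 Γ F₀) (hN : N ∈ span0 Γ F₀) :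
    trace (M * N) ∈ F₀ := by
  induction hM using AddSubgroup.closure_induction with
  | mem M hM =>
    obtain ⟨v, φ, h, rfl⟩ := hM
    induction hN using AddSubgroup.closure_induction with
    | mem N hN =>
      obtain ⟨w, ψ, h', rfl⟩ := hN
      rw [TV.vec_mul_vec, trace_smul, trace_vecMulVec, dotProduct_comm v ψ, smul_eq_mul]
      exact h.prod h' h3
    | zero => simp
    | add a b _ _ ha hb => rw [mul_add, trace_add]; exact F₀.add_mem ha hb
    | neg a _ ha => rw [mul_neg, trace_neg]; exact F₀.neg_mem ha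
  | zero => simp
  | add a b _ _ ha hb => rw [add_mul, trace_add]; exact F₀.add_mem ha hb
  | neg a _ ha => rw [neg_mul, trace_neg]; exact F₀.neg_mem ha

omit [Fintype F] in
theorem char2_neg (M : M₃) : -M = M := by
  ext i j
  rw [Matrix.neg_apply, CharTwo.neg_eq]

theorem span0_bracket (h3 : 3 ≤ Nat.card F₀) {M N : M₃} (hM : M ∈ span0 Γ F₀) (hN : N ∈ span0 Γ F₀) :
    N * M + M * N ∈ span0 Γ F₀ := by
  induction hN using AddSubgroup.closure_induction with
  | mem N hN =>
    obtain ⟨w, ψ, h', rfl⟩ := hN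
    induction hM using AddSubgroup.closure_induction with
    | mem M hM =>
      obtain ⟨v, φ, h, rfl⟩ := hM
      obtain ⟨-, g, hg, e⟩ := h'.inT
      have hinv : ((g⁻¹ : SL₃) : M₃) = (g : M₃) := by
        have h1 : (g : M₃) * (g : M₃) = 1 := by
          rw [e, mul_add, add_mul, add_mul, one_mul, mul_one, one_mul, TV.vec_mul_vec, h'.incident, zero_smul,
            add_zero, add_assoc]
          ext i j; simp [CharTwo.add_self_eq_zero]
        calc ((g⁻¹ : SL₃) : M₃) = ((g⁻¹ : SL₃) : M₃) * ((g : M₃) * (g : M₃)) := by rw [h1, mul_one]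
          _ = _ := by rw [← mul_assoc, ← Matrix.SpecialLinearGroup.coe_mul, inv_mul_cancel,
              Matrix.SpecialLinearGroup.coe_one, one_mul]
      have hc := span0_root (h.conj hg)
      rw [← mul_vecMulVec, ← vecMulVec_mul, hinv, e, ← mul_assoc] at hc
      set N := vecMulVec w ψ with hN
      set M := vecMulVec v φ with hM
      have hNMN : N * M * N = ((φ ⬝ᵥ w) * (ψ ⬝ᵥ v)) • N := by
        rw [hN, hM, TV.vec_mul_vec, smul_mul_assoc, TV.vec_mul_vec, smul_smul, mul_comm]
      have hz := h.prod h' h3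
      have : N * M + M * N = (1 + N) * M * (1 + N) - M - ((φ ⬝ᵥ w) * (ψ ⬝ᵥ v)) • N := by
        rw [← hNMN]; simp only [add_mul, mul_add, one_mul, mul_one]; abel
      rw [this]
      exact sub_mem (sub_mem hc (span0_root h)) (span0_smul hz (span0_root h'))
    | zero => simp
    | add a b _ _ ha hb =>
      convert add_mem ha hb using 1
      rw [mul_add, add_mul]; abel
    | neg a _ ha =>
      convert neg_mem ha using 1
      rw [mul_neg, neg_mul, neg_add]
  | zero => simp
  | add a b _ _ ha hb =>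
    convert add_mem ha hb using 1
    rw [mul_add, add_mul]; abel
  | neg a _ ha =>
    convert neg_mem ha using 1
    rw [mul_neg, neg_mul, neg_add]

namespace EvenFrame

variable (K : EvenFrame Γ F₀)

include K in
omit [Fintype F] [CharP F 2] in
theorem e01 : (!![0, 1, 0; 0, 0, 0; 0, 0, 0] : M₃) ∈ span0 Γ F₀ := by
  convert span0_root K.up using 1
  ext i j; fin_cases i <;> fin_cases j <;> simp [vecMulVec_apply]

include K in
omit [Fintype F] [CharP F 2] in
theorem e10 : (!![0, 0, 0; 1, 0, 0; 0, 0, 0] : M₃) ∈ span0 Γ F₀ := by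
  convert span0_root K.dn using 1
  ext i j; fin_cases i <;> fin_cases j <;> simp [vecMulVec_apply]

include K in
theorem hdiag : (!![1, 0, 0; 0, 1, 0; 0, 0, 0] : M₃) ∈ span0 Γ F₀ := by
  convert span0_bracket K.three K.e10 K.e01 using 1
  ext i j; fin_cases i <;> fin_cases j <;> simp [Matrix.mul_apply, Fin.sum_univ_three]

include K in
theorem upper_entry {M : M₃} (hM : M ∈ span0 Γ F₀) : M 0 1 ∈ F₀ ∧ M 1 0 ∈ F₀ ∧ M 0 0 + M 1 1 ∈ F₀ := by
  have h1 := span0_trace K.three hM K.e10
  have h2 := span0_trace K.three hM K.e01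
  have h3 := span0_trace K.three hM K.hdiag
  simp [trace_fin_three, Matrix.mul_apply, Fin.sum_univ_three] at h1 h2 h3
  exact ⟨h1, h2, h3⟩

omit [Fintype F] in
theorem trace_split {M : M₃} (hM : M ∈ span0 Γ F₀) : M 2 2 = M 0 0 + M 1 1 := by
  have h := span0_trace_zero hM
  rw [trace_fin_three] at h
  exact (CharTwo.add_eq_zero.1 h).symm

include K in
/-- The off-block parts of the elements. -/
theorem off_mem {M : M₃} (hM : M ∈ span0 Γ F₀) :
    offA (M 0 2) (M 2 1) ∈ span0 Γ F₀ ∧ offA (M 1 2) (M 2 0) ∈ span0 Γ F₀ := by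
  have hoff : offA (M 0 2) (M 2 1) + offB (M 1 2) (M 2 0) ∈ span0 Γ F₀ := by
    convert span0_bracket K.three hM K.hdiag using 1
    ext i j; fin_cases i <;> fin_cases j <;>
      simp [offA, offB, Matrix.mul_apply, Matrix.vecMul, dotProduct, Fin.sum_univ_three, CharTwo.add_self_eq_zero]
  have hA : offA (M 1 2) (M 2 0) ∈ span0 Γ F₀ := by
    convert span0_bracket K.three hoff K.e01 using 1
    ext i j; fin_cases i <;> fin_cases j <;> simp [offA, offB, Matrix.mul_apply, Fin.sum_univ_three]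
  have hB : offB (M 0 2) (M 2 1) ∈ span0 Γ F₀ := by
    convert span0_bracket K.three hoff K.e10 using 1
    ext i j; fin_cases i <;> fin_cases j <;> simp [offA, offB, Matrix.mul_apply, Fin.sum_univ_three]
  refine ⟨?_, hA⟩
  convert span0_bracket K.three hB K.e01 using 1
  ext i j; fin_cases i <;> fin_cases j <;> simp [offA, offB, Matrix.mul_apply, Fin.sum_univ_three]

include K in
theorem offB_mem {x w : F} (h : offA x w ∈ span0 Γ F₀) : offB x w ∈ span0 Γ F₀ := by
  convert span0_bracket K.three h K.e10 using 1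
  ext i j; fin_cases i <;> fin_cases j <;> simp [offA, offB, Matrix.mul_apply, Fin.sum_univ_three]

omit [Fintype F] [CharP F 2] in
theorem offA_add {x w x' w' : F} (h : offA x w ∈ span0 Γ F₀) (h' : offA x' w' ∈ span0 Γ F₀) :
    offA (x + x') (w + w') ∈ span0 Γ F₀ := by
  convert add_mem h h' using 1
  ext i j; fin_cases i <;> fin_cases j <;> simp [offA]

omit [Fintype F] [CharP F 2] in
theorem offA_smul {c x w : F} (hc : c ∈ F₀) (h : offA x w ∈ span0 Γ F₀) : offA (c * x) (c * w) ∈ span0 Γ F₀ := by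
  convert span0_smul hc h using 1
  ext i j; fin_cases i <;> fin_cases j <;> simp [offA]

include K in
theorem form_mem {x w x' w' : F} (h : offA x w ∈ span0 Γ F₀) (h' : offA x' w' ∈ span0 Γ F₀) :
    x * w' + w * x' ∈ F₀ := by
  have := span0_trace K.three h (K.offB_mem h')
  simpa [trace_fin_three, offA, offB, Matrix.mul_apply, Fin.sum_univ_three] using this

include K in
theorem diag_act {d₀ d₁ x w : F} (hd : (!![d₀, 0, 0; 0, d₁, 0; 0, 0, d₀ + d₁] : M₃) ∈ span0 Γ F₀)
    (h : offA x w ∈ span0 Γ F₀) : offA (d₁ * x) (d₀ * w) ∈ span0 Γ F₀ := by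
  convert span0_bracket K.three h hd using 1
  ext i j; fin_cases i <;> fin_cases j <;> simp [offA, Matrix.mul_apply, Fin.sum_univ_three]
  · linear_combination -(d₀ * x) * CharTwo.two_eq_zero (R := F)
  · linear_combination -(d₁ * w) * CharTwo.two_eq_zero (R := F)

include K in
theorem triple {x w x' w' x'' w'' : F} (h : offA x w ∈ span0 Γ F₀) (h' : offA x' w' ∈ span0 Γ F₀)
    (h'' : offA x'' w'' ∈ span0 Γ F₀) : offA (x' * w * x'') (x * w' * w'') ∈ span0 Γ F₀ := by
  refine K.diag_act ?_ h''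
  convert span0_bracket K.three (K.offB_mem h') h using 1
  ext i j; fin_cases i <;> fin_cases j <;> simp [offA, offB, Matrix.mul_apply, Fin.sum_univ_three] <;> ring

include K in
theorem diag_mem {M : M₃} (hM : M ∈ span0 Γ F₀) :
    (!![M 0 0, 0, 0; 0, M 1 1, 0; 0, 0, M 0 0 + M 1 1] : M₃) ∈ span0 Γ F₀ := by
  have hoff : offA (M 0 2) (M 2 1) + offB (M 1 2) (M 2 0) ∈ span0 Γ F₀ :=
    add_mem (K.off_mem hM).1 (K.offB_mem (K.off_mem hM).2)
  obtain ⟨h01, h10, -⟩ := K.upper_entry hM
  convert sub_mem (sub_mem (sub_mem hM hoff) (span0_smul h01 K.e01)) (span0_smul h10 K.e10) using 1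
  ext i j; fin_cases i <;> fin_cases j <;> simp [offA, offB, trace_split hM]

include K in
theorem exists_center_root {χ : V} (hχ : χ ≠ 0) : ∃ v φ, IsRoot Γ F₀ v φ ∧ χ ⬝ᵥ v ≠ 0 := by
  by_contra! h
  obtain ⟨g, hg, hmove⟩ := K.irr.2 χ hχ
  refine hmove 1 ?_
  rw [one_smul]
  rw [K.gen] at hg
  clear hmove
  induction hg using Subgroup.closure_induction with
  | mem x hx =>
    obtain ⟨-, v, φ, hr, e⟩ := hx
    rw [e, vecMul_rankOne, h v φ hr, zero_smul, add_zero]
  | one => simp
  | mul a b _ _ ha hb => rw [Matrix.SpecialLinearGroup.coe_mul, ← vecMul_vecMul, ha, hb]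
  | inv a _ ha =>
    conv_lhs => rw [← ha]
    rw [vecMul_vecMul, ← Matrix.SpecialLinearGroup.coe_mul, mul_inv_cancel, Matrix.SpecialLinearGroup.coe_one,
      vecMul_one]

include K in
theorem exists_axis_root {x : V} (hx : x ≠ 0) : ∃ v φ, IsRoot Γ F₀ v φ ∧ φ ⬝ᵥ x ≠ 0 := by
  by_contra! h
  obtain ⟨g, hg, hmove⟩ := K.irr.1 x hx
  refine hmove 1 ?_
  rw [one_smul]
  rw [K.gen] at hg
  clear hmove
  induction hg using Subgroup.closure_induction with
  | mem y hy =>
    obtain ⟨-, v, φ, hr, e⟩ := hy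
    rw [e, rankOne_mulVec, h v φ hr, zero_smul, add_zero]
  | one => simp
  | mul a b _ _ ha hb => rw [Matrix.SpecialLinearGroup.coe_mul, ← mulVec_mulVec, hb, ha]
  | inv a _ ha =>
    conv_lhs => rw [← ha]
    rw [mulVec_mulVec, ← Matrix.SpecialLinearGroup.coe_mul, inv_mul_cancel, Matrix.SpecialLinearGroup.coe_one,
      one_mulVec]

include K in
omit [Fintype F] in
theorem plane_or (v φ : V) (hi : φ ⬝ᵥ v = 0) (h1 : φ 0 * v 2 = 0) (h2 : φ 1 * v 2 = 0) : v 2 = 0 ∨ φ 2 = 0 := by
  rcases eq_or_ne (v 2) 0 with h | h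
  · exact Or.inl h
  · right
    have e0 : φ 0 = 0 := (mul_eq_zero.1 h1).resolve_right h
    have e1 : φ 1 = 0 := (mul_eq_zero.1 h2).resolve_right h
    simp [dotProduct, Fin.sum_univ_three, e0, e1] at hi
    exact hi.resolve_right h

include K in
theorem exists_mixed : ∃ x w : F, x ≠ 0 ∧ w ≠ 0 ∧ offA x w ∈ span0 Γ F₀ := by
  have hw : ∃ x w, w ≠ 0 ∧ offA x w ∈ span0 Γ F₀ := by
    by_contra! h
    obtain ⟨v, φ, hr, hv⟩ := K.exists_center_root (χ := ![0, 0, 1]) (by simp)
    simp [dotProduct, Fin.sum_univ_three] at hv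
    obtain ⟨ha, hb⟩ := K.off_mem (span0_root hr)
    have e1 : φ 1 * v 2 = 0 := by
      by_contra e; exact h _ _ (by simpa [vecMulVec_apply, mul_comm] using e) ha
    have e0 : φ 0 * v 2 = 0 := by
      by_contra e; exact h _ _ (by simpa [vecMulVec_apply, mul_comm] using e) hb
    rcases K.plane_or v φ hr.incident e0 e1 with e | e
    · exact hv e
    · have f0 : φ 0 = 0 := (mul_eq_zero.1 e0).resolve_right hv
      have f1 : φ 1 = 0 := (mul_eq_zero.1 e1).resolve_right hv
      exact hr.right (funext fun i => by fin_cases i <;> simp [f0, f1, e])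
  have hx : ∃ x w, x ≠ 0 ∧ offA x w ∈ span0 Γ F₀ := by
    by_contra! h
    obtain ⟨v, φ, hr, hφ⟩ := K.exists_axis_root (x := ![0, 0, 1]) (by simp)
    simp [dotProduct, Fin.sum_univ_three] at hφ
    obtain ⟨ha, hb⟩ := K.off_mem (span0_root hr)
    have e0 : v 0 * φ 2 = 0 := by
      by_contra e; exact h _ _ (by simpa [vecMulVec_apply] using e) ha
    have e1 : v 1 * φ 2 = 0 := by
      by_contra e; exact h _ _ (by simpa [vecMulVec_apply] using e) hb
    have f0 : v 0 = 0 := (mul_eq_zero.1 e0).resolve_right hφ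
    have f1 : v 1 = 0 := (mul_eq_zero.1 e1).resolve_right hφ
    have hi := hr.incident
    simp [dotProduct, Fin.sum_univ_three, f0, f1, hφ] at hi
    exact hr.left (funext fun i => by fin_cases i <;> simp [f0, f1, hi])
  obtain ⟨x, w, hw0, hA⟩ := hw
  obtain ⟨x', w', hx0, hA'⟩ := hx
  by_cases h1 : x = 0
  · by_cases h2 : w' = 0
    · exact ⟨x + x', w + w', by simp [h1, hx0], by simp [h2, hw0], offA_add hA hA'⟩
    · exact ⟨x', w', hx0, h2, hA'⟩
  · exact ⟨x, w, h1, hw0, hA⟩

include K in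
/-- The scaling of the third coordinate. -/
theorem exists_unit_pair : ∃ (D : GL (Fin 3) F) (γ : F), γ ≠ 0 ∧ EvenFrame (moveGL D Γ) F₀ ∧
    offA 1 γ ∈ span0 (moveGL D Γ) F₀ := by
  obtain ⟨x, w, hx, hw, hA⟩ := K.exists_mixed
  let D : GL (Fin 3) F := Matrix.GeneralLinearGroup.mkOfDetNeZero (Matrix.diagonal ![1, 1, x])
    (by simp [Fin.prod_univ_three, hx])
  have hD : (D : M₃) = Matrix.diagonal ![1, 1, x] := rfl
  have hD' : ((D⁻¹ : GL (Fin 3) F) : M₃) = Matrix.diagonal ![1, 1, x⁻¹] := by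
    rw [Matrix.coe_units_inv]
    refine Matrix.inv_eq_right_inv ?_
    rw [hD, diagonal_mul_diagonal, ← diagonal_one]
    congr 1
    funext j; fin_cases j <;> simp [hx]
  have hmoved : ∀ (i j : V), ((D : M₃) *ᵥ i = i) → (j ᵥ* ((D⁻¹ : GL (Fin 3) F) : M₃) = j) → IsRoot Γ F₀ i j →
      IsRoot (moveGL D Γ) F₀ i j := fun i j h1 h2 h => by
    have := h.move D
    rwa [h1, h2] at this
  refine ⟨D, x * w, mul_ne_zero hx hw, ⟨K.three, K.irr.moveGL D, gen_move K.gen D, hmoved _ _ ?_ ?_ K.up,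
    hmoved _ _ ?_ ?_ K.dn, fun L hL B h => ?_⟩, ?_⟩
  · funext i; fin_cases i <;> simp [hD, mulVec_diagonal]
  · funext i; fin_cases i <;> simp [hD', vecMul_diagonal]
  · funext i; fin_cases i <;> simp [hD, mulVec_diagonal]
  · funext i; fin_cases i <;> simp [hD', vecMul_diagonal]
  · refine K.field L hL (B * D) fun g hg i j => ?_
    have := h _ (mem_moveGL.2 ⟨g, hg, rfl⟩) i j
    rw [conjGL_coe] at this
    simpa [_root_.mul_inv_rev, mul_assoc] using this
  · convert span0_move (P := D) hA using 1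
    ext i j; fin_cases i <;> fin_cases j <;> simp [offA, hD, hD', hx, mul_comm]

end EvenFrame

end Cfsg.Agent.Classical.Residual
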