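import Cfsg.Agent.Lib.Classical.Residual.Whole
import Cfsg.Agent.Lib.Classical.Residual.EvenDickson

/-!
Root groups of transvections in characteristic two.
-/

set_option autoImplicit false

namespace Cfsg.Agent.Classical.Residual

open Matrix
open Cfsg.Agent.Classical.Bloom
open Cfsg.Agent.Fus

variable {F : Type*} [Field F]

local notation "V" => (Fin 3 → F)
local notation "SL₃" => Matrix.SpecialLinearGroup (Fin 3) F
local notation "M₃" => Matrix (Fin 3) (Fin 3) F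

/-- The coefficients of a root group. -/
def lam (Γ : Subgroup (Matrix.SpecialLinearGroup (Fin 3) F)) (v φ : Fin 3 → F) : Set F := {c | Bloom.InT Γ v (c • φ)}

/-- A root group over the subfield `F₀`. -/
structure IsRoot (Γ : Subgroup (Matrix.SpecialLinearGroup (Fin 3) F)) (F₀ : Subfield F) (v φ : Fin 3 → F) :
    Prop where
  left : v ≠ 0
  right : φ ≠ 0
  incident : φ ⬝ᵥ v = 0
  mem : ∀ c, Bloom.InT Γ v (c • φ) ↔ c ∈ F₀

variable {Γ : Subgroup (Matrix.SpecialLinearGroup (Fin 3) F)} {v φ w ψ : Fin 3 → F}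

theorem lam_pair [Fintype F] [CharP F 2] (hi : φ ⬝ᵥ v = 0) (hi' : ψ ⬝ᵥ w = 0) (hα : φ ⬝ᵥ w ≠ 0)
    (hβ : ψ ⬝ᵥ v ≠ 0) (h3 : 3 ≤ (lam Γ v φ).ncard) {b : F} (hb : b ≠ 0) (hbm : b ∈ lam Γ w ψ) :
    (lam Γ w ψ).ncard = (lam Γ v φ).ncard ∧ ∀ a ∈ lam Γ v φ, ∀ c ∈ lam Γ w ψ,
      (a * c * ((φ ⬝ᵥ w) * (ψ ⬝ᵥ v))) ^ (lam Γ v φ).ncard = a * c * ((φ ⬝ᵥ w) * (ψ ⬝ᵥ v)) := by
  classical
  let ω := TV.block hi hi' hα hβ
  let X : Subgroup (Matrix.SpecialLinearGroup (Fin 2) F) :=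
    { carrier := {g | ∃ y ∈ Γ, (y : M₃) = ω g}
      one_mem' := ⟨1, one_mem Γ, by rw [map_one, Matrix.SpecialLinearGroup.coe_one]⟩
      mul_mem' := by
        rintro a c ⟨y, hy, ey⟩ ⟨z, hz, ez⟩
        exact ⟨y * z, mul_mem hy hz, by rw [Matrix.SpecialLinearGroup.coe_mul, map_mul, ey, ez]⟩
      inv_mem' := by
        rintro a ⟨y, hy, ey⟩
        refine ⟨y⁻¹, inv_mem hy, ?_⟩
        calc ((y⁻¹ : SL₃) : M₃) = ((y⁻¹ : SL₃) : M₃) * (ω a * ω a⁻¹) := by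
              rw [← map_mul, mul_inv_cancel, map_one, mul_one]
          _ = _ := by rw [← mul_assoc, ← ey, ← Matrix.SpecialLinearGroup.coe_mul, inv_mul_cancel,
              Matrix.SpecialLinearGroup.coe_one, one_mul] }
  have hω : ∀ g, ω g = TV.block hi hi' hα hβ g := fun g => rfl
  clear_value ω
  have hupp : ∀ a : F, upp a ∈ X ↔ a * (φ ⬝ᵥ w)⁻¹ ∈ lam Γ v φ := fun a => by
    have e : ω (upp a) = 1 + vecMulVec v ((a * (φ ⬝ᵥ w)⁻¹) • φ) := by
      rw [hω]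
      refine (TV.block_upper hi hi' hα hβ (g := upp a) (by simp)).trans ?_
      simp [TV.mat, Matrix.vecMulVec_smul]
    refine ⟨fun ⟨y, hy, ey⟩ => ⟨by rw [smul_dotProduct, hi, smul_zero], y, hy, ey.trans e⟩,
      fun ⟨_, y, hy, ey⟩ => ⟨y, hy, ey.trans e.symm⟩⟩
  have hlow : ∀ a : F, low a ∈ X ↔ a * (ψ ⬝ᵥ v)⁻¹ ∈ lam Γ w ψ := fun a => by
    have e : ω (low a) = 1 + vecMulVec w ((a * (ψ ⬝ᵥ v)⁻¹) • ψ) := by
      rw [hω]
      refine (TV.block_lower hi hi' hα hβ (g := low a) (by simp)).trans ?_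
      simp [TV.mat, Matrix.vecMulVec_smul]
    refine ⟨fun ⟨y, hy, ey⟩ => ⟨by rw [smul_dotProduct, hi', smul_zero], y, hy, ey.trans e⟩,
      fun ⟨_, y, hy, ey⟩ => ⟨y, hy, ey.trans e.symm⟩⟩
  have hA : {a : F | upp a ∈ X} = (fun a => a * (φ ⬝ᵥ w)) '' lam Γ v φ := by
    ext a
    rw [Set.mem_setOf_eq, hupp]
    constructor
    · exact fun h => ⟨_, h, inv_mul_cancel_right₀ hα a⟩
    · rintro ⟨c, hc, rfl⟩
      rwa [mul_inv_cancel_right₀ hα]
  have hB : {a : F | low a ∈ X} = (fun a => a * (ψ ⬝ᵥ v)) '' lam Γ w ψ := by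
    ext a
    rw [Set.mem_setOf_eq, hlow]
    constructor
    · exact fun h => ⟨_, h, inv_mul_cancel_right₀ hβ a⟩
    · rintro ⟨c, hc, rfl⟩
      rwa [mul_inv_cancel_right₀ hβ]
  have hcA : {a : F | upp a ∈ X}.ncard = (lam Γ v φ).ncard := by
    rw [hA, Set.ncard_image_of_injective _ (mul_left_injective₀ hα)]
  obtain ⟨hcard, htr⟩ := dickson_even X (by rw [hcA]; exact h3) (b := b * (ψ ⬝ᵥ v)) (mul_ne_zero hb hβ)
    ((hlow _).2 (by rwa [mul_inv_cancel_right₀ hβ]))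
  rw [hcA] at hcard htr
  refine ⟨by rw [← hcard, hB, Set.ncard_image_of_injective _ (mul_left_injective₀ hβ)], fun a ha c hc => ?_⟩
  have := htr (upp (a * (φ ⬝ᵥ w)) * low (c * (ψ ⬝ᵥ v))) (mul_mem ((hupp _).2 (by rwa [mul_inv_cancel_right₀ hα]))
    ((hlow _).2 (by rwa [mul_inv_cancel_right₀ hβ])))
  have e : trace ((upp (a * (φ ⬝ᵥ w)) * low (c * (ψ ⬝ᵥ v)) : Matrix.SpecialLinearGroup (Fin 2) F) :
      Matrix (Fin 2) (Fin 2) F) = a * c * ((φ ⬝ᵥ w) * (ψ ⬝ᵥ v)) := by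
    simp [trace_fin_two, Matrix.mul_apply, Fin.sum_univ_two]
    linear_combination (CharTwo.two_eq_zero (R := F))
  rwa [e] at this

theorem lam_conj {g : SL₃} (hg : g ∈ Γ) (v φ : V) :
    lam Γ ((g : M₃) *ᵥ v) (φ ᵥ* ((g⁻¹ : SL₃) : M₃)) = lam Γ v φ := by
  ext c
  refine ⟨fun h => ?_, fun h => ?_⟩
  · have := InT.conj h (inv_mem hg)
    rwa [inv_inv, mulVec_mulVec, smul_vecMul, vecMul_vecMul, ← Matrix.SpecialLinearGroup.coe_mul, inv_mul_cancel,
      Matrix.SpecialLinearGroup.coe_one, one_mulVec, vecMul_one] at this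
  · have := InT.conj h hg
    rwa [smul_vecMul] at this

theorem lam_smul_ncard {a : F} (ha : a ≠ 0) (v φ : V) : (lam Γ v (a • φ)).ncard = (lam Γ v φ).ncard := by
  rw [← Set.ncard_image_of_injective (lam Γ v (a • φ)) (mul_left_injective₀ ha)]
  congr 1
  ext c
  refine ⟨?_, fun h => ⟨c / a, ?_, div_mul_cancel₀ c ha⟩⟩
  · rintro ⟨d, hd, rfl⟩
    show Bloom.InT Γ v ((d * a) • φ)
    rwa [← smul_smul]
  · show Bloom.InT Γ v ((c / a) • a • φ)
    rwa [smul_smul, div_mul_cancel₀ c ha]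

section Fix

variable [Fintype F] [CharP F 2] (hi : φ ⬝ᵥ v = 0) (hi' : ψ ⬝ᵥ w = 0) (hα : φ ⬝ᵥ w ≠ 0) (hβ : ψ ⬝ᵥ v ≠ 0)
  {k : ℕ} (hk : 3 ≤ k) (hv : (lam Γ v φ).ncard = k) {b : F} (hb : b ≠ 0) (hbm : b ∈ lam Γ w ψ)

include hi hi' hα hβ hk hv hb hbm in
/-- A root group is an image of the fixed points of the Frobenius power. -/
theorem lam_eq_fix : {x : F | x ^ k = x}.ncard = k ∧
    ∀ c, c ∈ lam Γ v φ ↔ (c * (b * ((φ ⬝ᵥ w) * (ψ ⬝ᵥ v)))) ^ k = c * (b * ((φ ⬝ᵥ w) * (ψ ⬝ᵥ v))) := by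
  classical
  obtain ⟨-, hmul⟩ := lam_pair hi hi' hα hβ (hv ▸ hk) hb hbm
  set y := b * ((φ ⬝ᵥ w) * (ψ ⬝ᵥ v)) with hy
  have hy0 : y ≠ 0 := mul_ne_zero hb (mul_ne_zero hα hβ)
  have hsub : (fun c => c * y) '' lam Γ v φ ⊆ {x : F | x ^ k = x} := by
    rintro _ ⟨a, ha, rfl⟩
    have := hmul a ha b hbm
    rw [hv] at this
    show (a * y) ^ k = a * y
    rwa [hy, ← mul_assoc]
  have hle : {x : F | x ^ k = x}.ncard ≤ k := by
    have hP : (Polynomial.X ^ k - Polynomial.X : Polynomial F) ≠ 0 := FiniteField.X_pow_card_sub_X_ne_zero F (by omega)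
    have := Set.ncard_le_ncard (s := {x : F | x ^ k = x})
      (t := ((Polynomial.X ^ k - Polynomial.X : Polynomial F).roots.toFinset : Set F))
      (fun a ha => by
        rw [Finset.mem_coe, Multiset.mem_toFinset, Polynomial.mem_roots hP]
        simp [show a ^ k = a from ha])
    rw [Set.ncard_coe_finset] at this
    refine this.trans ((Multiset.toFinset_card_le _).trans ((Polynomial.card_roots' _).trans ?_))
    rw [FiniteField.X_pow_card_sub_X_natDegree_eq F (by omega)]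
  have himg : ((fun c => c * y) '' lam Γ v φ).ncard = k := by
    rw [Set.ncard_image_of_injective _ (mul_left_injective₀ hy0), hv]
  have heq := Set.eq_of_subset_of_ncard_le hsub (by rw [himg]; exact hle)
  refine ⟨by rw [← heq, himg], fun c => ?_⟩
  rw [← Set.mem_setOf_eq (p := fun x : F => x ^ k = x), ← heq]
  exact ((mul_left_injective₀ hy0).mem_set_image).symm

end Fix

theorem exists_two_pow [Fintype F] [CharP F 2] (hi : φ ⬝ᵥ v = 0) :
    ∃ n, (lam Γ v φ).ncard = 2 ^ n := by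
  haveI : Fact (Nat.Prime 2) := ⟨Nat.prime_two⟩
  let A : AddSubgroup F :=
    { carrier := lam Γ v φ
      add_mem' := fun {a c} ha hc => by
        show Bloom.InT Γ v ((a + c) • φ)
        rw [add_smul]
        exact InT.add_right ha hc
      zero_mem' := by
        show Bloom.InT Γ v ((0 : F) • φ)
        rw [zero_smul]
        exact inT_zero_right Γ v
      neg_mem' := fun {a} ha => by rwa [CharTwo.neg_eq] }
  obtain ⟨f, -, hf⟩ := FiniteField.card F 2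
  have h : Nat.card A ∣ 2 ^ (f : ℕ) := by rw [← hf, ← Nat.card_eq_fintype_card]; exact AddSubgroup.card_addSubgroup_dvd_card A
  obtain ⟨n, -, hn⟩ := (Nat.dvd_prime_pow Nat.prime_two).1 h
  exact ⟨n, by rw [← Nat.card_coe_set_eq]; exact hn⟩

end Cfsg.Agent.Classical.Residual
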