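import Cfsg.Agent.Lib.Classical.Residual.EvenWhole

/-!
The twisted case is the special unitary group.
-/

set_option autoImplicit false

namespace Cfsg.Agent.Classical.Residual

open Matrix
open Cfsg.Agent.Classical.Bloom
open Cfsg.Agent.Fus

variable {F : Type*} [Field F]

local notation "V" => (Fin 3 → F)
local notation "SL₃" => Matrix.SpecialLinearGroup (Fin 3) F
local notation "M₃" => Matrix (Fin 3) (Fin 3) F

/-- The functional of a vector for the twisted form. -/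
def phiJ (σ : F →+* F) (γ : F) (u : Fin 3 → F) : Fin 3 → F := (σ ∘ u) ᵥ* jMat γ

/-- The data of the twisted case. -/
structure Twisted (Γ : Subgroup (Matrix.SpecialLinearGroup (Fin 3) F)) (F₀ : Subfield F) (σ : F →+* F) (γ z : F) :
    Prop extends EvenFrame Γ F₀ where
  char2 : CharP F 2
  gamma_mem : γ ∈ F₀
  gamma_ne : γ ≠ 0
  frob : ∀ x, σ x = x ^ Nat.card F₀
  card : Nat.card F = Nat.card F₀ ^ 2
  hz : σ z = z + γ⁻¹
  skew : ∀ v φ, IsRoot Γ F₀ v φ →
    ((vecMulVec v φ).map σ)ᵀ * jMat γ = jMat γ * vecMulVec v φ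

namespace Twisted

variable [Fintype F] {Γ : Subgroup (Matrix.SpecialLinearGroup (Fin 3) F)} {F₀ : Subfield F} {σ : F →+* F} {γ z : F}
  (T : Twisted Γ F₀ σ γ z)

include T in
theorem fix_iff {x : F} : x ∈ F₀ ↔ σ x = x := by
  rw [T.frob]; exact mem_iff_pow_card F₀

include T in
theorem invol (x : F) : σ (σ x) = x := by
  rw [T.frob, T.frob, ← pow_mul, ← sq, ← T.card, Nat.card_eq_fintype_card, FiniteField.pow_card]

include T in
theorem jmap : (jMat γ).map σ = jMat γ := by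
  ext i j; fin_cases i <;> fin_cases j <;> simp [jMat, (T.fix_iff).1 T.gamma_mem]

omit [Fintype F] in
theorem jMat_symm (γ : F) : (jMat γ)ᵀ = jMat γ := by
  ext i j; fin_cases i <;> fin_cases j <;> simp [jMat]

include T in
/-- The elements fix the form. -/
theorem isometry {g : SL₃} (hg : g ∈ Γ) : ((g : M₃).map σ)ᵀ * jMat γ * (g : M₃) = jMat γ := by
  haveI := T.char2
  rw [T.gen] at hg
  induction hg using Subgroup.closure_induction with
  | mem x hx =>
    obtain ⟨-, v, φ, hr, e⟩ := hx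
    have hs := T.skew v φ hr
    have hN : vecMulVec v φ * vecMulVec v φ = 0 := by rw [TV.vec_mul_vec, hr.incident, zero_smul]
    rw [e, Matrix.map_add _ (map_add σ), Matrix.map_one _ (map_zero σ) (map_one σ), transpose_add, transpose_one,
      add_mul, one_mul, add_mul, mul_add, mul_add, mul_one, mul_one, hs, mul_assoc, hN, mul_zero, add_zero, add_assoc,
      show jMat γ * vecMulVec v φ + jMat γ * vecMulVec v φ = 0 from by
        ext i j; rw [Matrix.add_apply, CharTwo.add_self_eq_zero]; rfl, add_zero]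
  | one => simp
  | mul a b _ _ ha hb =>
    rw [Matrix.SpecialLinearGroup.coe_mul, Matrix.map_mul, transpose_mul]
    calc ((b : M₃).map σ)ᵀ * ((a : M₃).map σ)ᵀ * jMat γ * ((a : M₃) * (b : M₃))
        = ((b : M₃).map σ)ᵀ * (((a : M₃).map σ)ᵀ * jMat γ * (a : M₃)) * (b : M₃) := by simp only [mul_assoc]
      _ = _ := by rw [ha, hb]
  | inv a _ ha =>
    have h1 : (a : M₃) * ((a⁻¹ : SL₃) : M₃) = 1 := by
      rw [← Matrix.SpecialLinearGroup.coe_mul, mul_inv_cancel, Matrix.SpecialLinearGroup.coe_one]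
    conv_lhs => rw [← ha]
    calc (((a⁻¹ : SL₃) : M₃).map σ)ᵀ * (((a : M₃).map σ)ᵀ * jMat γ * (a : M₃)) * ((a⁻¹ : SL₃) : M₃)
        = (((a : M₃) * ((a⁻¹ : SL₃) : M₃)).map σ)ᵀ * jMat γ * ((a : M₃) * ((a⁻¹ : SL₃) : M₃)) := by
          rw [Matrix.map_mul, transpose_mul]; simp only [mul_assoc]
      _ = _ := by rw [h1, Matrix.map_one _ (map_zero σ) (map_one σ), transpose_one, one_mul, mul_one]

include T in
theorem unitTr : UnitTr Γ (Nat.card F₀) := by
  intro g hg
  have h := T.isometry hg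
  have hJJ : jMat γ * (!![0, 1, 0; 1, 0, 0; 0, 0, γ] : M₃) = 1 := by
    ext i j; fin_cases i <;> fin_cases j <;> simp [jMat, Matrix.mul_apply, Fin.sum_univ_three, T.gamma_ne]
  have e : ((g : M₃).map σ)ᵀ * jMat γ = jMat γ * ((g⁻¹ : SL₃) : M₃) := by
    have h1 : (g : M₃) * ((g⁻¹ : SL₃) : M₃) = 1 := by
      rw [← Matrix.SpecialLinearGroup.coe_mul, mul_inv_cancel, Matrix.SpecialLinearGroup.coe_one]
    calc ((g : M₃).map σ)ᵀ * jMat γ = ((g : M₃).map σ)ᵀ * jMat γ * ((g : M₃) * ((g⁻¹ : SL₃) : M₃)) := by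
          rw [h1, mul_one]
      _ = _ := by rw [← mul_assoc, h]
  rw [← T.frob]
  have e2 : ((g : M₃).map σ)ᵀ = jMat γ * ((g⁻¹ : SL₃) : M₃) * !![0, 1, 0; 1, 0, 0; 0, 0, γ] := by
    rw [← e, mul_assoc, hJJ, mul_one]
  have e3 := congrArg trace e2
  rw [trace_transpose, show trace ((g : M₃).map σ) = σ (trace (g : M₃)) from
    (AddMonoidHom.map_trace σ.toAddMonoidHom _).symm, trace_mul_comm, ← mul_assoc,
    show (!![0, 1, 0; 1, 0, 0; 0, 0, γ] : M₃) * jMat γ = 1 from mul_eq_one_comm.1 hJJ, one_mul] at e3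
  exact e3

include T in
theorem phiJ_conj {g : SL₃} (hg : g ∈ Γ) (u : V) :
    phiJ σ γ u ᵥ* ((g⁻¹ : SL₃) : M₃) = phiJ σ γ ((g : M₃) *ᵥ u) := by
  have h := T.isometry hg
  have hm : σ ∘ ((g : M₃) *ᵥ u) = (g : M₃).map σ *ᵥ (σ ∘ u) := by
    funext i; simp [mulVec, dotProduct, map_sum]
  have h1 : (g : M₃) * ((g⁻¹ : SL₃) : M₃) = 1 := by
    rw [← Matrix.SpecialLinearGroup.coe_mul, mul_inv_cancel, Matrix.SpecialLinearGroup.coe_one]
  rw [phiJ, phiJ, hm, ← vecMul_transpose, vecMul_vecMul, vecMul_vecMul]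
  congr 1
  conv_lhs => rw [← h]
  rw [mul_assoc _ (g : M₃), h1, mul_one]

omit [Fintype F] in
theorem phiJ_smul (σ : F →+* F) (γ a : F) (u : V) : phiJ σ γ (a • u) = σ a • phiJ σ γ u := by
  rw [phiJ, phiJ, ← smul_vecMul]
  congr 1
  funext i; simp

/-- The root group of an isotropic vector lies in the group. -/
def HasRoot (Γ : Subgroup SL₃) (F₀ : Subfield F) (σ : F →+* F) (γ : F) (u : V) : Prop :=
  ∀ c ∈ F₀, Bloom.InT Γ u (c • phiJ σ γ u)

include T in
theorem hasRoot_smul {u : V} (h : HasRoot Γ F₀ σ γ u) (a : F) : HasRoot Γ F₀ σ γ (a • u) := by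
  intro c hc
  rcases eq_or_ne a 0 with rfl | ha
  · rw [zero_smul]; exact inT_zero_left Γ _
  refine InT.move_scalar ?_ ha
  rw [phiJ_smul, smul_smul, smul_smul]
  refine h _ ?_
  rw [mul_assoc a c, mul_comm c, ← mul_assoc]
  refine F₀.mul_mem ((T.fix_iff).2 ?_) hc
  rw [map_mul, T.invol, mul_comm]

include T in
theorem hasRoot_conj {u : V} (h : HasRoot Γ F₀ σ γ u) {g : SL₃} (hg : g ∈ Γ) :
    HasRoot Γ F₀ σ γ ((g : M₃) *ᵥ u) := by
  intro c hc
  have := InT.conj (h c hc) hg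
  rwa [smul_vecMul, T.phiJ_conj hg] at this

include T in
theorem hasRoot_e0 : HasRoot Γ F₀ σ γ ![1, 0, 0] := by
  intro c hc
  convert (T.up.mem c).2 hc using 2
  funext i; fin_cases i <;> simp [phiJ, jMat, Matrix.vecMul, dotProduct, Fin.sum_univ_three]

include T in
theorem hasRoot_e1 : HasRoot Γ F₀ σ γ ![0, 1, 0] := by
  intro c hc
  convert (T.dn.mem c).2 hc using 2
  funext i; fin_cases i <;> simp [phiJ, jMat, Matrix.vecMul, dotProduct, Fin.sum_univ_three]

include T in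
theorem exists_off_plane : ∃ u : V, u 2 = 1 ∧ phiJ σ γ u ⬝ᵥ u = 0 ∧ HasRoot Γ F₀ σ γ u := by
  haveI := T.char2
  obtain ⟨v, ψ, hr, hv⟩ := T.toEvenFrame.exists_center_root (χ := ![0, 0, 1]) (by simp)
  simp [dotProduct, Fin.sum_univ_three] at hv
  have hs := T.skew v ψ hr
  -- the functional is a multiple of the functional of the centre
  have hJv : σ ∘ phiJ σ γ v = jMat γ *ᵥ v := by
    funext i
    fin_cases i <;>
      simp [phiJ, jMat, Matrix.vecMul, Matrix.mulVec, dotProduct, Fin.sum_univ_three, vecHead, vecTail, T.invol,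
        (T.fix_iff).1 T.gamma_mem, mul_comm]
  have hent : ∀ i j, σ (ψ i) * phiJ σ γ v j = (jMat γ *ᵥ v) i * ψ j := fun i j => by
    have h0 := congrFun (congrFun hs i) j
    rw [mul_vecMulVec, vecMulVec_apply] at h0
    rw [← h0, mul_apply, phiJ, Matrix.vecMul, dotProduct, Finset.mul_sum]
    refine Finset.sum_congr rfl fun l _ => ?_
    simp [vecMulVec_apply, map_mul]; ring
  have h2 : (jMat γ *ᵥ v) 2 ≠ 0 := by
    simp [jMat, Matrix.mulVec, dotProduct, Fin.sum_univ_three, T.gamma_ne, hv]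
  set t := σ (ψ 2) / (jMat γ *ᵥ v) 2 with ht
  have hψ : ψ = t • phiJ σ γ v := funext fun j => by
    rw [Pi.smul_apply, smul_eq_mul, ht, div_mul_eq_mul_div, hent, mul_div_cancel_left₀ _ h2]
  have ht0 : t ≠ 0 := fun e => hr.right (by rw [hψ, e, zero_smul])
  have htF : t ∈ F₀ := by
    refine (T.fix_iff).2 ?_
    obtain ⟨j, hj⟩ := Function.ne_iff.1 (fun e => hr.right (by rw [hψ, e, smul_zero]) : phiJ σ γ v ≠ 0)
    have h := hent 2 j
    have e2 : σ (ψ 2) = σ t * (jMat γ *ᵥ v) 2 := by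
      rw [← congrFun hJv 2, hψ]; simp
    rw [e2, show ψ j = t * phiJ σ γ v j by rw [hψ]; rfl] at h
    have h' : σ t * ((jMat γ *ᵥ v) 2 * phiJ σ γ v j) = t * ((jMat γ *ᵥ v) 2 * phiJ σ γ v j) := by
      linear_combination h
    exact mul_right_cancel₀ (mul_ne_zero h2 hj) h'
  have hroot : HasRoot Γ F₀ σ γ v := fun c hc => by
    have := (hr.mem (c / t)).2 (F₀.div_mem hc htF)
    rwa [hψ, smul_smul, div_mul_cancel₀ c ht0] at this
  refine ⟨(v 2)⁻¹ • v, by simp [hv], ?_, T.hasRoot_smul hroot _⟩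
  have hi := hr.incident
  rw [hψ, smul_dotProduct, smul_eq_mul] at hi
  rw [phiJ_smul, smul_dotProduct, dotProduct_smul, (mul_eq_zero.1 hi).resolve_left ht0, smul_zero, smul_zero]

include T in
/-- Every isotropic vector has its root group in the group. -/
theorem hasRoot_all {v : V} (hv : phiJ σ γ v ⬝ᵥ v = 0) : HasRoot Γ F₀ σ γ v := by
  haveI := T.char2
  have hγ := (T.fix_iff).1 T.gamma_mem
  rcases eq_or_ne (v 2) 0 with h2 | h2
  · have hi : σ (v 1) * v 0 + σ (v 0) * v 1 = 0 := by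
      simpa [phiJ, jMat, Matrix.vecMul, dotProduct, Fin.sum_univ_three, h2] using hv
    rcases eq_or_ne (v 0) 0 with h0 | h0
    · convert T.hasRoot_smul T.hasRoot_e1 (v 1) using 1
      funext i; fin_cases i <;> simp [h0, h2]
    · have hr : v 1 / v 0 ∈ F₀ := by
        refine (T.fix_iff).2 ?_
        have : σ (v 0) ≠ 0 := by simpa using h0
        rw [map_div₀]
        field_simp
        linear_combination CharTwo.add_eq_zero.1 hi
      obtain ⟨g, hg, e⟩ := T.plane_dn hr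
      convert T.hasRoot_smul (T.hasRoot_conj T.hasRoot_e0 hg) (v 0) using 1
      funext i
      rw [e]
      fin_cases i <;> simp [blk2, Matrix.mulVec, dotProduct, Fin.sum_univ_three, h2, mul_div_cancel₀ _ h0]
  · obtain ⟨u, hu2, hu, hroot⟩ := T.exists_off_plane
    obtain ⟨w, hw2, hw, hwv⟩ : ∃ w : V, w 2 = 1 ∧ phiJ σ γ w ⬝ᵥ w = 0 ∧ v = (v 2) • w := by
      refine ⟨(v 2)⁻¹ • v, by simp [h2], ?_, by rw [smul_inv_smul₀ h2]⟩
      rw [phiJ_smul, smul_dotProduct, dotProduct_smul, hv, smul_zero, smul_zero]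
    rw [hwv]
    refine T.hasRoot_smul ?_ _
    -- coordinates over the subfield
    have hb : ∀ x : F, γ * (σ x + x) ∈ F₀ := fun x => (T.fix_iff).2 (by
      rw [map_mul, map_add, T.invol, hγ]; ring)
    have ha : ∀ x : F, x + γ * (σ x + x) * z ∈ F₀ := fun x => (T.fix_iff).2 (by
      rw [map_add, map_mul, (T.fix_iff).1 (hb x), T.hz]
      have := T.gamma_ne
      field_simp
      linear_combination σ x * CharTwo.two_eq_zero (R := F))
    have hdet : ∀ y : V, y 2 = 1 → phiJ σ γ y ⬝ᵥ y = 0 →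
        (y 0 + γ * (σ (y 0) + y 0) * z) * (γ * (σ (y 1) + y 1)) +
          (γ * (σ (y 0) + y 0)) * (y 1 + γ * (σ (y 1) + y 1) * z) = 1 := by
      intro y hy2 hy
      have h : σ (y 1) * y 0 + σ (y 0) * y 1 + γ⁻¹ = 0 := by
        simpa [phiJ, jMat, Matrix.vecMul, dotProduct, Fin.sum_univ_three, hy2] using hy
      have := T.gamma_ne
      field_simp at h
      linear_combination h + (γ * y 0 * y 1 + γ * γ * z * (σ (y 0) + y 0) * (σ (y 1) + y 1) - 1) *
        CharTwo.two_eq_zero (R := F)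
    set a₁ := u 0 + γ * (σ (u 0) + u 0) * z with ha₁
    set b₁ := γ * (σ (u 0) + u 0) with hb₁
    set c₁ := u 1 + γ * (σ (u 1) + u 1) * z with hc₁
    set d₁ := γ * (σ (u 1) + u 1) with hd₁
    set a₂ := w 0 + γ * (σ (w 0) + w 0) * z with ha₂
    set b₂ := γ * (σ (w 0) + w 0) with hb₂
    set c₂ := w 1 + γ * (σ (w 1) + w 1) * z with hc₂
    set d₂ := γ * (σ (w 1) + w 1) with hd₂
    have D1 : a₁ * d₁ + b₁ * c₁ = 1 := hdet u hu2 hu
    have D2 : a₂ * d₂ + b₂ * c₂ = 1 := hdet w hw2 hw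
    obtain ⟨g, hg, e⟩ := T.plane_mem (a := a₂ * d₁ + b₂ * c₁) (b := a₂ * b₁ + b₂ * a₁) (c := c₂ * d₁ + d₂ * c₁)
      (d := c₂ * b₁ + d₂ * a₁)
      (F₀.add_mem (F₀.mul_mem (ha _) (hb _)) (F₀.mul_mem (hb _) (ha _)))
      (F₀.add_mem (F₀.mul_mem (ha _) (hb _)) (F₀.mul_mem (hb _) (ha _)))
      (F₀.add_mem (F₀.mul_mem (ha _) (hb _)) (F₀.mul_mem (hb _) (ha _)))
      (F₀.add_mem (F₀.mul_mem (ha _) (hb _)) (F₀.mul_mem (hb _) (ha _))) (by
        linear_combination (a₂ * d₂ + b₂ * c₂) * D1 + D2 - (a₁ * b₂ * c₂ * d₁ + a₂ * b₁ * c₁ * d₂) *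
          CharTwo.two_eq_zero (R := F))
    convert T.hasRoot_conj hroot hg using 1
    funext i
    rw [e]
    have hu0 : u 0 = a₁ + b₁ * z := by
      rw [ha₁, hb₁]; linear_combination -(γ * (σ (u 0) + u 0) * z) * CharTwo.two_eq_zero (R := F)
    have hu1 : u 1 = c₁ + d₁ * z := by
      rw [hc₁, hd₁]; linear_combination -(γ * (σ (u 1) + u 1) * z) * CharTwo.two_eq_zero (R := F)
    have hw0 : w 0 = a₂ + b₂ * z := by
      rw [ha₂, hb₂]; linear_combination -(γ * (σ (w 0) + w 0) * z) * CharTwo.two_eq_zero (R := F)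
    have hw1 : w 1 = c₂ + d₂ * z := by
      rw [hc₂, hd₂]; linear_combination -(γ * (σ (w 1) + w 1) * z) * CharTwo.two_eq_zero (R := F)
    clear_value a₁ b₁ c₁ d₁ a₂ b₂ c₂ d₂
    fin_cases i <;> simp [blk2, Matrix.mulVec, dotProduct, Fin.sum_univ_three, hu2, hw2]
    · linear_combination hw0 - (a₂ * d₁ + b₂ * c₁) * hu0 - (a₂ * b₁ + b₂ * a₁) * hu1 -
        (a₂ + b₂ * z) * D1 - (a₂ * b₁ * d₁ * z + b₂ * a₁ * c₁ + a₂ * b₁ * c₁ * 0) * CharTwo.two_eq_zero (R := F)
    · linear_combination hw1 - (c₂ * d₁ + d₂ * c₁) * hu0 - (c₂ * b₁ + d₂ * a₁) * hu1 -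
        (c₂ + d₂ * z) * D1 - (c₂ * b₁ * d₁ * z + d₂ * a₁ * c₁) * CharTwo.two_eq_zero (R := F)

/-- The orthonormal basis. -/
def onb (σ : F →+* F) (γ z s : F) : Matrix (Fin 3) (Fin 3) F := !![1, 1, 0; γ * z, γ * σ z, 0; 0, 0, s]

include T in
/-- The group is the whole special unitary group. -/
theorem card_eq : Nat.card Γ = Nat.card (Cfsg.SU 3 F (Nat.card F₀)) := by
  classical
  haveI := T.char2
  haveI : Fact (Nat.Prime 2) := ⟨Nat.prime_two⟩
  have hγ := (T.fix_iff).1 T.gamma_mem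
  obtain ⟨s, hs⟩ := (frobeniusEquiv F 2).surjective γ
  rw [frobeniusEquiv_apply, frobenius_def] at hs
  have hsF : σ s = s := by
    have h : σ s ^ 2 = s ^ 2 := by rw [← map_pow, hs, hγ]
    rw [← frobenius_def, ← frobenius_def] at h
    exact (frobenius_inj F 2) h
  have hs0 : s ≠ 0 := fun e => T.gamma_ne (by rw [← hs, e, zero_pow two_ne_zero])
  let B : GL (Fin 3) F := Matrix.GeneralLinearGroup.mkOfDetNeZero (onb σ γ z s) (by
    simp [onb, det_fin_three, T.hz, mul_add, T.gamma_ne]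
    intro h
    refine hs0 ?_
    linear_combination h)
  have hB : (B : M₃) = onb σ γ z s := rfl
  have hsz : σ (σ z) = z := T.invol z
  have hBJ : ((B : M₃).map σ)ᵀ * jMat γ * (B : M₃) = 1 := by
    have hg0 := T.gamma_ne
    rw [hB]
    ext i j
    fin_cases i <;> fin_cases j <;>
      simp [onb, jMat, Matrix.mul_apply, Fin.sum_univ_three, hγ, hsz, hsF, T.hz, mul_add, hg0]
    all_goals first
      | linear_combination (γ * z) * CharTwo.two_eq_zero (R := F)
      | linear_combination (γ * z + 1) * CharTwo.two_eq_zero (R := F)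
      | linear_combination CharTwo.two_eq_zero (R := F)
      | (field_simp; first | linear_combination hs | linear_combination (0 : F))
  have hBi : ((B⁻¹ : GL (Fin 3) F) : M₃) = ((B : M₃).map σ)ᵀ * jMat γ := by
    rw [Matrix.coe_units_inv]
    exact Matrix.inv_eq_left_inv hBJ
  set r := Nat.card F₀ with hr
  have hFr : Fintype.card F = r ^ 2 := by rw [← Nat.card_eq_fintype_card]; exact T.card
  suffices h : moveGL B⁻¹ Γ = Cfsg.SU 3 F r by
    rw [← h]
    exact (Subgroup.card_map_of_injective (conjGL B⁻¹).injective).symm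
  refine le_antisymm ?_ ?_
  · intro x hx
    obtain ⟨g, hg, rfl⟩ := mem_moveGL.1 hx
    rw [UFrame.mem_su_iff σ T.frob, conjGL_coe, inv_inv]
    have hiso := T.isometry hg
    have hBB : (B : M₃) * ((B⁻¹ : GL (Fin 3) F) : M₃) = 1 := by rw [← Units.val_mul, mul_inv_cancel, Units.val_one]
    have key : (((((B⁻¹ : GL (Fin 3) F) : M₃)) * (g : M₃) * (B : M₃)).map σ)ᵀ *
        (((B⁻¹ : GL (Fin 3) F) : M₃) * (g : M₃) * (B : M₃)) = 1 := by
      have hJ : (((B⁻¹ : GL (Fin 3) F) : M₃).map σ)ᵀ * ((B⁻¹ : GL (Fin 3) F) : M₃) = jMat γ := by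
        conv_lhs => arg 2; rw [hBi]
        rw [← mul_assoc, ← transpose_mul, ← Matrix.map_mul, hBB, Matrix.map_one _ (map_zero σ) (map_one σ),
          transpose_one, one_mul]
      rw [Matrix.map_mul, Matrix.map_mul, transpose_mul, transpose_mul]
      calc ((B : M₃).map σ)ᵀ * (((g : M₃).map σ)ᵀ * (((B⁻¹ : GL (Fin 3) F) : M₃).map σ)ᵀ) *
            (((B⁻¹ : GL (Fin 3) F) : M₃) * (g : M₃) * (B : M₃))
          = ((B : M₃).map σ)ᵀ * (((g : M₃).map σ)ᵀ * ((((B⁻¹ : GL (Fin 3) F) : M₃).map σ)ᵀ *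
            ((B⁻¹ : GL (Fin 3) F) : M₃)) * (g : M₃)) * (B : M₃) := by simp only [mul_assoc]
        _ = _ := by rw [hJ, hiso, hBJ]
    have h' := congrArg (fun X : M₃ => X.map σ) key
    simp only [Matrix.map_mul, transpose_map, Matrix.map_map, Matrix.map_one _ (map_zero σ) (map_one σ)] at h'
    simpa [Matrix.map_mul, transpose_map, Matrix.map_map, Function.comp_def, T.invol] using h'
  · have hgen := Cfsg.Agent.S0780.result hFr 3 le_rfl (fun h => by have := T.three; omega)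
    intro x hx
    have hx' : (⟨x, hx⟩ : Cfsg.SU 3 F r) ∈ (moveGL B⁻¹ Γ).subgroupOf (Cfsg.SU 3 F r) := by
      refine ((Subgroup.closure_le _).2 ?_ : Subgroup.closure {A : ↥(Cfsg.SU 3 F r) | ∃ (v : V) (c : F),
        Cfsg.hermForm 3 F r v v = 0 ∧ ((A : SL₃) : M₃) = Cfsg.unitaryTransvection 3 r v c} ≤
          (moveGL B⁻¹ Γ).subgroupOf (Cfsg.SU 3 F r)) (hgen.symm ▸ Subgroup.mem_top _)
      rintro ⟨A, hA⟩ ⟨v, c, hv, e⟩
      show A ∈ moveGL B⁻¹ Γ
      have hcv : (fun j => v j ^ r) = σ ∘ v := funext fun j => (T.frob (v j)).symm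
      simp only [Cfsg.unitaryTransvection, hcv] at e
      have hiso : v ⬝ᵥ (σ ∘ v) = 0 := by
        rw [← hcv]; exact hv
      rcases eq_or_ne v 0 with rfl | hv0
      · rw [show A = 1 from Subtype.ext (by rw [e]; simp)]
        exact one_mem _
      have hc : σ c = c := by
        rw [UFrame.mem_su_iff σ T.frob, e] at hA
        have hsv : σ ∘ (σ ∘ v) = v := funext fun i => T.invol _
        rw [Matrix.map_add _ (map_add σ), Matrix.map_one _ (map_zero σ) (map_one σ), transpose_add, transpose_one,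
          transpose_smul, transpose_vecMulVec, show (c • vecMulVec v (σ ∘ v)).map σ = σ c • vecMulVec (σ ∘ v) v by
            ext i j; simp [vecMulVec_apply, T.invol], mul_add, add_mul, add_mul, one_mul, mul_one, one_mul,
          smul_mul_assoc, mul_smul_comm, TV.vec_mul_vec, show v ⬝ᵥ (σ ∘ v) = 0 from hiso, zero_smul, smul_zero,
          smul_zero, add_zero, add_assoc, add_eq_left] at hA
        obtain ⟨i, hi⟩ := Function.ne_iff.1 hv0
        have h := congrFun (congrFun hA i) i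
        simp [vecMulVec_apply] at h
        have h' : (c + σ c) * (σ (v i) * v i) = 0 := by linear_combination h
        exact (CharTwo.add_eq_zero.1 ((mul_eq_zero.1 h').resolve_right
          (mul_ne_zero (by simpa using hi) hi))).symm
      set u := (B : M₃) *ᵥ v with hu
      have hφ : phiJ σ γ u = (σ ∘ v) ᵥ* ((B⁻¹ : GL (Fin 3) F) : M₃) := by
        have hm : σ ∘ u = (B : M₃).map σ *ᵥ (σ ∘ v) := by
          funext i; simp [hu, mulVec, dotProduct, map_sum]
        rw [phiJ, hm, ← vecMul_transpose, vecMul_vecMul, hBi]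
      have hui : phiJ σ γ u ⬝ᵥ u = 0 := by
        rw [hφ, hu, ← dotProduct_mulVec, mulVec_mulVec, ← Units.val_mul, inv_mul_cancel, Units.val_one, one_mulVec,
          dotProduct_comm]
        exact hiso
      obtain ⟨-, y, hy, ey⟩ := (T.hasRoot_all hui c ((T.fix_iff).2 hc))
      refine mem_moveGL.2 ⟨y, hy, Subtype.ext ?_⟩
      have hBB : ((B⁻¹ : GL (Fin 3) F) : M₃) * (B : M₃) = 1 := by rw [← Units.val_mul, inv_mul_cancel, Units.val_one]
      rw [conjGL_coe, inv_inv, ey, e, mul_add, add_mul, mul_one, hBB, mul_vecMulVec, vecMulVec_mul, hu,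
        mulVec_mulVec, hBB, one_mulVec, smul_vecMul, hφ, vecMul_vecMul, hBB, vecMul_one, Matrix.vecMulVec_smul]
    exact hx'

end Twisted

/-- The even characteristic groups with a large root group. -/
theorem Core.even_big [Fintype F] [CharP F 2] {Γ : Subgroup SL₃} (K : Core Γ)
    (hbig : ∃ v φ : V, v ≠ 0 ∧ φ ≠ 0 ∧ 3 ≤ (lam Γ v φ).ncard) : IsWhole Γ := by
  obtain ⟨P, F₀, E⟩ := K.exists_even_frame hbig
  obtain ⟨D, γ, hγ, E', hA⟩ := E.exists_unit_pair
  rw [moveGL_mul] at E' hA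
  rcases E'.form_dichotomy hγ hA with htop | ⟨hγF, σ, z, hσ, hcard, hz, hskew⟩
  · left
    have h := E'.eq_top_of_full htop
    refine eq_top_iff.2 fun g _ => ?_
    obtain ⟨g', hg', e⟩ := mem_moveGL.1 (h.symm ▸ Subgroup.mem_top (conjGL (D * P) g) :
      conjGL (D * P) g ∈ moveGL (D * P) Γ)
    rwa [← (conjGL (D * P)).injective e]
  · have T : Twisted (moveGL (D * P) Γ) F₀ σ γ z := ⟨E', ‹CharP F 2›, hγF, hγ, hσ,
      by rw [Nat.card_eq_fintype_card]; exact hcard, hz, hskew⟩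
    have htr : UnitTr Γ (Nat.card F₀) := fun g hg => by
      have h := T.unitTr _ (mem_moveGL.2 ⟨g, hg, rfl⟩)
      rw [← map_inv, conjGL_coe, conjGL_coe] at h
      have hc : ∀ X : M₃, trace (((D * P : GL (Fin 3) F) : M₃) * X * (((D * P)⁻¹ : GL (Fin 3) F) : M₃)) = trace X :=
        fun X => by rw [trace_mul_cycle, ← Units.val_mul, inv_mul_cancel, Units.val_one, one_mul]
      rwa [hc, hc] at h
    refine Or.inr ⟨_, hcard, htr, K.unitary_of_unitTr hcard htr, ?_⟩
    rw [← T.card_eq]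
    exact (Subgroup.card_map_of_injective (conjGL (D * P)).injective).symm

end Cfsg.Agent.Classical.Residual
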