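import Cfsg.Agent.Lib.Classical.Residual.EvenForm
import Cfsg.Agent.S0780

/-!
The groups with a large root group in characteristic two are special linear or special unitary.
-/

set_option autoImplicit false

namespace Cfsg.Agent.Classical.Residual

open Matrix
open Cfsg.Agent.Classical.Bloom
open Cfsg.Agent.Fus

variable {F : Type*} [Field F]

local notation "V" => (Fin 3 → F)
local notation "SL₃" => Matrix.SpecialLinearGroup (Fin 3) F
local notation "M₃" => Matrix (Fin 3) (Fin 3) F

theorem InT.scale_both {Γ : Subgroup SL₃} {v φ : V} {a : F} (h : Bloom.InT Γ v (a • φ)) (ha : a ≠ 0) :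
    Bloom.InT Γ (a • v) φ := InT.move_scalar h ha

/-- The block matrices on the first two coordinates. -/
def blk2 (a b c d : F) : Matrix (Fin 3) (Fin 3) F := !![a, b, 0; c, d, 0; 0, 0, 1]

theorem blk2_mul (a b c d a' b' c' d' : F) :
    blk2 a b c d * blk2 a' b' c' d' = blk2 (a * a' + b * c') (a * b' + b * d') (c * a' + d * c') (c * b' + d * d') := by
  ext i j; fin_cases i <;> fin_cases j <;> simp [blk2, Matrix.mul_apply, Fin.sum_univ_three]

theorem IsRoot.dual {Γ : Subgroup SL₃} {F₀ : Subfield F} {v φ : V} (h : IsRoot Γ F₀ v φ) :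
    IsRoot (dualGroup Γ) F₀ φ v := by
  refine ⟨h.right, h.left, by rw [dotProduct_comm]; exact h.incident, fun c => ?_⟩
  rw [← h.mem c]
  rcases eq_or_ne c 0 with rfl | hc
  · simp only [zero_smul]
    exact ⟨fun _ => inT_zero_right Γ v, fun _ => inT_zero_right _ φ⟩
  · exact ⟨fun h' => InT.of_scalar_left h'.of_dual hc, fun h' => (InT.move_scalar h' hc).dual⟩

namespace EvenFrame

variable {Γ : Subgroup (Matrix.SpecialLinearGroup (Fin 3) F)} {F₀ : Subfield F} (K : EvenFrame Γ F₀)

include K in
theorem plane_up {a : F} (ha : a ∈ F₀) : ∃ g ∈ Γ, (g : M₃) = blk2 1 a 0 1 := by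
  obtain ⟨-, g, hg, e⟩ := (K.up.mem a).2 ha
  refine ⟨g, hg, ?_⟩
  rw [e]
  ext i j; fin_cases i <;> fin_cases j <;> simp [blk2, vecMulVec_apply]

include K in
theorem plane_dn {a : F} (ha : a ∈ F₀) : ∃ g ∈ Γ, (g : M₃) = blk2 1 0 a 1 := by
  obtain ⟨-, g, hg, e⟩ := (K.dn.mem a).2 ha
  refine ⟨g, hg, ?_⟩
  rw [e]
  ext i j; fin_cases i <;> fin_cases j <;> simp [blk2, vecMulVec_apply]

include K in
/-- The special linear group of the first two coordinates over `F₀`. -/
theorem plane_mem {a b c d : F} (ha : a ∈ F₀) (hb : b ∈ F₀) (hc : c ∈ F₀) (hd : d ∈ F₀) (hdet : a * d - b * c = 1) :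
    ∃ g ∈ Γ, (g : M₃) = blk2 a b c d := by
  have main : ∀ a b c d : F, a ∈ F₀ → b ∈ F₀ → c ∈ F₀ → d ∈ F₀ → a * d - b * c = 1 → c ≠ 0 →
      ∃ g ∈ Γ, (g : M₃) = blk2 a b c d := by
    intro a b c d ha hb hc hd hdet hc0
    obtain ⟨g₁, h₁, e₁⟩ := K.plane_up (F₀.div_mem (F₀.sub_mem ha F₀.one_mem) hc)
    obtain ⟨g₂, h₂, e₂⟩ := K.plane_dn hc
    obtain ⟨g₃, h₃, e₃⟩ := K.plane_up (F₀.div_mem (F₀.sub_mem hd F₀.one_mem) hc)
    refine ⟨g₁ * g₂ * g₃, mul_mem (mul_mem h₁ h₂) h₃, ?_⟩
    rw [Matrix.SpecialLinearGroup.coe_mul, Matrix.SpecialLinearGroup.coe_mul, e₁, e₂, e₃, blk2_mul, blk2_mul]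
    congr 1 <;> field_simp <;> first | linear_combination hdet | linear_combination -hdet | ring
  rcases eq_or_ne c 0 with rfl | hc0
  · rw [mul_zero, sub_zero] at hdet
    have ha0 : a ≠ 0 := fun e => by simp [e] at hdet
    obtain ⟨g, hg, e⟩ := main a b a (b + d) ha hb ha (F₀.add_mem hb hd) (by linear_combination hdet) ha0
    obtain ⟨g', hg', e'⟩ := K.plane_dn (F₀.neg_mem F₀.one_mem)
    refine ⟨g' * g, mul_mem hg' hg, ?_⟩
    rw [Matrix.SpecialLinearGroup.coe_mul, e, e', blk2_mul]
    congr 1 <;> ring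
  · exact main a b c d ha hb hc hd hdet hc0

include K in
theorem dual (hd : ∀ L : Subfield F, L ≠ ⊤ → ∀ B : GL (Fin 3) F, ¬ ∀ g ∈ dualGroup Γ, ∀ i j, ((B : M₃) *
    (g : M₃) * ((B⁻¹ : GL (Fin 3) F) : M₃)) i j ∈ L) : EvenFrame (dualGroup Γ) F₀ := by
  refine ⟨K.three, dual_irr K.irr, ?_, ?_, ?_, hd⟩
  · refine le_antisymm (fun g hg => ?_) ((Subgroup.closure_le _).2 fun g hg => hg.1)
    have key : ∀ h ∈ Subgroup.closure (roots Γ F₀), h.transpose ∈ Subgroup.closure (roots (dualGroup Γ) F₀) := by
      intro h hh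
      induction hh using Subgroup.closure_induction with
      | mem x hx =>
        obtain ⟨hx, v, φ, hr, e⟩ := hx
        refine Subgroup.subset_closure ⟨?_, φ, v, hr.dual, ?_⟩
        · show x.transpose.transpose ∈ Γ
          rwa [show x.transpose.transpose = x from Subtype.ext (by simp [Matrix.SpecialLinearGroup.transpose])]
        · show (x : M₃)ᵀ = _
          rw [e, transpose_add, transpose_one, transpose_vecMulVec]
      | one => rw [transpose_one']; exact one_mem _
      | mul a b _ _ ha hb => rw [transpose_mul']; exact mul_mem hb ha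
      | inv a _ ha => rw [transpose_inv']; exact inv_mem ha
    have := key _ (K.gen ▸ hg : g.transpose ∈ Subgroup.closure (roots Γ F₀))
    rwa [show g.transpose.transpose = g from Subtype.ext (by simp [Matrix.SpecialLinearGroup.transpose])] at this
  · exact K.dn.dual
  · exact K.up.dual

variable [Fintype F] [CharP F 2]

include K in
theorem full_row (htop : F₀ = ⊤) : ∀ (a b : F) (c : F), Bloom.InT Γ ![0, 0, 1] (c • ![a, b, 0]) := by
  have hF : ∀ x : F, x ∈ F₀ := fun x => htop ▸ Subfield.mem_top x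
  -- the roots in the plane
  have plane : ∀ p q c : F, Bloom.InT Γ ![p, q, 0] (c • ![q, p, 0]) := by
    intro p q c
    rcases eq_or_ne p 0 with rfl | hp
    · rcases eq_or_ne q 0 with rfl | hq
      · convert inT_zero_left Γ (c • ![(0 : F), 0, 0]) using 1
        funext i; fin_cases i <;> simp
      · have h1 : Bloom.InT Γ ![0, 1, 0] ((c * q * q) • ![1, 0, 0]) := (K.dn.mem _).2 (hF _)
        have h2 := h1.smul_comm (a := q) (b := q⁻¹) (mul_inv_cancel₀ hq)
        convert h2 using 1 <;> funext i <;> fin_cases i <;> simp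
        field_simp
    · obtain ⟨g, hg, e⟩ := K.plane_mem (hF p) (hF 0) (hF q) (hF p⁻¹) (by rw [mul_inv_cancel₀ hp, zero_mul, sub_zero])
      have hinv : ((g⁻¹ : SL₃) : M₃) = blk2 p⁻¹ 0 (-q) p := by
        have h1 : (g : M₃) * blk2 p⁻¹ 0 (-q) p = 1 := by
          rw [e, blk2_mul]
          ext i j; fin_cases i <;> fin_cases j <;> simp [blk2, hp] <;> field_simp <;> ring
        calc ((g⁻¹ : SL₃) : M₃) = ((g⁻¹ : SL₃) : M₃) * ((g : M₃) * blk2 p⁻¹ 0 (-q) p) := by rw [h1, mul_one]
          _ = _ := by rw [← mul_assoc, ← Matrix.SpecialLinearGroup.coe_mul, inv_mul_cancel,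
              Matrix.SpecialLinearGroup.coe_one, one_mul]
      have := InT.conj ((K.up.mem c).2 (hF c)) hg
      rw [smul_vecMul, e, hinv] at this
      convert this using 1
      · funext i; fin_cases i <;> simp [blk2, Matrix.mulVec, dotProduct, Fin.sum_univ_three]
      · congr 1
        funext i; fin_cases i <;> simp [blk2, Matrix.vecMul, dotProduct, Fin.sum_univ_three, CharTwo.neg_eq]
  obtain ⟨v, φ, hr, hv⟩ := K.exists_center_root (χ := ![0, 0, 1]) (by simp)
  simp [dotProduct, Fin.sum_univ_three] at hv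
  have hi := hr.incident
  simp [dotProduct, Fin.sum_univ_three] at hi
  -- a nonzero functional on the plane vanishing at the projection
  obtain ⟨p, q, hpq, hv', hp'⟩ : ∃ p q : F, (p ≠ 0 ∨ q ≠ 0) ∧ (∀ c, Bloom.InT Γ v (c • ![p, q, 0])) ∧
      ∀ c, Bloom.InT Γ ![v 0, v 1, 0] (c • ![p, q, 0]) := by
    by_cases hvp : v 0 = 0 ∧ v 1 = 0
    · obtain ⟨e0, e1⟩ := hvp
      simp [e0, e1, hv] at hi
      refine ⟨φ 0, φ 1, ?_, fun c => ?_, fun c => ?_⟩
      · by_contra h
        push Not at h
        exact hr.right (funext fun i => by fin_cases i <;> simp [h.1, h.2, hi])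
      · convert (hr.mem c).2 (hF c) using 2
        funext i; fin_cases i <;> simp [hi]
      · convert inT_zero_left Γ (c • ![φ 0, φ 1, 0]) using 1
        funext i; fin_cases i <;> simp [e0, e1]
    · by_cases hφp : φ 0 * v 0 + φ 1 * v 1 = 0
      · have e2 : φ 2 = 0 := by
          rw [hφp, zero_add] at hi
          exact (mul_eq_zero.1 hi).resolve_right hv
        refine ⟨v 1, v 0, by tauto, fun c => ?_, fun c => plane _ _ c⟩
        obtain ⟨t, ht⟩ : ∃ t : F, (![v 1, v 0, 0] : V) = t • φ := by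
          by_cases h1 : v 1 = 0
          · have h0 : v 0 ≠ 0 := fun e => hvp ⟨e, h1⟩
            have f0 : φ 0 = 0 := by simpa [h1, h0] using hφp
            have f1 : φ 1 ≠ 0 := fun e => hr.right (funext fun i => by fin_cases i <;> simp [f0, e, e2])
            refine ⟨v 0 / φ 1, funext fun i => ?_⟩
            fin_cases i <;> simp [h1, f0, e2, f1]
          · have f0 : φ 0 ≠ 0 := fun e => by
              rw [e, zero_mul, zero_add] at hφp
              exact hr.right (funext fun i => by fin_cases i <;> simp [e, (mul_eq_zero.1 hφp).resolve_right h1, e2])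
            refine ⟨v 1 / φ 0, funext fun i => ?_⟩
            fin_cases i <;> simp [e2, f0]
            field_simp
            linear_combination hφp - (φ 1 * v 1) * CharTwo.two_eq_zero (R := F)
        rw [ht, smul_smul]
        exact (hr.mem _).2 (hF _)
      · refine ⟨v 1, v 0, by tauto, fun c => ?_, fun c => plane _ _ c⟩
        have h := InT.comm (plane (v 0) (v 1) (c / (φ 0 * v 0 + φ 1 * v 1))) hr.inT (by
          rw [smul_dotProduct]
          simp [dotProduct, Fin.sum_univ_three]
          right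
          linear_combination (v 0 * v 1) * CharTwo.two_eq_zero (R := F))
        rw [smul_smul] at h
        convert h using 2
        simp [dotProduct, Fin.sum_univ_three]
        field_simp
  intro a b c
  -- move the functional
  have base : ∀ c : F, Bloom.InT Γ ![0, 0, 1] (c • ![p, q, 0]) := fun c => by
    have h := InT.add_left (hv' (c / v 2)) (hp' (c / v 2))
    have e : v + ![v 0, v 1, 0] = (v 2) • ![0, 0, 1] := by
      funext i; fin_cases i <;> simp [CharTwo.add_self_eq_zero]
    rw [e] at h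
    have h' := InT.of_scalar_left h hv
    rwa [smul_smul, mul_div_cancel₀ c hv] at h'
  rcases eq_or_ne a 0 with rfl | ha
  · rcases eq_or_ne b 0 with rfl | hb
    · convert inT_zero_right Γ ![(0 : F), 0, 1] using 1
      funext i; fin_cases i <;> simp
    · -- send `(p, q)` to `(0, b)`
      obtain ⟨s, t, u, w, hst, h1, h2⟩ : ∃ s t u w : F, s * w - t * u = 1 ∧ p * s + q * u = 0 ∧ p * t + q * w = b := by
        rcases eq_or_ne p 0 with rfl | hp
        · have hq : q ≠ 0 := by tauto
          exact ⟨q / b, 0, 0, b / q, by field_simp; ring, by simp, by field_simp; ring⟩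
        · exact ⟨-q / b, b / p, -(-p / b), 0, by field_simp; first | exact CharTwo.neg_eq _ | linear_combination -CharTwo.two_eq_zero (R := F) | linear_combination -b * CharTwo.two_eq_zero (R := F), by field_simp; ring, by field_simp; ring⟩
      obtain ⟨g, hg, e⟩ := K.plane_mem (hF s) (hF t) (hF u) (hF w) hst
      have := InT.conj (base c) (inv_mem hg)
      rw [inv_inv, smul_vecMul] at this
      convert this using 1
      · have h3 : (g : M₃) *ᵥ ![0, 0, 1] = ![0, 0, 1] := by
          funext i; rw [e]; fin_cases i <;> simp [blk2, Matrix.mulVec, dotProduct, Fin.sum_univ_three]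
        conv_rhs => rw [← h3, mulVec_mulVec, ← Matrix.SpecialLinearGroup.coe_mul, inv_mul_cancel,
          Matrix.SpecialLinearGroup.coe_one, one_mulVec]
      · congr 1
        funext i; rw [e]; fin_cases i <;> simp [blk2, Matrix.vecMul, dotProduct, Fin.sum_univ_three, h1, h2]
  · obtain ⟨s, t, u, w, hst, h1, h2⟩ : ∃ s t u w : F, s * w - t * u = 1 ∧ p * s + q * u = a ∧ p * t + q * w = b := by
      rcases eq_or_ne p 0 with rfl | hp
      · have hq : q ≠ 0 := by tauto
        exact ⟨0, -q / a, a / q, b / q, by field_simp; ring, by field_simp; ring, by field_simp; ring⟩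
      · exact ⟨a / p, (b - q * (p / a)) / p, 0, p / a, by field_simp; ring, by field_simp; ring, by field_simp; ring⟩
    obtain ⟨g, hg, e⟩ := K.plane_mem (hF s) (hF t) (hF u) (hF w) hst
    have := InT.conj (base c) (inv_mem hg)
    rw [inv_inv, smul_vecMul] at this
    convert this using 1
    · have h3 : (g : M₃) *ᵥ ![0, 0, 1] = ![0, 0, 1] := by
        funext i; rw [e]; fin_cases i <;> simp [blk2, Matrix.mulVec, dotProduct, Fin.sum_univ_three]
      conv_rhs => rw [← h3, mulVec_mulVec, ← Matrix.SpecialLinearGroup.coe_mul, inv_mul_cancel,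
        Matrix.SpecialLinearGroup.coe_one, one_mulVec]
    · congr 1
      funext i; rw [e]; fin_cases i <;> simp [blk2, Matrix.vecMul, dotProduct, Fin.sum_univ_three, h1, h2]

include K in
theorem eq_top_of_full (htop : F₀ = ⊤) : Γ = ⊤ := by
  have hrow := K.full_row htop
  have hcol := (K.dual fun L hL B h => K.field L hL (Matrix.GeneralLinearGroup.mkOfDetNeZero
      (((B⁻¹ : GL (Fin 3) F) : M₃)ᵀ) (by rw [det_transpose]; exact ((B⁻¹).isUnit.map Matrix.detMonoidHom).ne_zero))
      fun g hg i j => by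
    have h' := h g.transpose (by
      show g.transpose.transpose ∈ Γ
      rwa [show g.transpose.transpose = g from Subtype.ext (by simp [Matrix.SpecialLinearGroup.transpose])]) j i
    have e : ((Matrix.GeneralLinearGroup.mkOfDetNeZero (((B⁻¹ : GL (Fin 3) F) : M₃)ᵀ)
        (by rw [det_transpose]; exact ((B⁻¹).isUnit.map Matrix.detMonoidHom).ne_zero))⁻¹ : GL (Fin 3) F).1 =
        (B : M₃)ᵀ := by
      rw [Matrix.coe_units_inv]
      refine Matrix.inv_eq_right_inv ?_
      show (((B⁻¹ : GL (Fin 3) F) : M₃)ᵀ) * (B : M₃)ᵀ = 1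
      rw [← transpose_mul, ← Units.val_mul, mul_inv_cancel, Units.val_one, transpose_one]
    rw [e]
    show ((((B⁻¹ : GL (Fin 3) F) : M₃)ᵀ) * (g : M₃) * (B : M₃)ᵀ) i j ∈ L
    convert h' using 1
    show _ = ((B : M₃) * (g : M₃)ᵀ * ((B⁻¹ : GL (Fin 3) F) : M₃)) j i
    rw [← transpose_apply ((B : M₃) * (g : M₃)ᵀ * ((B⁻¹ : GL (Fin 3) F) : M₃)) i j, transpose_mul, transpose_mul,
      transpose_transpose, mul_assoc]).full_row htop
  have hF : ∀ x : F, x ∈ F₀ := fun x => htop ▸ Subfield.mem_top x
  rw [eq_top_iff, ← SL_closure_transvections, Subgroup.closure_le]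
  rintro _ ⟨⟨i, j, hij, c⟩, rfl⟩
  have key : ∀ v φ : V, Bloom.InT Γ v φ → vecMulVec v φ = Matrix.single i j c →
      Matrix.TransvectionStruct.toSpecialLinearGroup ⟨i, j, hij, c⟩ ∈ Γ := by
    rintro v φ ⟨-, g, hg, eg⟩ e
    convert hg using 1
    refine Subtype.ext ?_
    rw [eg, e]
    rfl
  fin_cases i <;> fin_cases j
  · exact absurd rfl hij
  · refine key _ _ ((K.up.mem c).2 (hF c)) ?_
    ext a b; fin_cases a <;> fin_cases b <;> simp [vecMulVec_apply, Matrix.single]
  · refine key _ _ (hcol 1 0 c).of_dual ?_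
    ext a b; fin_cases a <;> fin_cases b <;> simp [vecMulVec_apply, Matrix.single]
  · refine key _ _ ((K.dn.mem c).2 (hF c)) ?_
    ext a b; fin_cases a <;> fin_cases b <;> simp [vecMulVec_apply, Matrix.single]
  · exact absurd rfl hij
  · refine key _ _ (hcol 0 1 c).of_dual ?_
    ext a b; fin_cases a <;> fin_cases b <;> simp [vecMulVec_apply, Matrix.single]
  · refine key _ _ (hrow 1 0 c) ?_
    ext a b; fin_cases a <;> fin_cases b <;> simp [vecMulVec_apply, Matrix.single]
  · refine key _ _ (hrow 0 1 c) ?_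
    ext a b; fin_cases a <;> fin_cases b <;> simp [vecMulVec_apply, Matrix.single]
  · exact absurd rfl hij

end EvenFrame

end Cfsg.Agent.Classical.Residual
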