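import Cfsg.Agent.Lib.Classical.Residual.Intertwine
import Cfsg.Prelude.Def_GeometricClasses

/-!
Forms on three-dimensional space obtained from the traces.
-/

set_option autoImplicit false

namespace Cfsg.Agent.Classical.Residual

open Matrix

variable {F : Type*} [Field F] {G : Type*} [Group G]

local notation "M₃" => Matrix (Fin 3) (Fin 3) F

theorem dot_mulVec_dot (X A Y : M₃) (x y : Fin 3 → F) :
    (X *ᵥ x) ⬝ᵥ (A *ᵥ (Y *ᵥ y)) = x ⬝ᵥ ((Xᵀ * A * Y) *ᵥ y) := by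
  conv_rhs => rw [← mulVec_mulVec, ← mulVec_mulVec, dotProduct_mulVec, vecMul_transpose]

/-- The representation on the dual space, twisted by a field automorphism. -/
noncomputable def dualTwist (σ : F ≃+* F) (ρ : G →* M₃) : G →* M₃ where
  toFun g := (ρ g⁻¹)ᵀ.map σ
  map_one' := by rw [inv_one, map_one, transpose_one, Matrix.map_one _ (map_zero σ) (map_one σ)]
  map_mul' a b := by rw [_root_.mul_inv_rev, map_mul, transpose_mul, Matrix.map_mul]

theorem dualTwist_apply (σ : F ≃+* F) (ρ : G →* M₃) (g : G) : dualTwist σ ρ g = (ρ g⁻¹)ᵀ.map σ := rfl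

theorem irr_dualTwist (σ : F ≃+* F) {ρ : G →* M₃} (h : IrrRep ρ) : IrrRep (dualTwist σ ρ) := by
  intro W hW
  by_cases htop : W = ⊤
  · exact Or.inr htop
  left
  let U : Submodule F (Fin 3 → F) :=
    { carrier := {x | ∀ w ∈ W, (σ.symm ∘ w) ⬝ᵥ x = 0}
      add_mem' := fun ha hb w hw => by rw [dotProduct_add, ha w hw, hb w hw, add_zero]
      zero_mem' := fun w _ => dotProduct_zero _
      smul_mem' := fun c a ha w hw => by rw [dotProduct_smul, ha w hw, smul_zero] }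
  have hU : ∀ g, ∀ x ∈ U, ρ g *ᵥ x ∈ U := by
    intro g x hx w hw
    have h1 := hx _ (hW g⁻¹ w hw)
    rw [dotProduct_mulVec]
    have e1 : (σ.symm ∘ w) ᵥ* ρ g = σ.symm ∘ (dualTwist σ ρ g⁻¹ *ᵥ w) := by
      funext i
      simp only [dualTwist_apply, inv_inv, vecMul, mulVec, dotProduct, Function.comp_apply, map_sum, map_mul,
        Matrix.map_apply, transpose_apply, RingEquiv.symm_apply_apply]
      exact Finset.sum_congr rfl fun j _ => mul_comm _ _
    rw [e1]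
    exact h1
  rcases h U hU with hb | ht
  · exfalso
    refine htop ?_
    by_contra hne
    obtain ⟨f, hf, hker⟩ := Submodule.exists_le_ker_of_lt_top _ (lt_top_iff_ne_top.2 hne)
    obtain ⟨x, rfl⟩ := (dotProductEquiv F (Fin 3)).surjective f
    have hx : (σ.symm ∘ x : Fin 3 → F) ∈ U := fun w hw => by
      have h1 := hker hw
      simp only [LinearMap.mem_ker, dotProductEquiv_apply_apply, dotProduct] at h1
      have h2 := congrArg σ.symm h1
      simp only [map_sum, map_mul, map_zero] at h2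
      rw [← h2]
      exact Finset.sum_congr rfl fun j _ => mul_comm _ _
    rw [hb, Submodule.mem_bot] at hx
    refine hf ?_
    have : x = 0 := funext fun i => by
      have := congrArg σ (congrFun hx i)
      simpa using this
    rw [this, map_zero]
  · refine (Submodule.eq_bot_iff _).2 fun w hw => funext fun i => ?_
    have hi : (Pi.single i 1 : Fin 3 → F) ∈ U := ht ▸ Submodule.mem_top
    have := congrArg σ (hi w hw)
    simpa [dotProduct_single] using this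

theorem trace_dualTwist (σ : F ≃+* F) (ρ : G →* M₃) (g : G) :
    trace (dualTwist σ ρ g) = σ (trace (ρ g⁻¹)) := by
  rw [dualTwist_apply]
  simp [trace, map_sum]

variable {ρ : G →* Matrix (Fin 3) (Fin 3) F} {g₀ : G} {c : F} {v v' φ φ' : Fin 3 → F}

/-- A representation equivalent to the twisted dual fixes a sesquilinear form. -/
theorem exists_fixed_gram (σ : F ≃+* F) (hσ : ∀ a, σ (σ a) = a) (hρ : IrrRep ρ)
    (htr : ∀ g, σ (trace (ρ g⁻¹)) = trace (ρ g)) (hv : v ≠ 0) (hφ : φ ≠ 0) (e : ρ g₀ + c • 1 = vecMulVec v φ)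
    (hv' : v' ≠ 0) (hφ' : φ' ≠ 0) (e' : dualTwist σ ρ g₀ + c • 1 = vecMulVec v' φ') :
    ∃ A : M₃, IsUnit A ∧ ∀ g, (ρ g)ᵀ * A * (ρ g).map σ = A := by
  obtain ⟨B, hB, hc⟩ := exists_intertwiner hρ (irr_dualTwist σ hρ)
    (fun g => by rw [trace_dualTwist, htr]) hv hφ e hv' hφ' e'
  refine ⟨B.map σ, hB.map σ.toRingHom.mapMatrix, fun g => ?_⟩
  have h1 : ((ρ g)ᵀ.map σ) * B * ρ g = B := by
    rw [mul_assoc, ← hc, ← mul_assoc, dualTwist_apply, ← Matrix.map_mul, ← transpose_mul, ← map_mul,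
      inv_mul_cancel, map_one, transpose_one, Matrix.map_one _ (map_zero σ) (map_one σ), one_mul]
  have h2 := congrArg (fun X : M₃ => X.map σ) h1
  simp only [Matrix.map_mul] at h2
  rwa [show ((ρ g)ᵀ.map σ).map σ = (ρ g)ᵀ from by ext i j; simp [hσ]] at h2

/-- With scalar centraliser the conjugate transpose of a fixed Gram matrix is a multiple of it. -/
theorem gram_star (σ : F ≃+* F) (hσ : ∀ a, σ (σ a) = a)
    (hs : ∀ M : M₃, (∀ g, M * ρ g = ρ g * M) → ∃ a : F, M = a • 1) {A : M₃} (hA : IsUnit A)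
    (h : ∀ g, (ρ g)ᵀ * A * (ρ g).map σ = A) : ∃ a : F, (A.map σ)ᵀ = a • A := by
  obtain ⟨A', hA'⟩ := hA.exists_left_inv
  have hAA : A * A' = 1 := mul_eq_one_comm.1 hA'
  have h' : ∀ g, (ρ g)ᵀ * (A.map σ)ᵀ * (ρ g).map σ = (A.map σ)ᵀ := fun g => by
    have h1 := congrArg (fun X : M₃ => (X.map σ)ᵀ) (h g)
    simp only [Matrix.map_mul, transpose_mul] at h1
    rw [show ((ρ g).map σ).map σ = ρ g from by ext i j; simp [hσ]] at h1
    rw [← mul_assoc] at h1
    rwa [show ((ρ g)ᵀ.map σ)ᵀ = (ρ g).map σ from rfl] at h1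
  let X : M₃ := A' * (A.map σ)ᵀ
  have hX : ∀ g, X * (ρ g).map σ = (ρ g).map σ * X := fun g => by
    have h3 : ((ρ g)ᵀ) * ((ρ g⁻¹)ᵀ) = 1 := by
      rw [← transpose_mul, ← map_mul, inv_mul_cancel, map_one, transpose_one]
    have h4 : A * (ρ g).map σ = (ρ g⁻¹)ᵀ * A := by
      have := congrArg ((ρ g⁻¹)ᵀ * ·) (h g)
      simp only [← mul_assoc, mul_eq_one_comm.1 h3, one_mul] at this
      exact this
    have h5 : (A.map σ)ᵀ * (ρ g).map σ = (ρ g⁻¹)ᵀ * (A.map σ)ᵀ := by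
      have := congrArg ((ρ g⁻¹)ᵀ * ·) (h' g)
      simp only [← mul_assoc, mul_eq_one_comm.1 h3, one_mul] at this
      exact this
    have h6 : A' * (ρ g⁻¹)ᵀ = (ρ g).map σ * A' := by
      calc A' * (ρ g⁻¹)ᵀ = A' * (ρ g⁻¹)ᵀ * (A * A') := by rw [hAA, mul_one]
        _ = A' * ((ρ g⁻¹)ᵀ * A) * A' := by simp only [mul_assoc]
        _ = _ := by rw [← h4, ← mul_assoc, hA', one_mul]
    show A' * (A.map σ)ᵀ * _ = _ * (A' * (A.map σ)ᵀ)
    rw [mul_assoc, h5, ← mul_assoc, h6, mul_assoc]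
  obtain ⟨a, ha⟩ := hs (X.map σ) fun g => by
    have := congrArg (fun Y : M₃ => Y.map σ) (hX g)
    simp only [Matrix.map_mul] at this
    rwa [show ((ρ g).map σ).map σ = ρ g from by ext i j; simp [hσ]] at this
  refine ⟨σ a, ?_⟩
  have hX' : X = σ a • (1 : M₃) := by
    ext i j
    have := congrArg σ (congrFun (congrFun ha i) j)
    rw [Matrix.map_apply, hσ, Matrix.smul_apply, smul_eq_mul, map_mul] at this
    rw [this, Matrix.smul_apply, smul_eq_mul, one_apply]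
    split_ifs <;> simp
  calc (A.map σ)ᵀ = A * X := by rw [show A * X = A * A' * (A.map σ)ᵀ from (mul_assoc _ _ _).symm, hAA, one_mul]
    _ = _ := by rw [hX', mul_smul_comm, mul_one]

/-- Trace condition for a unitary form. -/
theorem exists_unitary (σ : F ≃+* F) (hne : σ ≠ RingEquiv.refl F) (hσ : ∀ a, σ (σ a) = a) (hρ : IrrRep ρ)
    (hs : ∀ M : M₃, (∀ g, M * ρ g = ρ g * M) → ∃ a : F, M = a • 1) (htr : ∀ g, σ (trace (ρ g⁻¹)) = trace (ρ g))
    (hv : v ≠ 0) (hφ : φ ≠ 0) (e : ρ g₀ + c • 1 = vecMulVec v φ)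
    (hv' : v' ≠ 0) (hφ' : φ' ≠ 0) (e' : dualTwist σ ρ g₀ + c • 1 = vecMulVec v' φ') :
    ∃ f : (Fin 3 → F) → (Fin 3 → F) → F, Cfsg.Geo.IsUnitaryForm σ f ∧
      ∀ g, ∀ x y, f (ρ g *ᵥ x) (ρ g *ᵥ y) = f x y := by
  obtain ⟨A, hA, h⟩ := exists_fixed_gram σ hσ hρ htr hv hφ e hv' hφ' e'
  obtain ⟨a, ha⟩ := gram_star σ hσ hs hA h
  obtain ⟨β, hβ⟩ : ∃ β : F, β + σ β * a ≠ 0 := by
    by_contra! h0
    have h1 := h0 1
    rw [map_one, one_mul] at h1
    obtain ⟨δ, hδ⟩ : ∃ δ, σ δ ≠ δ := by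
      by_contra! h'; exact hne (RingEquiv.ext h')
    have h2 := h0 δ
    exact hδ (by linear_combination (-1 : F) * h2 + σ δ * h1)
  set H : M₃ := β • A + σ β • (A.map σ)ᵀ with hHdef
  have hH : H = (β + σ β * a) • A := by rw [hHdef, ha, smul_smul, add_smul]
  have hstar : (H.map σ)ᵀ = H := by
    ext i j
    simp [hHdef, hσ]
    ring
  have hHu : IsUnit H := by
    rw [hH, isUnit_iff_isUnit_det, det_smul, isUnit_iff_ne_zero]
    exact mul_ne_zero (pow_ne_zero _ hβ) ((isUnit_iff_isUnit_det _).1 hA).ne_zero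
  have hfix : ∀ g, (ρ g)ᵀ * H * (ρ g).map σ = H := fun g => by
    rw [hH, mul_smul_comm, smul_mul_assoc, h]
  let f : (Fin 3 → F) → (Fin 3 → F) → F := fun x y => x ⬝ᵥ (H *ᵥ (σ ∘ y))
  refine ⟨f, ⟨hne, hσ, fun x y z => add_dotProduct _ _ _, fun r x y => smul_dotProduct _ _ _, fun x y => ?_,
    fun x hx => ?_⟩, fun g x y => ?_⟩
  · show x ⬝ᵥ (H *ᵥ (σ ∘ y)) = σ (y ⬝ᵥ (H *ᵥ (σ ∘ x)))
    simp only [dotProduct, mulVec, map_sum, map_mul, Function.comp_apply, hσ, Finset.mul_sum]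
    rw [Finset.sum_comm]
    refine Finset.sum_congr rfl fun i _ => Finset.sum_congr rfl fun j _ => ?_
    have := congrFun (congrFun hstar j) i
    rw [transpose_apply, Matrix.map_apply] at this
    rw [this]; ring
  · have hσx : σ ∘ x ≠ (0 : Fin 3 → F) := fun h0 => hx (funext fun i => by
      have := congrArg σ (congrFun h0 i)
      simpa [hσ] using this)
    refine ⟨?_, ?_⟩
    · by_contra! h0
      refine hσx (mulVec_injective_iff_isUnit.2 hHu ?_)
      show H *ᵥ (σ ∘ x) = H *ᵥ 0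
      rw [mulVec_zero]
      funext i
      simpa [f] using h0 (Pi.single i 1)
    · by_contra! h0
      refine hx (vecMul_injective_iff_isUnit.2 hHu ?_)
      show x ᵥ* H = 0 ᵥ* H
      rw [zero_vecMul]
      funext i
      have := h0 (Pi.single i 1)
      simp only [f, dotProduct_mulVec] at this
      rwa [show (σ ∘ (Pi.single i (1 : F) : Fin 3 → F)) = (Pi.single i 1 : Fin 3 → F) from by
        funext j; by_cases hj : j = i <;> simp [Pi.single_apply, hj], dotProduct_single, mul_one] at this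
  · show (ρ g *ᵥ x) ⬝ᵥ (H *ᵥ (σ ∘ (ρ g *ᵥ y))) = x ⬝ᵥ (H *ᵥ (σ ∘ y))
    have e1 : σ ∘ (ρ g *ᵥ y) = (ρ g).map σ *ᵥ (σ ∘ y) := by
      funext i; simp [mulVec, dotProduct, map_sum]
    rw [e1, dot_mulVec_dot, hfix]

/-- In odd characteristic self-duality gives a quadratic form. -/
theorem exists_quadratic (h2 : (2 : F) ≠ 0) (hρ : IrrRep ρ)
    (hs : ∀ M : M₃, (∀ g, M * ρ g = ρ g * M) → ∃ a : F, M = a • 1) (htr : ∀ g, trace (ρ g⁻¹) = trace (ρ g))
    (hv : v ≠ 0) (hφ : φ ≠ 0) (e : ρ g₀ + c • 1 = vecMulVec v φ)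
    (hv' : v' ≠ 0) (hφ' : φ' ≠ 0) (e' : dualTwist (RingEquiv.refl F) ρ g₀ + c • 1 = vecMulVec v' φ') :
    ∃ Q : (Fin 3 → F) → F, Cfsg.Geo.IsNondegenerateQuadraticForm Q ∧ ∀ g, ∀ x, Q (ρ g *ᵥ x) = Q x := by
  obtain ⟨A, hA, h⟩ := exists_fixed_gram (RingEquiv.refl F) (fun _ => rfl) hρ htr hv hφ e hv' hφ' e'
  obtain ⟨a, ha⟩ := gram_star (RingEquiv.refl F) (fun _ => rfl) hs hA h
  have hid : ∀ X : M₃, X.map (RingEquiv.refl F) = X := fun X => by ext i j; rfl
  simp only [hid] at ha h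
  have hdet := ((isUnit_iff_isUnit_det _).1 hA).ne_zero
  have ha3 : a ^ 3 = 1 := by
    have := congrArg Matrix.det ha
    rw [det_transpose, det_smul, Fintype.card_fin] at this
    exact (mul_eq_right₀ hdet).1 this.symm
  have ha2 : a ^ 2 = 1 := by
    have h1 := congrArg Matrix.transpose ha
    rw [transpose_transpose, transpose_smul, ha, smul_smul, ← sq] at h1
    have h2 : ((a ^ 2 - 1) • A : M₃) = 0 := by rw [sub_smul, ← h1, one_smul, sub_self]
    have h3 := congrArg Matrix.det h2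
    rw [det_smul, det_zero] at h3
    exact sub_eq_zero.1 (eq_zero_of_pow_eq_zero ((mul_eq_zero.1 h3).resolve_right hdet))
  have ha1 : a = 1 := by linear_combination ha3 - a * ha2
  rw [ha1, one_smul] at ha
  let Q : (Fin 3 → F) → F := fun x => x ⬝ᵥ (A *ᵥ x)
  have hsymm : ∀ x y, x ⬝ᵥ (A *ᵥ y) = y ⬝ᵥ (A *ᵥ x) := fun x y => by
    rw [dotProduct_comm x, ← vecMul_transpose, ← dotProduct_mulVec, ha]
  have hpol : ∀ x y, QuadraticMap.polar Q x y = 2 * (x ⬝ᵥ (A *ᵥ y)) := fun x y => by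
    simp only [QuadraticMap.polar, Q, mulVec_add, dotProduct_add, add_dotProduct, hsymm y x]; ring
  refine ⟨Q, ⟨fun r x => ?_, ⟨fun x y z => ?_, fun r x y => ?_, fun z x y => ?_, fun r x y => ?_⟩, fun x hx => ?_⟩,
    fun g x => ?_⟩
  · simp only [Q, mulVec_smul, dotProduct_smul, smul_dotProduct, smul_eq_mul]; ring
  · simp only [hpol, add_dotProduct]; ring
  · simp only [hpol, smul_dotProduct, smul_eq_mul]; ring
  · simp only [hpol, mulVec_add, dotProduct_add]; ring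
  · simp only [hpol, mulVec_smul, dotProduct_smul, smul_eq_mul]; ring
  · have key : ∃ y, y ⬝ᵥ (A *ᵥ x) ≠ 0 := by
      by_contra! h0
      refine hx (mulVec_injective_iff_isUnit.2 hA ?_)
      show A *ᵥ x = A *ᵥ 0
      rw [mulVec_zero]
      funext i
      simpa using h0 (Pi.single i 1)
    obtain ⟨y, hy⟩ := key
    exact ⟨⟨y, by rw [hpol]; exact mul_ne_zero h2 hy⟩, ⟨y, by rw [hpol, hsymm]; exact mul_ne_zero h2 hy⟩⟩
  · show (ρ g *ᵥ x) ⬝ᵥ (A *ᵥ (ρ g *ᵥ x)) = x ⬝ᵥ (A *ᵥ x)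
    rw [dot_mulVec_dot, h]

/-- In characteristic two there is no self-dual irreducible representation. -/
theorem not_selfDual [Fintype F] [CharP F 2] (hρ : IrrRep ρ)
    (hs : ∀ M : M₃, (∀ g, M * ρ g = ρ g * M) → ∃ a : F, M = a • 1) (htr : ∀ g, trace (ρ g⁻¹) = trace (ρ g))
    (hv : v ≠ 0) (hφ : φ ≠ 0) (e : ρ g₀ + c • 1 = vecMulVec v φ)
    (hv' : v' ≠ 0) (hφ' : φ' ≠ 0) (e' : dualTwist (RingEquiv.refl F) ρ g₀ + c • 1 = vecMulVec v' φ') : False := by
  obtain ⟨A, hA, h⟩ := exists_fixed_gram (RingEquiv.refl F) (fun _ => rfl) hρ htr hv hφ e hv' hφ' e'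
  obtain ⟨a, ha⟩ := gram_star (RingEquiv.refl F) (fun _ => rfl) hs hA h
  have hid : ∀ X : M₃, X.map (RingEquiv.refl F) = X := fun X => by ext i j; rfl
  simp only [hid] at ha h
  have hdet := ((isUnit_iff_isUnit_det _).1 hA).ne_zero
  have ha3 : a ^ 3 = 1 := by
    have := congrArg Matrix.det ha
    rw [det_transpose, det_smul, Fintype.card_fin] at this
    exact (mul_eq_right₀ hdet).1 this.symm
  have ha2 : a ^ 2 = 1 := by
    have h1 := congrArg Matrix.transpose ha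
    rw [transpose_transpose, transpose_smul, ha, smul_smul, ← sq] at h1
    have h2 : ((a ^ 2 - 1) • A : M₃) = 0 := by rw [sub_smul, ← h1, one_smul, sub_self]
    have h3 := congrArg Matrix.det h2
    rw [det_smul, det_zero] at h3
    exact sub_eq_zero.1 (eq_zero_of_pow_eq_zero ((mul_eq_zero.1 h3).resolve_right hdet))
  have ha1 : a = 1 := by linear_combination ha3 - a * ha2
  rw [ha1, one_smul] at ha
  have hs10 : A 1 0 = A 0 1 := by have := congrFun (congrFun ha 0) 1; simpa using this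
  have hs20 : A 2 0 = A 0 2 := by have := congrFun (congrFun ha 0) 2; simpa using this
  have hs21 : A 2 1 = A 1 2 := by have := congrFun (congrFun ha 1) 2; simpa using this
  have h20 : (2 : F) = 0 := by exact_mod_cast CharP.cast_eq_zero F 2
  have hsq := (frobeniusEquiv F 2).surjective
  choose s hs using fun i : Fin 3 => hsq (A i i)
  simp only [frobeniusEquiv_apply, frobenius_def] at hs
  have hquad : ∀ x, x ⬝ᵥ (A *ᵥ x) = (s ⬝ᵥ x) ^ 2 := fun x => by
    simp only [dotProduct, mulVec, Fin.sum_univ_three, hs10, hs20, hs21, ← hs]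
    linear_combination (x 0 * x 1 * A 0 1 + x 0 * x 2 * A 0 2 + x 1 * x 2 * A 1 2 - s 0 * x 0 * (s 1 * x 1) -
      s 0 * x 0 * (s 2 * x 2) - s 1 * x 1 * (s 2 * x 2)) * h20
  have hfix : ∀ g, s ᵥ* ρ g = s := fun g => by
    funext i
    have h1 : (s ⬝ᵥ (ρ g *ᵥ Pi.single i 1)) ^ 2 = (s ⬝ᵥ Pi.single i 1) ^ 2 := by
      rw [← hquad, ← hquad, dot_mulVec_dot, h]
    have h2 := (frobeniusEquiv F 2).injective (a₁ := s ⬝ᵥ (ρ g *ᵥ Pi.single i 1)) (a₂ := s ⬝ᵥ Pi.single i 1)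
      (by simpa [frobeniusEquiv_apply, frobenius_def] using h1)
    rw [dotProduct_mulVec, dotProduct_single, dotProduct_single, mul_one, mul_one] at h2
    exact h2
  have hs0 : s ≠ 0 := fun e0 => hdet (by
    have : ∀ i, A i i = 0 := fun i => by rw [← hs, e0]; simp
    rw [det_fin_three, this 0, this 1, this 2, hs10, hs20, hs21]
    linear_combination (A 0 1 * A 1 2 * A 0 2) * h20)
  have hx : ∃ x : Fin 3 → F, x ≠ 0 ∧ s ⬝ᵥ x = 0 := by
    by_cases h0 : s 0 = 0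
    · exact ⟨Pi.single 0 1, by simp, by simp [h0]⟩
    · exact ⟨![-s 1, s 0, 0], fun e0 => h0 (by simpa using congrFun e0 1),
        by simp [dotProduct, Fin.sum_univ_three]; ring⟩
  obtain ⟨x, hx0, hx⟩ := hx
  exact hx0 (hρ.eq_zero_of_killed hs0 fun g => by rw [dotProduct_mulVec, hfix, hx])

end Cfsg.Agent.Classical.Residual
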