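import Cfsg.Agent.Lib.Classical.MatrixOrders
import Cfsg.Agent.Lib.Classical.DicksonTorus
import Cfsg.Agent.S2475

/-!
Real elements and Sylow 3-subgroups of `PSL(2, K)`, and the classes of the alternating groups of degree six and seven.
-/

set_option autoImplicit false

namespace Cfsg.Agent.Classical.Residual

open Matrix
open Cfsg.Agent.Classical

section Two

variable {K : Type*} [Field K] [Fintype K]

local notation "SL₂" => Matrix.SpecialLinearGroup (Fin 2) K
local notation "PSL₂" => Matrix.ProjectiveSpecialLinearGroup (Fin 2) K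
local notation "M₂" => Matrix (Fin 2) (Fin 2) K

omit [Fintype K] in
theorem isConj_of_mat {g g' : SL₂} (h : M₂) (hd : h.det = 1) (e : h * (g : M₂) = (g' : M₂) * h) :
    IsConj g g' := by
  refine isConj_iff.2 ⟨(⟨h, hd⟩ : SL₂), mul_inv_eq_iff_eq_mul.2 (Subtype.ext ?_)⟩
  exact e

/-- Elements of `SL(2, K)` are real, apart from unipotents when `-1` is no square. -/
theorem sl2_real (g : SL₂) (h : IsSquare (-1 : K) ∨ (g.1 0 0 + g.1 1 1) ^ 2 ≠ 4) : IsConj g g⁻¹ := by
  set a := g.1 0 0 with ha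
  set b := g.1 0 1 with hb
  set c := g.1 1 0 with hc
  set d := g.1 1 1 with hd
  have hdet : a * d - b * c = 1 := by rw [ha, hb, hc, hd, ← det_fin_two]; exact g.2
  have key : ∀ x y z : K, x * (a - d) + y * c + z * b = 0 → -(x * x) - y * z = 1 → IsConj g g⁻¹ := by
    intro x y z h1 h2
    refine isConj_of_mat !![x, y; z, -x] (by rw [det_fin_two]; simp; linear_combination h2) ?_
    rw [Matrix.SpecialLinearGroup.coe_inv, adjugate_fin_two]
    ext i j
    fin_cases i <;> fin_cases j <;> simp [Matrix.mul_apply, Fin.sum_univ_two, ← ha, ← hb, ← hc, ← hd] <;>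
      first | linear_combination h1 | linear_combination -h1 | ring
  by_cases hc0 : c = 0
  · by_cases hb0 : b = 0
    · exact key 0 1 (-1) (by rw [hc0, hb0]; ring) (by ring)
    · by_cases hi : IsSquare (-1 : K)
      · obtain ⟨i, hi⟩ := hi
        exact key i 0 (-(i * (a - d)) / b) (by rw [hc0]; field_simp; ring) (by linear_combination hi)
      · have hne : a - d ≠ 0 := fun e => (h.resolve_left hi) (by
          rw [hc0] at hdet; linear_combination 4 * hdet + (a - d) * e)
        exact key (-b / (a - d)) (-1 - (-b / (a - d)) * (-b / (a - d))) 1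
          (by rw [hc0]; field_simp; ring) (by ring)
  · by_cases hi : IsSquare (-1 : K)
    · obtain ⟨i, hi⟩ := hi
      exact key i (-(i * (a - d)) / c) 0 (by field_simp; ring) (by linear_combination hi)
    · have h2 : ringChar K ≠ 2 := fun e => hi (by
        haveI := ringChar.of_eq e
        exact ⟨1, by rw [CharTwo.neg_eq, one_mul]⟩)
      have h20 : (2 : K) ≠ 0 := Ring.two_ne_zero h2
      have h40 : (4 : K) * c ≠ 0 := mul_ne_zero (by rw [show (4 : K) = 2 * 2 by norm_num]; exact mul_ne_zero h20 h20) hc0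
      have hB : ((a + d) ^ 2 - 4) / (4 * c) ≠ 0 := div_ne_zero (sub_ne_zero.2 (h.resolve_left hi)) h40
      obtain ⟨u, z, huz⟩ := FiniteField.exists_root_sum_quadratic (R := K)
        (f := Polynomial.C (-c) * Polynomial.X ^ 2)
        (g := Polynomial.C (((a + d) ^ 2 - 4) / (4 * c)) * Polynomial.X ^ 2 - Polynomial.C c)
        (Polynomial.degree_C_mul_X_pow 2 (neg_ne_zero.2 hc0))
        (by rw [Polynomial.degree_sub_C (by rw [Polynomial.degree_C_mul_X_pow 2 hB]; norm_num),
          Polynomial.degree_C_mul_X_pow 2 hB]; rfl) (FiniteField.odd_card_of_char_ne_two h2)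
      simp at huz
      obtain ⟨x, hx⟩ : ∃ x, x = u + (a - d) * z / (2 * c) := ⟨_, rfl⟩
      refine key x (-(x * (a - d) + z * b) / c) z (by field_simp; ring) ?_
      rw [hx]
      have h4' : (4 : K) ≠ 0 := left_ne_zero_of_mul h40
      linear_combination (norm := (field_simp; ring)) huz / c - z ^ 2 / c ^ 2 * hdet

theorem pow_char_of_disc (p : ℕ) [Fact p.Prime] [CharP K p] (hp2 : p ≠ 2) (g : SL₂)
    (hτ : (g.1 0 0 + g.1 1 1) ^ 2 = 4) : slToPSL 2 K g ^ p = 1 := by
  have h20 : (2 : K) ≠ 0 := Ring.two_ne_zero (by rw [ringChar.eq K p]; exact hp2)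
  set s := (g.1 0 0 + g.1 1 1) / 2 with hs
  rw [← map_pow, slToPSL_eq_one_iff]
  refine ⟨s ^ p, ?_⟩
  have hN : ((g : M₂) - s • 1) ^ 2 = 0 := by
    have hdet : g.1 0 0 * g.1 1 1 - g.1 0 1 * g.1 1 0 = 1 := by rw [← det_fin_two]; exact g.2
    rw [sq]
    ext i j
    fin_cases i <;> fin_cases j <;> simp [Matrix.mul_apply, Fin.sum_univ_two, hs] <;> field_simp <;>
      first | linear_combination hτ - 4 * hdet | ring
  have h1 : ((g : M₂) - s • 1) ^ p = 0 := pow_eq_zero_of_le (Fact.out : p.Prime).two_le hN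
  rw [sub_pow_char_of_commute _ ((Commute.one_right _).smul_right s), smul_pow, one_pow, sub_eq_zero] at h1
  rw [Matrix.SpecialLinearGroup.coe_pow, h1, scalar_apply, smul_one_eq_diagonal]

theorem psl2_real_or_unipotent (p : ℕ) [Fact p.Prime] [CharP K p] (x : PSL₂) : IsConj x x⁻¹ ∨ x ^ p = 1 := by
  obtain ⟨g, rfl⟩ := slToPSL_surjective (n := 2) (F := K) x
  by_cases h : IsSquare (-1 : K) ∨ (g.1 0 0 + g.1 1 1) ^ 2 ≠ 4
  · left; rw [← map_inv]; exact (slToPSL 2 K).map_isConj (sl2_real g h)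
  · right
    push Not at h
    exact pow_char_of_disc p (fun e => h.1 (by subst e; exact ⟨1, by rw [CharTwo.neg_eq, one_mul]⟩)) g h.2

theorem psl2_real (h : IsSquare (-1 : K)) (x : PSL₂) : IsConj x x⁻¹ := by
  obtain ⟨g, rfl⟩ := slToPSL_surjective (n := 2) (F := K) x
  rw [← map_inv]
  exact (slToPSL 2 K).map_isConj (sl2_real g (Or.inl h))

theorem seven_check : ∀ a b c d : ZMod 7, a * d - b * c = 1 →
    ((a + d) * (a + d) ≠ 4 ∧ ((a + d = 0) ∨ (a + d) * (a + d) = 1 ∨ (a + d) * (a + d) = 2)) ∨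
    (a + d) * (a + d) = 4 ∧ ∃ t r : ZMod 7, t * r = 1 ∧ ∃ y z : ZMod 7, y * z = 0 ∧ ∃ s : ZMod 7, s * s = 1 ∧
      t * a + y * c = s * ((a * a + b * c) * t + (a * b + b * d) * z) ∧
      t * b + y * d = s * ((a * a + b * c) * y + (a * b + b * d) * r) ∧
      z * a + r * c = s * ((c * a + d * c) * t + (c * b + d * d) * z) ∧
      z * b + r * d = s * ((c * a + d * c) * y + (c * b + d * d) * r) := by
  decide +kernel

/-- The elements of `PSL(2, 7)`. -/
theorem psl2_seven (h7 : Fintype.card K = 7) (x : PSL₂) :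
    ((x ^ 2 = 1 ∨ x ^ 3 = 1 ∨ x ^ 4 = 1) ∧ IsConj x x⁻¹) ∨ (x ^ 7 = 1 ∧ IsConj x (x ^ 2)) := by
  haveI : Fact (Nat.Prime 7) := ⟨by norm_num⟩
  haveI : CharP K 7 := charP_of_card_eq_prime h7
  let e : ZMod 7 ≃+* K := ZMod.ringEquivOfPrime K (by norm_num) h7
  obtain ⟨g, rfl⟩ := slToPSL_surjective (n := 2) (F := K) x
  obtain ⟨a, ha⟩ := e.surjective (g.1 0 0)
  obtain ⟨b, hb⟩ := e.surjective (g.1 0 1)
  obtain ⟨c, hc⟩ := e.surjective (g.1 1 0)
  obtain ⟨d, hd⟩ := e.surjective (g.1 1 1)
  have hdetK : g.1 0 0 * g.1 1 1 - g.1 0 1 * g.1 1 0 = 1 := by rw [← det_fin_two]; exact g.2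
  have hdet : a * d - b * c = 1 := e.injective (by rw [map_sub, map_mul, map_mul, ha, hb, hc, hd, map_one, hdetK])
  have hch : ∀ m : M₂, m.det = 1 → m * m = (m 0 0 + m 1 1) • m - 1 := fun m hm => by
    rw [det_fin_two] at hm
    ext i j
    fin_cases i <;> fin_cases j <;> simp [Matrix.mul_apply, Fin.sum_univ_two] <;>
      first | linear_combination hm | linear_combination -hm | ring
  have hsq := hch _ g.2
  rcases seven_check a b c d hdet with ⟨hne, hτ⟩ | ⟨h4, t, r, htr, y, z, hyz, s, hs, e1, e2, e3, e4⟩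
  · left
    refine ⟨?_, ?_⟩
    · rcases hτ with h0 | h1 | h2
      · left
        rw [← map_pow, slToPSL_eq_one_iff]
        refine ⟨-1, ?_⟩
        have : g.1 0 0 + g.1 1 1 = 0 := by rw [← ha, ← hd, ← map_add, h0, map_zero]
        rw [Matrix.SpecialLinearGroup.coe_pow, sq, hsq, this, scalar_apply, ← smul_one_eq_diagonal]
        simp
      · right; left
        rw [← map_pow, slToPSL_eq_one_iff]
        refine ⟨-(g.1 0 0 + g.1 1 1), ?_⟩
        have h1' : (g.1 0 0 + g.1 1 1) * (g.1 0 0 + g.1 1 1) = 1 := by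
          rw [← ha, ← hd, ← map_add, ← map_mul, h1, map_one]
        rw [Matrix.SpecialLinearGroup.coe_pow, pow_succ, sq, hsq, sub_mul, smul_mul_assoc, hsq, one_mul, smul_sub,
          smul_smul, h1', one_smul, scalar_apply, ← smul_one_eq_diagonal]
        module
      · right; right
        rw [← map_pow, slToPSL_eq_one_iff]
        refine ⟨-1, ?_⟩
        have h2' : (g.1 0 0 + g.1 1 1) * (g.1 0 0 + g.1 1 1) = 2 := by
          rw [← ha, ← hd, ← map_add, ← map_mul, h2]; exact map_ofNat e 2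
        rw [Matrix.SpecialLinearGroup.coe_pow, show 4 = 2 * 2 from rfl, pow_mul, sq, sq, hsq, sub_mul, mul_sub,
          mul_sub, smul_mul_assoc, mul_smul_comm, hsq, one_mul, mul_one, mul_one, smul_sub, smul_smul, h2',
          scalar_apply, ← smul_one_eq_diagonal]
        simp only [smul_sub, smul_smul, h2']
        module
    · rw [← map_inv]
      refine (slToPSL 2 K).map_isConj (sl2_real g (Or.inr fun e4 => hne (e.injective ?_)))
      rw [map_mul, map_add, ha, hd, ← sq, e4]; exact (map_ofNat e 4).symm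
  · right
    let hm : SL₂ := ⟨!![e t, e y; e z, e r], by
      rw [det_fin_two]; simp only [Matrix.of_apply, Matrix.cons_val', Matrix.cons_val_zero, Matrix.cons_val_one]
      rw [← map_mul, ← map_mul, hyz, map_zero, sub_zero, htr, map_one]⟩
    have hsc : (e s • (1 : M₂)).det = 1 := by
      rw [det_smul, det_one, Fintype.card_fin, mul_one, sq, ← map_mul, hs, map_one]
    let sc : SL₂ := ⟨e s • 1, hsc⟩
    have hconj : hm * g = sc * g ^ 2 * hm := by
      refine Subtype.ext ?_
      rw [Matrix.SpecialLinearGroup.coe_mul, Matrix.SpecialLinearGroup.coe_mul, Matrix.SpecialLinearGroup.coe_mul,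
        Matrix.SpecialLinearGroup.coe_pow, sq]
      have k1 := congrArg e e1
      have k2 := congrArg e e2
      have k3 := congrArg e e3
      have k4 := congrArg e e4
      simp only [map_add, map_mul, ha, hb, hc, hd] at k1 k2 k3 k4
      ext i j
      fin_cases i <;> fin_cases j <;> simp [hm, sc, Matrix.mul_apply, Fin.sum_univ_two] <;>
        first | linear_combination k1 | linear_combination k2 | linear_combination k3 | linear_combination k4
    have hsc1 : slToPSL 2 K sc = 1 := by
      rw [slToPSL_eq_one_iff]; exact ⟨e s, by show e s • (1 : M₂) = _; rw [scalar_apply, smul_one_eq_diagonal]⟩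
    have hc' : IsConj (slToPSL 2 K g) (slToPSL 2 K g ^ 2) := by
      refine isConj_iff.2 ⟨slToPSL 2 K hm, ?_⟩
      rw [← map_mul, hconj, map_mul, map_mul, hsc1, one_mul, map_pow, mul_inv_cancel_right]
    refine ⟨?_, hc'⟩
    refine pow_char_of_disc 7 (by norm_num) g ?_
    rw [← ha, ← hd, sq, ← map_add, ← map_mul, h4]; exact map_ofNat e 4

end Two

end Cfsg.Agent.Classical.Residual
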