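import Mathlib

/-!
Three-dimensional representations determined by their traces: an element that is a scalar plus a matrix of rank one
gives intertwiners and rational forms.
-/

set_option autoImplicit false

namespace Cfsg.Agent.Classical.Residual

open Matrix

variable {F : Type*} [Field F] {ι : Type*} [Fintype ι] [DecidableEq ι]

/-- The matrices of a representation leave only the trivial subspaces invariant. -/
def IrrRep {G : Type*} [Monoid G] (ρ : G →* Matrix ι ι F) : Prop :=
  ∀ W : Submodule F (ι → F), (∀ g, ∀ w ∈ W, ρ g *ᵥ w ∈ W) → W = ⊥ ∨ W = ⊤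

namespace IrrRep

variable {G : Type*} [Monoid G] {ρ : G →* Matrix ι ι F}

/-- The orbit of a nonzero vector spans. -/
theorem span_orbit (h : IrrRep ρ) {v : ι → F} (hv : v ≠ 0) :
    Submodule.span F (Set.range fun g => ρ g *ᵥ v) = ⊤ := by
  refine (h _ fun g w hw => ?_).resolve_left fun e => hv ?_
  · induction hw using Submodule.span_induction with
    | mem x hx =>
      obtain ⟨k, rfl⟩ := hx
      exact Submodule.subset_span ⟨g * k, by show ρ (g * k) *ᵥ v = _; rw [map_mul, ← mulVec_mulVec]⟩
    | zero => simp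
    | add a b _ _ ha hb => rw [mulVec_add]; exact add_mem ha hb
    | smul c a _ ha => rw [mulVec_smul]; exact Submodule.smul_mem _ c ha
  · have := Submodule.subset_span (R := F) ⟨1, rfl⟩ (s := Set.range fun g => ρ g *ᵥ v)
    rw [e, SetLike.mem_coe, Submodule.mem_bot] at this
    simpa using this

/-- A vector killed by all translates of a nonzero functional is zero. -/
theorem eq_zero_of_killed (h : IrrRep ρ) {φ : ι → F} (hφ : φ ≠ 0) {x : ι → F}
    (hx : ∀ g, φ ⬝ᵥ (ρ g *ᵥ x) = 0) : x = 0 := by
  let W : Submodule F (ι → F) :=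
    { carrier := {y | ∀ g, φ ⬝ᵥ (ρ g *ᵥ y) = 0}
      add_mem' := fun {a b} ha hb g => by rw [mulVec_add, dotProduct_add, ha g, hb g, add_zero]
      zero_mem' := fun g => by simp
      smul_mem' := fun c a ha g => by rw [mulVec_smul, dotProduct_smul, ha g, smul_zero] }
  have hW : W = ⊥ := (h W fun g w hw k => by rw [mulVec_mulVec, ← map_mul]; exact hw (k * g)).resolve_right fun e => hφ (by
    funext i
    have hi : (Pi.single i 1 : ι → F) ∈ W := e ▸ Submodule.mem_top
    have h1 := hi 1
    rwa [map_one, one_mulVec, dotProduct_single, mul_one] at h1)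
  exact (Submodule.eq_bot_iff _).1 hW x hx

end IrrRep

variable {G : Type*} [Monoid G] {ρ ρ' : G →* Matrix ι ι F} {g₀ : G} {c : F} {v v' φ φ' : ι → F}

omit [DecidableEq ι] in
theorem trace_vecMulVec_mul (v φ : ι → F) (A : Matrix ι ι F) :
    trace (vecMulVec v φ * A) = φ ⬝ᵥ (A *ᵥ v) := by
  rw [vecMulVec_mul, trace_vecMulVec, dotProduct_comm, dotProduct_mulVec]

/-- The values of the distinguished functional on the orbit are combinations of traces. -/
theorem value_eq (e : ρ g₀ + c • 1 = vecMulVec v φ) (g : G) :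
    φ ⬝ᵥ (ρ g *ᵥ v) = trace (ρ (g₀ * g)) + c * trace (ρ g) := by
  rw [← trace_vecMulVec_mul, ← e, add_mul, smul_mul_assoc, one_mul, trace_add, trace_smul, map_mul, smul_eq_mul]

/-- Irreducible representations with the same traces are equivalent. -/
theorem exists_intertwiner (hρ : IrrRep ρ) (hρ' : IrrRep ρ') (htr : ∀ g, trace (ρ' g) = trace (ρ g))
    (hv : v ≠ 0) (hφ : φ ≠ 0) (e : ρ g₀ + c • 1 = vecMulVec v φ)
    (hv' : v' ≠ 0) (hφ' : φ' ≠ 0) (e' : ρ' g₀ + c • 1 = vecMulVec v' φ') :
    ∃ B : Matrix ι ι F, IsUnit B ∧ ∀ g, ρ' g * B = B * ρ g := by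
  classical
  have hval : ∀ g, φ' ⬝ᵥ (ρ' g *ᵥ v') = φ ⬝ᵥ (ρ g *ᵥ v) := fun g => by
    rw [value_eq e, value_eq e', htr, htr]
  let T : (G →₀ F) →ₗ[F] (ι → F) := Finsupp.linearCombination F fun g => ρ g *ᵥ v
  let T' : (G →₀ F) →ₗ[F] (ι → F) := Finsupp.linearCombination F fun g => ρ' g *ᵥ v'
  have hT : Function.Surjective T := LinearMap.range_eq_top.1 (by
    rw [Finsupp.range_linearCombination]; exact hρ.span_orbit hv)
  have hT' : Function.Surjective T' := LinearMap.range_eq_top.1 (by
    rw [Finsupp.range_linearCombination]; exact hρ'.span_orbit hv')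
  have key : ∀ (k : G) (x : G →₀ F), φ ⬝ᵥ (ρ k *ᵥ T x) = φ' ⬝ᵥ (ρ' k *ᵥ T' x) := fun k x => by
    induction x using Finsupp.induction_linear with
    | zero => simp
    | add a b ha hb => rw [map_add, map_add, mulVec_add, mulVec_add, dotProduct_add, dotProduct_add, ha, hb]
    | single g a =>
      simp only [T, T', Finsupp.linearCombination_single, mulVec_smul, dotProduct_smul, mulVec_mulVec, ← map_mul, hval]
  have hker : LinearMap.ker T = LinearMap.ker T' := by
    ext x
    rw [LinearMap.mem_ker, LinearMap.mem_ker]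
    exact ⟨fun h => hρ'.eq_zero_of_killed hφ' fun k => by rw [← key, h, mulVec_zero, dotProduct_zero],
      fun h => hρ.eq_zero_of_killed hφ fun k => by rw [key, h, mulVec_zero, dotProduct_zero]⟩
  let E : (ι → F) ≃ₗ[F] (ι → F) := (T.quotKerEquivOfSurjective hT).symm.trans
    ((Submodule.quotEquivOfEq _ _ hker).trans (T'.quotKerEquivOfSurjective hT'))
  have hE : ∀ x, E (T x) = T' x := fun x => by
    have : (T.quotKerEquivOfSurjective hT).symm (T x) = Submodule.Quotient.mk x := by
      rw [LinearEquiv.symm_apply_eq]; rfl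
    simp only [E, LinearEquiv.trans_apply, this, Submodule.quotEquivOfEq_mk]
    rfl
  refine ⟨LinearMap.toMatrix' E.toLinearMap, ?_, fun g => ?_⟩
  · exact (LinearMap.toMatrixAlgEquiv' (R := F) (n := ι)).toAlgHom.toRingHom.isUnit_map
      ((LinearMap.GeneralLinearGroup.ofLinearEquiv E).isUnit)
  · have hstep : ∀ (k : G) (x : ι → F), E (ρ k *ᵥ x) = ρ' k *ᵥ E x := by
      intro k x
      obtain ⟨y, rfl⟩ := hT x
      induction y using Finsupp.induction_linear with
      | zero => simp
      | add a b ha hb => rw [map_add, mulVec_add, map_add, map_add, ha, hb, mulVec_add]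
      | single g a =>
        have h1 : ρ k *ᵥ T (Finsupp.single g a) = T (Finsupp.single (k * g) a) := by
          simp [T, Finsupp.linearCombination_single, mulVec_smul, mulVec_mulVec, map_mul]
        rw [h1, hE, hE]
        simp [T', Finsupp.linearCombination_single, mulVec_smul, mulVec_mulVec, map_mul]
    refine Matrix.ext_of_mulVec_single fun i => ?_
    rw [← mulVec_mulVec, ← mulVec_mulVec, LinearMap.toMatrix'_mulVec, LinearMap.toMatrix'_mulVec]
    exact (hstep g _).symm

/-- A representation with all traces in a subfield is written over it in a suitable basis. -/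
theorem exists_rational (hρ : IrrRep ρ) (F₀ : Subfield F) (htr : ∀ g, trace (ρ g) ∈ F₀) (hc : c ∈ F₀)
    (hv : v ≠ 0) (hφ : φ ≠ 0) (e : ρ g₀ + c • 1 = vecMulVec v φ) :
    ∃ B : GL ι F, ∀ g, ∀ i j, ((B : Matrix ι ι F) * ρ g * ((B⁻¹ : GL ι F) : Matrix ι ι F)) i j ∈ F₀ := by
  classical
  have hval : ∀ g, φ ⬝ᵥ (ρ g *ᵥ v) ∈ F₀ := fun g => by
    rw [value_eq e]; exact F₀.add_mem (htr _) (F₀.mul_mem hc (htr _))
  have pick : ∀ S : G → (ι → F), Submodule.span F (Set.range S) = ⊤ →
      ∃ k : ι → G, Function.Bijective fun x : ι → F => ∑ i, x i • S (k i) := by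
    intro S hS
    obtain ⟨b, hb, hspan, hli⟩ := exists_linearIndependent F (Set.range S)
    rw [hS] at hspan
    let B := Module.Basis.mk hli (by rw [Subtype.range_coe_subtype, Set.ofPred_mem_eq, hspan])
    let eqv : ι ≃ b := ((Pi.basisFun F ι).indexEquiv B)
    choose k hk using fun i : ι => hb (eqv i).2
    refine ⟨k, ?_⟩
    have : (fun x : ι → F => ∑ i, x i • S (k i)) = ((B.reindex eqv.symm).equivFun.symm : (ι → F) → ι → F) := by
      funext x
      rw [Module.Basis.equivFun_symm_apply]
      refine Finset.sum_congr rfl fun i _ => ?_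
      rw [hk i, Module.Basis.reindex_apply, Equiv.symm_symm, Module.Basis.mk_apply]
    rw [this]
    exact LinearEquiv.bijective _
  obtain ⟨k, hk⟩ := pick (fun g => ρ g *ᵥ v) (hρ.span_orbit hv)
  have hdual : Submodule.span F (Set.range fun g => φ ᵥ* ρ g) = ⊤ := by
    by_contra hne
    obtain ⟨f, hf, hker⟩ := Submodule.exists_le_ker_of_lt_top _ (lt_top_iff_ne_top.2 hne)
    obtain ⟨x, rfl⟩ := (dotProductEquiv F ι).surjective f
    refine hf ?_
    have hx0 : x = 0 := hρ.eq_zero_of_killed hφ fun g => by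
      have := hker (Submodule.subset_span ⟨g, rfl⟩)
      rw [LinearMap.mem_ker] at this
      simp only [dotProductEquiv_apply_apply] at this
      rw [dotProduct_mulVec, dotProduct_comm]
      exact this
    rw [hx0, map_zero]
  obtain ⟨l, hl⟩ := pick (fun g => φ ᵥ* ρ g) hdual
  let C : Matrix ι ι F := of fun i j => (ρ (k j) *ᵥ v) i
  let R : Matrix ι ι F := of fun i j => (φ ᵥ* ρ (l i)) j
  have hC : IsUnit C := mulVec_injective_iff_isUnit.1 fun x y h => hk.1 (by
    funext i
    have h := congrFun h i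
    simp only [C, mulVec, dotProduct, of_apply] at h
    simp only [Finset.sum_apply, Pi.smul_apply, smul_eq_mul]
    simp only [mulVec, dotProduct]
    simpa [mul_comm] using h)
  have hR : IsUnit R := vecMul_injective_iff_isUnit.1 fun x y h => hl.1 (by
    funext i
    have h := congrFun h i
    simp only [R, vecMul, dotProduct, of_apply] at h
    simp only [Finset.sum_apply, Pi.smul_apply, smul_eq_mul]
    simp only [vecMul, dotProduct]
    exact h)
  have hRgC : ∀ g i j, (R * ρ g * C) i j ∈ F₀ := fun g i j => by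
    have : (R * ρ g * C) i j = φ ⬝ᵥ (ρ (l i * g * k j) *ᵥ v) := by
      rw [map_mul, map_mul, dotProduct_mulVec, ← vecMul_vecMul, ← dotProduct_mulVec, ← vecMul_vecMul]
      simp only [mul_apply, R, C, of_apply, dotProduct, vecMul, mulVec]
    rw [this]; exact hval _
  let M0 : Matrix ι ι F₀ := of fun i j => ⟨(R * C) i j, by simpa using hRgC 1 i j⟩
  have hM : M0.map F₀.subtype = R * C := rfl
  have hdet : IsUnit M0 := by
    rw [isUnit_iff_isUnit_det, isUnit_iff_ne_zero]
    intro h0
    have := RingHom.map_det F₀.subtype M0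
    rw [RingHom.mapMatrix_apply, hM, h0, map_zero] at this
    exact ((isUnit_iff_isUnit_det _).1 (hR.mul hC)).ne_zero this.symm
  obtain ⟨N, hN⟩ := hdet.exists_left_inv
  refine ⟨hC.unit⁻¹, fun g i j => ?_⟩
  rw [inv_inv, IsUnit.unit_spec]
  have hN' : N.map F₀.subtype * (R * C) = 1 := by
    rw [← hM, ← Matrix.map_mul, hN, Matrix.map_one _ (map_zero _) (map_one _)]
  have : ((hC.unit⁻¹ : GL ι F) : Matrix ι ι F) * ρ g * C = N.map F₀.subtype * (R * ρ g * C) := by
    have hNR : N.map F₀.subtype * R = ((hC.unit⁻¹ : GL ι F) : Matrix ι ι F) := by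
      have h1 := congrArg (· * ((hC.unit⁻¹ : GL ι F) : Matrix ι ι F)) hN'
      simp only [mul_assoc, one_mul] at h1
      rwa [IsUnit.mul_val_inv, mul_one] at h1
    rw [← hNR]; simp only [mul_assoc]
  rw [this, mul_apply]
  exact F₀.sum_mem fun m _ => F₀.mul_mem (N i m).2 (hRgC g m j)

end Cfsg.Agent.Classical.Residual
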