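import Cfsg.Agent.Lib.Classical.Residual.AltCases
import Cfsg.Agent.Lib.Classical.Bloom.Main

/-!
The residual groups without transvections in odd characteristic.
-/

set_option autoImplicit false

namespace Cfsg.Agent.Classical.Residual

open Matrix
open Cfsg.Agent.Classical.Bloom

/-- `PGL(2, K)` is not a non-abelian simple group in odd characteristic. -/
theorem pgl2_not_simple {K : Type*} [Field K] [Fintype K] (h2 : (2 : K) ≠ 0)
    (hs : IsSimpleGroup (GL (Fin 2) K ⧸ Subgroup.center (GL (Fin 2) K))) : False := by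
  let π := QuotientGroup.mk' (Subgroup.center (GL (Fin 2) K))
  set S : Subgroup (GL (Fin 2) K) := (Matrix.GeneralLinearGroup.det : GL (Fin 2) K →* Kˣ).ker with hS
  haveI : (S.map π).Normal := Subgroup.Normal.map inferInstance π (QuotientGroup.mk'_surjective _)
  rcases hs.eq_bot_or_eq_top_of_normal (S.map π) inferInstance with h | h
  · let u : GL (Fin 2) K := Matrix.GeneralLinearGroup.mkOfDetNeZero !![1, 1; 0, 1] (by simp [det_fin_two])
    have hu : u ∈ S := by
      rw [hS, MonoidHom.mem_ker]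
      ext
      simp [u, det_fin_two, Matrix.GeneralLinearGroup.val_det_apply]
    have h1 : π u = 1 := (Subgroup.mem_bot).1 (h ▸ Subgroup.mem_map_of_mem π hu)
    rw [QuotientGroup.mk'_apply, QuotientGroup.eq_one_iff, Subgroup.mem_center_iff] at h1
    let l : GL (Fin 2) K := Matrix.GeneralLinearGroup.mkOfDetNeZero !![1, 0; 1, 1] (by simp [det_fin_two])
    have := congrArg (fun g : GL (Fin 2) K => (g : Matrix (Fin 2) (Fin 2) K) 0 0) (h1 l)
    simp [u, l, Matrix.mul_apply, Fin.sum_univ_two] at this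
  · obtain ⟨a, ha⟩ := FiniteField.exists_nonsquare (F := K) (by
      intro hc
      haveI := ringChar.charP K
      rw [hc] at this
      exact h2 (by exact_mod_cast CharP.cast_eq_zero K 2))
    have ha0 : a ≠ 0 := fun e => ha (e ▸ IsSquare.zero)
    let d : GL (Fin 2) K := Matrix.GeneralLinearGroup.mkOfDetNeZero !![a, 0; 0, 1] (by simp [det_fin_two, ha0])
    obtain ⟨s, hs, e⟩ : π d ∈ S.map π := h ▸ Subgroup.mem_top _
    rw [QuotientGroup.mk'_apply, QuotientGroup.mk'_apply, QuotientGroup.eq, Subgroup.mem_center_iff] at e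
    set z := s⁻¹ * d
    let u : GL (Fin 2) K := Matrix.GeneralLinearGroup.mkOfDetNeZero !![1, 1; 0, 1] (by simp [det_fin_two])
    let l : GL (Fin 2) K := Matrix.GeneralLinearGroup.mkOfDetNeZero !![1, 0; 1, 1] (by simp [det_fin_two])
    have hu : ∀ i j, ((u * z : GL (Fin 2) K) : Matrix (Fin 2) (Fin 2) K) i j =
      ((z * u : GL (Fin 2) K) : Matrix (Fin 2) (Fin 2) K) i j := fun i j => by rw [e u]
    have hl : ∀ i j, ((l * z : GL (Fin 2) K) : Matrix (Fin 2) (Fin 2) K) i j =
      ((z * l : GL (Fin 2) K) : Matrix (Fin 2) (Fin 2) K) i j := fun i j => by rw [e l]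
    have h00 := hu 0 0
    have h01 := hu 0 1
    have h11 := hl 0 0
    simp [u, l, Matrix.mul_apply, Fin.sum_univ_two] at h00 h01 h11
    have hdet : (d : Matrix (Fin 2) (Fin 2) K).det = (z : Matrix (Fin 2) (Fin 2) K).det := by
      have : d = s * z := by simp [z]
      conv_lhs => rw [this, Matrix.GeneralLinearGroup.coe_mul, det_mul]
      have hs1 : (s : Matrix (Fin 2) (Fin 2) K).det = 1 := by
        rw [SetLike.mem_coe, hS, MonoidHom.mem_ker] at hs
        simpa using congrArg Units.val hs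
      rw [hs1, one_mul]
    refine ha ⟨(z : Matrix (Fin 2) (Fin 2) K) 0 0, ?_⟩
    have hd : (d : Matrix (Fin 2) (Fin 2) K).det = a := by simp [d, det_fin_two]
    rw [← hd, hdet, det_fin_two]
    rw [h00, h11, mul_zero, sub_zero, show (z : Matrix (Fin 2) (Fin 2) K) 1 1 = (z : Matrix (Fin 2) (Fin 2) K) 0 0 by
      linear_combination h01]

variable {F : Type*} [Field F] [Fintype F]

local notation "SL₃" => Matrix.SpecialLinearGroup (Fin 3) F
local notation "M₃" => Matrix (Fin 3) (Fin 3) F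

theorem mod_thirty {p α : ℕ} (hp : p.Prime) (h : p ^ α % 30 = 1 ∨ p ^ α % 30 = 19) :
    (α ≠ 0 → p ≠ 3) ∧ (α = 1 → p % 15 = 1 ∨ p % 15 = 4) := by
  refine ⟨fun hα e => ?_, fun e => ?_⟩
  · have h3 : 3 ∣ p ^ α := e ▸ dvd_pow_self p hα
    omega
  · rw [e, pow_one] at h
    omega

namespace Core

variable {Γ : Subgroup (Matrix.SpecialLinearGroup (Fin 3) F)} (K : Core Γ)

include K in
theorem noAb : NoAb (Γ.map pr) := fun N hn hab => by
  rcases K.simple.eq_bot_or_eq_top_of_normal N hn with h | h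
  · exact h
  · exfalso
    refine K.nonab ⟨⟨fun a b => ?_⟩⟩
    have := hab.is_comm.comm ⟨a, h ▸ Subgroup.mem_top a⟩ ⟨b, h ▸ Subgroup.mem_top b⟩
    exact congrArg Subtype.val this

include K in
theorem map_ne_bot : Γ.map pr ≠ ⊥ := fun h => by
  haveI := K.simple
  obtain ⟨x, hx⟩ := exists_ne (1 : Γ.map pr)
  exact hx (Subtype.ext (Subgroup.mem_bot.1 (h ▸ x.2 : (x : Matrix.ProjectiveSpecialLinearGroup (Fin 3) F) ∈ ⊥)))

omit [Fintype F] in
theorem tvFree (p : ℕ) [Fact p.Prime] [CharP F p] (h : ¬ (tvs Γ).Nonempty) : TvFree (Γ.map pr).subtype := by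
  refine ⟨Subgroup.subtype_injective _, ?_⟩
  rw [Subgroup.range_subtype]
  rintro ⟨t, ht, v, φ, hv, hφ, hi, et⟩
  obtain ⟨g, hg, e⟩ := ht
  obtain ⟨c, hc, etg⟩ := pr_eq_pr.1 e
  by_cases h3 : (3 : F) = 0
  · have hc1 : c = 1 := sub_eq_zero.1 (pow_eq_zero_iff (n := 3) (by norm_num) |>.1 (by
      linear_combination hc + (c - c ^ 2) * h3))
    rw [hc1, one_smul] at etg
    exact h ⟨g, hg, v, φ, hv, hφ, hi, by rw [← etg, et]⟩
  · have hN : vecMulVec v φ * vecMulVec v φ = 0 := by
      rw [vecMulVec_mul_vecMulVec, hi, zero_smul]; ext i j; simp [vecMulVec_apply]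
    refine h ⟨g ^ 3, pow_mem hg 3, v, (3 : F) • φ, hv, smul_ne_zero h3 hφ, by rw [smul_dotProduct, hi, smul_zero], ?_⟩
    have hg3 : ((g ^ 3 : SL₃) : M₃) = ((t : M₃)) ^ 3 := by
      rw [etg, smul_pow, hc, one_smul, Matrix.SpecialLinearGroup.coe_pow]
    rw [hg3, et, vecMulVec_smul, pow_succ, sq]
    simp only [add_mul, mul_add, one_mul, mul_one, hN, zero_mul, add_zero]
    module

include K in
theorem odd_cases (p α : ℕ) [hp : Fact p.Prime] (hp2 : p ≠ 2) (hF : Fintype.card F = p ^ α)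
    (htv : ¬ (tvs Γ).Nonempty) : IsSevenCase Γ p ∨ IsSixCase Γ p ∨ IsA7Case Γ p := by
  haveI : CharP F p := charP_of_card_eq_prime_pow hF
  haveI := K.simple
  have hα0 : α ≠ 0 := fun e => by
    have := Fintype.one_lt_card (α := F)
    rw [hF, e, pow_zero] at this; omega
  rcases socle_cases p α hp2 hF (tvFree p htv) K.noAb K.map_ne_bot with
    ⟨L, _, _, β, hL, -, hne, h⟩ | ⟨-, L, _, _, hL, ⟨e⟩⟩ | ⟨hq, L, _, _, hL, ⟨e⟩⟩ | ⟨h5, hα, h⟩ | ⟨hq, ⟨e⟩⟩
  · haveI : CharP L p := charP_of_card_eq_prime_pow hL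
    have hp3 : 3 ≤ p := by have := hp.out.two_le; omega
    have h4 : 4 ≤ Fintype.card L := by
      have h1 := Fintype.one_lt_card (α := L)
      rw [hL] at h1 ⊢
      have hβ : β ≠ 0 := fun e => by rw [e, pow_zero] at h1; omega
      have := Nat.le_self_pow hβ p
      omega
    rcases h with ⟨⟨e⟩⟩ | ⟨⟨e⟩⟩
    · exact (K.not_psl2_field p h4 e).elim
    · haveI : Nontrivial (GL (Fin 2) L ⧸ Subgroup.center (GL (Fin 2) L)) := e.symm.toEquiv.nontrivial
      refine (pgl2_not_simple (K := L) (Ring.two_ne_zero ?_) e.symm.isSimpleGroup).elim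
      rw [ringChar.eq L p]; exact hp2
  · exact (K.not_psl2_five p hL e).elim
  · refine Or.inl (K.seven_case p (fun e7 => ?_) hL e)
    subst e7
    rw [← pow_mul] at hq
    have : 7 ∣ 7 ^ (α * 3) := dvd_pow_self 7 (by positivity)
    omega
  · subst h5
    rcases h with ⟨⟨e⟩⟩ | ⟨⟨e⟩⟩ | ⟨L, hi, ⟨e⟩⟩
    · refine Or.inr (Or.inl (K.six_case 5 α (by norm_num) hF (fun e1 => ?_) e))
      subst e1; exact absurd hα (by decide)
    · exact Or.inr (Or.inr (K.a7_case α hF hα e))
    · exfalso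
      rcases K.simple.eq_bot_or_eq_top_of_normal L (Subgroup.normal_of_index_eq_two hi) with h | h
      · subst h
        have := Nat.card_congr e.toEquiv
        rw [Subgroup.card_bot, nat_card_alternatingGroup, Nat.card_eq_fintype_card, Fintype.card_fin] at this
        norm_num [Nat.factorial] at this
      · rw [h, Subgroup.index_top] at hi; omega
  · obtain ⟨h3, hm⟩ := mod_thirty hp.out hq
    exact Or.inr (Or.inl (K.six_case p α (h3 hα0) hF hm e))

end Core

end Cfsg.Agent.Classical.Residual
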