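import Cfsg.Agent.Lib.Classical.Residual.Groups

/-!
Sylow 3-subgroups of `PSL(2, K)` and the classes of the alternating groups of degree six and seven.
-/

set_option autoImplicit false

namespace Cfsg.Agent.Classical.Residual

open Matrix Equiv
open Cfsg.Agent.Classical

/-- Sylow 3-subgroups of `PSL(2, K)` are cyclic in characteristic other than three. -/
theorem psl2_sylow_three {K : Type*} [Field K] [Fintype K] (p : ℕ) [Fact p.Prime] [CharP K p] (hp3 : p ≠ 3)
    (h4 : 4 ≤ Fintype.card K) {G : Type*} [Group G] [Finite G]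
    (e : G ≃* Matrix.ProjectiveSpecialLinearGroup (Fin 2) K) (P : Sylow 3 G) : IsCyclic P := by
  haveI : Fact (Nat.Prime 3) := ⟨Nat.prime_three⟩
  set q := Fintype.card K with hq
  set d := Nat.gcd 2 (q - 1) with hd
  have hcard : Nat.card G * d = q * ((q - 1) * (q + 1)) := by
    rw [Nat.card_congr e.toEquiv]; exact Dickson.card_psl
  have hPc : ∃ k, Nat.card P = 3 ^ k := P.isPGroup'.exists_card_eq
  obtain ⟨k, hk⟩ := hPc
  have hdvd : 3 ^ k ∣ q * ((q - 1) * (q + 1)) := by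
    rw [← hcard, ← hk]
    exact Dvd.dvd.mul_right (Subgroup.card_subgroup_dvd_card _) _
  obtain ⟨m, -, hm⟩ := FiniteField.card K p
  have hq3 : Nat.Coprime (3 ^ k) q := by
    rw [hq, hm]
    exact ((Nat.coprime_primes Nat.prime_three Fact.out).2 (Ne.symm hp3)).pow _ _
  have h1 : 3 ^ k ∣ (q - 1) * (q + 1) := hq3.dvd_of_dvd_mul_left hdvd
  have h2 : 3 ^ k ∣ q - 1 ∨ 3 ^ k ∣ q + 1 := by
    by_cases h3 : 3 ∣ q - 1
    · left
      refine (Nat.Coprime.pow_left k ?_).dvd_of_dvd_mul_right h1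
      exact Nat.prime_three.coprime_iff_not_dvd.2 (by omega)
    · right
      exact (Nat.Coprime.pow_left k (Nat.prime_three.coprime_iff_not_dvd.2 h3)).dvd_of_dvd_mul_left h1
  have hd3 : Nat.Coprime (3 ^ k) d := Nat.Coprime.pow_left k (Nat.prime_three.coprime_iff_not_dvd.2 fun h => by
    have := Nat.le_of_dvd (by norm_num) (h.trans (Nat.gcd_dvd_left 2 (q - 1)))
    omega)
  have hmem : 3 ^ k ∈ Set.range (orderOf : Matrix.ProjectiveSpecialLinearGroup (Fin 2) K → ℕ) := by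
    rw [S2475.result p h4]
    rcases h2 with h | h
    · refine Or.inr (Or.inl (hd3.dvd_of_dvd_mul_left ?_))
      rwa [← hq, ← hd, Nat.mul_div_cancel' (Nat.gcd_dvd_right 2 (q - 1))]
    · refine Or.inr (Or.inr (hd3.dvd_of_dvd_mul_left ?_))
      have hdd : d ∣ q + 1 := Dickson.del_dvd K |>.2
      rwa [← hq, ← hd, Nat.mul_div_cancel' hdd]
  obtain ⟨y, hy⟩ := hmem
  set x : G := e.symm y with hx
  have hxo : orderOf x = 3 ^ k := by rw [hx, MulEquiv.orderOf_eq]; exact hy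
  let Q : Sylow 3 G := Sylow.ofCard (Subgroup.zpowers x) (by
    rw [Nat.card_zpowers, hxo, ← hk]; exact P.card_eq_multiplicity)
  haveI : IsCyclic Q := (Subgroup.isCyclic_iff_exists_zpowers_eq_top _).2 ⟨x, rfl⟩
  exact isCyclic_of_surjective (Sylow.equiv Q P).toMonoidHom (Sylow.equiv Q P).surjective

set_option synthInstance.maxSize 4000 in
set_option synthInstance.maxHeartbeats 400000 in
theorem small_lists : ∀ a b c : Fin 8, 2 ≤ a.val → 2 ≤ b.val → 2 ≤ c.val →
    ((a.val + 1) % 2 = 0 → a.val = 3 ∨ a.val = 5 ∨ a.val = 7) ∧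
    (a.val + b.val ≤ 7 → (a.val + b.val + 2) % 2 = 0 → (a.val + b.val ≤ 6 → Nat.lcm a.val b.val ≤ 5) ∧
      Nat.lcm a.val b.val ≤ 6 ∧ ((a.val % 2 = 0 ∨ b.val % 2 = 0) ∨ a.val = b.val)) ∧
    (a.val + b.val + c.val ≤ 7 → (a.val + b.val + c.val + 3) % 2 = 0 → 7 ≤ a.val + b.val + c.val ∧
      Nat.lcm a.val (Nat.lcm b.val c.val) = 6 ∧ (a.val % 2 = 0 ∨ b.val % 2 = 0 ∨ c.val % 2 = 0)) := by
  decide +kernel

/-- The cycle types of small even permutations. -/
theorem shape {n : ℕ} (hn : n ≤ 7) (g : Perm (Fin n)) (hs : Perm.sign g = 1) :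
    (∃ m, 1 ≤ m ∧ m ≤ 7 ∧ g ^ m = 1 ∧ (n = 6 → m ≤ 5) ∧ (m = 7 → g.cycleType = {7})) ∧
      (Subgroup.centralizer {g} ≤ alternatingGroup (Fin n) → n ≤ 5 ∨ (n = 6 ∧ g ^ 5 = 1) ∨ (n = 7 ∧ g ^ 7 = 1)) := by
  have hsum : g.cycleType.sum ≤ n := by
    have := Perm.sum_cycleType_le g
    rwa [Fintype.card_fin] at this
  have hge : ∀ c ∈ g.cycleType, 2 ≤ c := fun c hc => Perm.two_le_of_mem_cycleType hc
  have hpar : (g.cycleType.sum + Multiset.card g.cycleType) % 2 = 0 := by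
    rw [Perm.sign_of_cycleType] at hs
    rw [← Nat.even_iff]
    by_contra h
    rw [Odd.neg_one_pow (Nat.not_even_iff_odd.1 h)] at hs
    exact absurd hs (by decide)
  have hlcm : ∀ m, g.cycleType.lcm ∣ m → g ^ m = 1 := fun m h =>
    orderOf_dvd_iff_pow_eq_one.1 (by rwa [← Perm.lcm_cycleType])
  have hcrit := (Perm.centralizer_le_alternating_iff (g := g)).1
  rw [Fintype.card_fin] at hcrit
  obtain ⟨l, hl⟩ := Quot.exists_rep g.cycleType
  change (l : Multiset ℕ) = g.cycleType at hl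
  rw [← hl] at hsum hge hpar hlcm hcrit ⊢
  match l with
  | [] =>
    refine ⟨⟨1, le_rfl, by norm_num, hlcm _ (by simp), fun _ => by norm_num, fun h => absurd h (by norm_num)⟩,
      fun hc => ?_⟩
    obtain ⟨-, h, -⟩ := hcrit hc
    simp at h
    omega
  | [a] =>
    simp at hsum hge hpar
    obtain ⟨h1, -, -⟩ := small_lists ⟨a, by omega⟩ ⟨2, by norm_num⟩ ⟨2, by norm_num⟩ hge le_rfl le_rfl
    have hl' : g ^ a = 1 := hlcm a (by simp)
    refine ⟨⟨a, by omega, by omega, hl', fun h => ?_, fun h => by rw [h]; rfl⟩, fun hc => ?_⟩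
    · have := h1 (by simpa using hpar); simp at this; omega
    · obtain ⟨ho, h, -⟩ := hcrit hc
      simp at h
      have := h1 (by simpa using hpar)
      simp at this
      by_cases h6 : n = 6
      · exact Or.inr (Or.inl ⟨h6, by rwa [show a = 5 by omega] at hl'⟩)
      · by_cases h7 : n = 7
        · exact Or.inr (Or.inr ⟨h7, by rwa [show a = 7 by omega] at hl'⟩)
        · exact Or.inl (by omega)
  | [a, b] =>
    simp at hsum hge hpar
    obtain ⟨-, h2, -⟩ := small_lists ⟨a, by omega⟩ ⟨b, by omega⟩ ⟨2, by norm_num⟩ hge.1 hge.2 le_rfl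
    obtain ⟨k1, k2, k3⟩ := h2 (by simp; omega) (by simp; omega)
    simp at k1 k2 k3
    rw [← Nat.even_iff, ← Nat.even_iff] at k3
    have hpos : 0 < Nat.lcm a b := Nat.pos_of_ne_zero (Nat.lcm_ne_zero (by omega) (by omega))
    refine ⟨⟨Nat.lcm a b, hpos, by omega, hlcm _ (by rw [← Multiset.cons_coe, ← Multiset.cons_coe, Multiset.lcm_cons, Multiset.lcm_cons]; simp; rfl), fun h => k1 (by omega), fun h => by omega⟩,
      fun hc => ?_⟩
    obtain ⟨ho, -, hcount⟩ := hcrit hc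
    exfalso
    rcases k3 with (h | h) | h
    · exact Nat.not_odd_iff_even.2 h (ho a (by simp))
    · exact Nat.not_odd_iff_even.2 h (ho b (by simp))
    · have := hcount a
      simp [h] at this
  | [a, b, c] =>
    simp at hsum hge hpar
    obtain ⟨-, -, h3⟩ := small_lists ⟨a, by omega⟩ ⟨b, by omega⟩ ⟨c, by omega⟩ hge.1 hge.2.1 hge.2.2
    obtain ⟨k0, k1, k2⟩ := h3 (by simp; omega) (by simp; omega)
    simp at k0 k1 k2
    rw [← Nat.even_iff, ← Nat.even_iff, ← Nat.even_iff] at k2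
    refine ⟨⟨6, by norm_num, by norm_num, hlcm _ (by rw [← k1, ← Multiset.cons_coe, ← Multiset.cons_coe, ← Multiset.cons_coe, Multiset.lcm_cons, Multiset.lcm_cons, Multiset.lcm_cons]; simp; rfl), fun h => by omega, fun h => by omega⟩,
      fun hc => ?_⟩
    obtain ⟨ho, -, -⟩ := hcrit hc
    exfalso
    rcases k2 with h | h | h
    · exact Nat.not_odd_iff_even.2 h (ho a (by simp))
    · exact Nat.not_odd_iff_even.2 h (ho b (by simp))
    · exact Nat.not_odd_iff_even.2 h (ho c (by simp))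
  | a :: b :: c :: d :: r =>
    simp at hsum hge
    omega

/-- Conjugates in the symmetric group of an element with an odd centraliser element are conjugate by an even one. -/
theorem isConj_alt {n : ℕ} {g g' : alternatingGroup (Fin n)} (h : IsConj (g : Perm (Fin n)) g')
    (hc : ¬ Subgroup.centralizer {(g : Perm (Fin n))} ≤ alternatingGroup (Fin n)) : IsConj g g' := by
  obtain ⟨u, hu⟩ := isConj_iff.1 h
  obtain ⟨z, hz, hzs⟩ := SetLike.not_le_iff_exists.1 hc
  rw [Perm.mem_alternatingGroup] at hzs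
  rw [Subgroup.mem_centralizer_singleton_iff] at hz
  have hz' : Perm.sign z = -1 := (Int.units_eq_one_or _).resolve_left hzs
  rcases Int.units_eq_one_or (Perm.sign u) with hs | hs
  · exact isConj_iff.2 ⟨⟨u, hs⟩, Subtype.ext hu⟩
  · refine isConj_iff.2 ⟨⟨u * z, by rw [Perm.mem_alternatingGroup, map_mul, hs, hz']; rfl⟩, Subtype.ext ?_⟩
    show u * z * g * (u * z)⁻¹ = _
    rw [← hu, _root_.mul_inv_rev, show u * z * (g : Perm (Fin n)) = u * g * z by rw [mul_assoc, hz, ← mul_assoc]]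
    group

theorem isConj_sq_of_prime {α : Type*} [Fintype α] [DecidableEq α] {g : Perm α} {p : ℕ} [Fact p.Prime]
    (hp : p ≠ 2) (hg : g ^ p = 1) : IsConj g (g ^ 2) := by
  have hg2 : (g ^ 2) ^ p = 1 := by rw [← pow_mul, mul_comm, pow_mul, hg, one_pow]
  obtain ⟨a, ha⟩ : ∃ a, g.cycleType = Multiset.replicate a p := ⟨_, Perm.cycleType_of_pow_prime_eq_one hg⟩
  obtain ⟨b, hb⟩ : ∃ b, (g ^ 2).cycleType = Multiset.replicate b p := ⟨_, Perm.cycleType_of_pow_prime_eq_one hg2⟩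
  have hco : Nat.Coprime 2 (orderOf g) :=
    ((Nat.coprime_primes Nat.prime_two Fact.out).2 (Ne.symm hp)).of_dvd_right (orderOf_dvd_of_pow_eq_one hg)
  have hsum : (g ^ 2).cycleType.sum = g.cycleType.sum := by
    rw [Perm.sum_cycleType, Perm.sum_cycleType, Perm.support_pow_coprime hco]
  rw [ha, hb, Multiset.sum_replicate, Multiset.sum_replicate, smul_eq_mul, smul_eq_mul] at hsum
  rw [Perm.isConj_iff_cycleType_eq, ha, hb, Nat.eq_of_mul_eq_mul_right (Fact.out : p.Prime).pos hsum]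

/-- Every element of the alternating group of degree six has order at most five and is real. -/
theorem alt_six (x : alternatingGroup (Fin 6)) :
    (∃ n : ℕ, 1 ≤ n ∧ n ≤ 5 ∧ x ^ n = 1) ∧ IsConj x x⁻¹ := by
  obtain ⟨⟨m, hm1, -, hm, hm6, -⟩, hc⟩ := shape (n := 6) (by norm_num) _ x.2
  refine ⟨⟨m, hm1, hm6 rfl, Subtype.ext hm⟩, ?_⟩
  by_cases hle : Subgroup.centralizer {(x : Perm (Fin 6))} ≤ alternatingGroup (Fin 6)
  · obtain h5 : (x : Perm (Fin 6)) ^ 5 = 1 := by
      rcases hc hle with h | ⟨-, h⟩ | ⟨h, -⟩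
      · norm_num at h
      · exact h
      · norm_num at h
    haveI : Fact (Nat.Prime 5) := ⟨Nat.prime_five⟩
    obtain ⟨u, hu⟩ := isConj_iff.1 (isConj_sq_of_prime (p := 5) (by norm_num) h5)
    refine isConj_iff.2 ⟨⟨u * u, by rw [Perm.mem_alternatingGroup, map_mul, Int.units_mul_self]⟩, Subtype.ext ?_⟩
    show u * u * (x : Perm (Fin 6)) * (u * u)⁻¹ = (x : Perm (Fin 6))⁻¹
    calc u * u * (x : Perm (Fin 6)) * (u * u)⁻¹ = u * (u * x * u⁻¹) * u⁻¹ := by group
      _ = (u * x * u⁻¹) ^ 2 := by rw [conj_pow, hu]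
      _ = (x : Perm (Fin 6))⁻¹ := by
        rw [hu, ← pow_mul]
        exact eq_inv_of_mul_eq_one_left (by rw [← pow_succ]; exact h5)
  · exact isConj_alt ((Perm.isConj_iff_cycleType_eq).2 (Perm.cycleType_inv _).symm) hle

/-- The elements of the alternating group of degree seven. -/
theorem alt_seven (x : alternatingGroup (Fin 7)) :
    ((∃ n : ℕ, 1 ≤ n ∧ n ≤ 6 ∧ x ^ n = 1) ∧ IsConj x x⁻¹) ∨ (x ^ 7 = 1 ∧ IsConj x (x ^ 2)) := by
  obtain ⟨⟨m, hm1, hm7, hm, -, -⟩, hc⟩ := shape (n := 7) le_rfl _ x.2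
  by_cases h7 : (x : Perm (Fin 7)) ^ 7 = 1
  · right
    refine ⟨Subtype.ext h7, ?_⟩
    haveI : Fact (Nat.Prime 7) := ⟨by norm_num⟩
    obtain ⟨u, hu⟩ := isConj_iff.1 (isConj_sq_of_prime (p := 7) (by norm_num) h7)
    refine isConj_iff.2 ⟨⟨(u * u) * (u * u), by rw [Perm.mem_alternatingGroup, map_mul, Int.units_mul_self]⟩,
      Subtype.ext ?_⟩
    show u * u * (u * u) * (x : Perm (Fin 7)) * (u * u * (u * u))⁻¹ = (x : Perm (Fin 7)) ^ 2
    have hstep : ∀ i, u * (x : Perm (Fin 7)) ^ i * u⁻¹ = (x : Perm (Fin 7)) ^ (2 * i) := fun i => by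
      rw [← conj_pow, hu, ← pow_mul]
    calc u * u * (u * u) * (x : Perm (Fin 7)) * (u * u * (u * u))⁻¹
        = u * (u * (u * (u * x * u⁻¹) * u⁻¹) * u⁻¹) * u⁻¹ := by group
      _ = (x : Perm (Fin 7)) ^ 16 := by rw [hu, hstep, hstep, hstep]
      _ = _ := by rw [pow_eq_pow_mod 16 h7]
  · left
    refine ⟨⟨m, hm1, by
        rcases Nat.lt_or_ge m 7 with h | h
        · omega
        · exact absurd (show (x : Perm (Fin 7)) ^ 7 = 1 by rwa [show m = 7 by omega] at hm) h7, Subtype.ext hm⟩,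
      isConj_alt ((Perm.isConj_iff_cycleType_eq).2 (Perm.cycleType_inv _).symm) fun hle => h7 ?_⟩
    rcases hc hle with h | ⟨h, -⟩ | ⟨-, h⟩
    · norm_num at h
    · norm_num at h
    · exact h

end Cfsg.Agent.Classical.Residual
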