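import Cfsg.Agent.Lib.Classical.Residual.Forms
import Cfsg.Agent.Lib.Classical.Bloom.Lift
import Cfsg.Agent.Lib.Classical.Bloom.Conj
import Cfsg.Agent.S0205

/-!
Residual subgroups of the three-dimensional special linear group: the hypotheses and their first consequences.
-/

set_option autoImplicit false

namespace Cfsg.Agent.Classical.Residual

open Matrix
open Cfsg.Agent.Classical.Bloom

variable {F : Type*} [Field F]

local notation "SL₃" => Matrix.SpecialLinearGroup (Fin 3) F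
local notation "M₃" => Matrix (Fin 3) (Fin 3) F

/-- The matrices of a subgroup as a representation. -/
def rep (Γ : Subgroup SL₃) : Γ →* M₃ where
  toFun g := ((g : SL₃) : M₃)
  map_one' := rfl
  map_mul' _ _ := rfl

theorem rep_apply (Γ : Subgroup SL₃) (g : Γ) : rep Γ g = ((g : SL₃) : M₃) := rfl

/-- The hypotheses on the perfect preimage of the socle. -/
structure Core (Γ : Subgroup SL₃) : Prop where
  perfect : ⁅Γ, Γ⁆ = Γ
  simple : IsSimpleGroup (Γ.map pr)
  nonab : ¬ IsMulCommutative (Γ.map pr)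
  irr : IrrRep (rep Γ)
  schur : ∀ M : M₃, (∀ g ∈ Γ, M * (g : M₃) = (g : M₃) * M) → ∃ a : F, M = a • 1
  field : ∀ F₀ : Subfield F, F₀ ≠ ⊤ → ∀ B : GL (Fin 3) F,
    ¬ ∀ g ∈ Γ, ∀ i j, ((B : M₃) * (g : M₃) * ((B⁻¹ : GL (Fin 3) F) : M₃)) i j ∈ F₀
  noQuad : ¬ ∃ Q : (Fin 3 → F) → F, Cfsg.Geo.IsNondegenerateQuadraticForm Q ∧
    ∀ g ∈ Γ, ∀ x, Q ((g : M₃) *ᵥ x) = Q x

/-- The traces are exchanged by inversion and the power `r`. -/
def UnitTr (Γ : Subgroup SL₃) (r : ℕ) : Prop :=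
  ∀ g ∈ Γ, trace (g : M₃) ^ r = trace ((g⁻¹ : SL₃) : M₃)

/-- No unitary form is fixed. -/
def NoUnit (Γ : Subgroup SL₃) : Prop :=
  ¬ ∃ (σ : F ≃+* F) (f : (Fin 3 → F) → (Fin 3 → F) → F), Cfsg.Geo.IsUnitaryForm σ f ∧
    ∀ g ∈ Γ, ∀ x y, f ((g : M₃) *ᵥ x) ((g : M₃) *ᵥ y) = f x y

theorem exists_outer {b : M₃} {v : Fin 3 → F} (hv : v ≠ 0) (hb : b ≠ 0)
    (h : ∀ x, b *ᵥ x ∈ Submodule.span F {v}) : ∃ φ : Fin 3 → F, φ ≠ 0 ∧ b = vecMulVec v φ := by
  choose a ha using fun x => Submodule.mem_span_singleton.1 (h x)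
  refine ⟨fun j => a (Pi.single j 1), ?_, ?_⟩
  · intro h0
    refine hb ?_
    ext i j
    have := congrFun (ha (Pi.single j 1)) i
    rw [show a (Pi.single j 1) = 0 from congrFun h0 j, zero_smul, mulVec_single_one] at this
    simpa using this.symm
  · ext i j
    have := congrFun (ha (Pi.single j 1)) i
    rw [mulVec_single_one] at this
    simp only [Pi.smul_apply, smul_eq_mul, Matrix.col_apply] at this
    rw [vecMulVec_apply, ← this, mul_comm]

theorem outer_of_finrank {b : M₃} (hb : b ≠ 0) (h : Module.finrank F (LinearMap.range b.mulVecLin) ≤ 1) :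
    ∃ v φ : Fin 3 → F, v ≠ 0 ∧ φ ≠ 0 ∧ b = vecMulVec v φ := by
  obtain ⟨x, hx⟩ : ∃ x, b *ᵥ x ≠ 0 := by
    by_contra! h0
    exact hb (Matrix.ext_of_mulVec_single fun i => by rw [h0, zero_mulVec])
  have hle : Submodule.span F {b *ᵥ x} ≤ LinearMap.range b.mulVecLin := by
    rw [Submodule.span_singleton_le_iff_mem]; exact ⟨x, rfl⟩
  have heq := Submodule.eq_of_le_of_finrank_le hle (by rw [finrank_span_singleton hx]; exact h)
  obtain ⟨φ, hφ, e⟩ := exists_outer hx hb fun y => heq ▸ (⟨y, rfl⟩ : b *ᵥ y ∈ LinearMap.range b.mulVecLin)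
  exact ⟨_, φ, hx, hφ, e⟩

/-- An involution is a scalar plus a matrix of rank one. -/
theorem invol_rank_one {A : M₃} (hA : A * A = 1) (hdet : A.det = 1) (h1 : A ≠ 1) :
    ∃ v φ : Fin 3 → F, v ≠ 0 ∧ φ ≠ 0 ∧ A + (1 : F) • 1 = vecMulVec v φ := by
  rw [one_smul]
  have hab : (A + 1) * (A - 1) = 0 := by simp [add_mul, mul_sub, hA]; abel
  have hba : (A - 1) * (A + 1) = 0 := by simp [sub_mul, mul_add, hA]
  have ha : A + 1 ≠ 0 := fun h0 => by
    have e : A = -1 := eq_neg_of_add_eq_zero_left h0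
    rw [e, det_neg, det_one, Fintype.card_fin, mul_one] at hdet
    refine h1 ?_
    rw [e]
    ext i j
    by_cases hij : i = j <;> simp [one_apply, hij]
    linear_combination hdet
  refine outer_of_finrank ha ?_
  by_contra hr
  have hker : LinearMap.range (A - 1).mulVecLin ≤ LinearMap.ker (A + 1).mulVecLin := by
    rintro _ ⟨x, rfl⟩
    rw [LinearMap.mem_ker, mulVecLin_apply, mulVecLin_apply, mulVec_mulVec, hab, zero_mulVec]
  have hsum := (A + 1).mulVecLin.finrank_range_add_finrank_ker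
  rw [Module.finrank_fintype_fun_eq_card, Fintype.card_fin] at hsum
  have hb : A - 1 ≠ 0 := sub_ne_zero.2 h1
  obtain ⟨v, φ, hv, hφ, e⟩ := outer_of_finrank hb ((Submodule.finrank_mono hker).trans (by omega))
  have hφv : φ ⬝ᵥ v = -2 := by
    have h2 : vecMulVec v φ * vecMulVec v φ = (-2 : F) • vecMulVec v φ := by
      rw [← e]
      calc (A - 1) * (A - 1) = A * A - A - A + 1 := by rw [sub_mul, mul_sub, mul_sub, one_mul, mul_one, mul_one]; abel
        _ = _ := by rw [hA, neg_smul, two_smul]; abel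
    rw [vecMulVec_mul_vecMulVec, ← vecMulVec_smul] at h2
    obtain ⟨i, hi⟩ := Function.ne_iff.1 hv
    obtain ⟨j, hj⟩ := Function.ne_iff.1 hφ
    have := congrFun (congrFun h2 i) j
    simp only [vecMulVec_apply, Pi.smul_apply, smul_eq_mul] at this
    have h3 : (φ ⬝ᵥ v) * φ j = -2 * φ j := mul_left_cancel₀ hi this
    exact mul_right_cancel₀ hj h3
  have hd : A.det = 1 + φ ⬝ᵥ v := by
    rw [show A = 1 + vecMulVec v φ by rw [← e]; abel, vecMulVec_eq (ι := Unit),
      det_one_add_replicateCol_mul_replicateRow]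
  rw [hdet, hφv] at hd
  exact ha (by
    have h20 : (2 : F) = 0 := by linear_combination hd
    have : A + 1 = A - 1 := by
      ext i j; simp [one_apply]; split_ifs <;> first | linear_combination h20 | simp
    have hle := Submodule.finrank_mono hker
    rw [← this] at hle
    omega)

namespace Core

variable {Γ : Subgroup (Matrix.SpecialLinearGroup (Fin 3) F)} (K : Core Γ)

include K in
theorem schurRep (M : M₃) (h : ∀ g : Γ, M * rep Γ g = rep Γ g * M) : ∃ a : F, M = a • 1 :=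
  K.schur M fun g hg => h ⟨g, hg⟩

include K in
theorem even_card [Finite F] : Even (Nat.card (Γ.map pr)) := by
  by_contra h
  haveI := S0205.result (G := Γ.map pr) (Nat.not_even_iff_odd.1 h)
  haveI := K.simple
  exact K.nonab ⟨⟨fun a b => IsSimpleGroup.comm_iff_isSolvable.2 inferInstance a b⟩⟩

include K in
/-- An involution in the group. -/
theorem exists_invol [Finite F] : ∃ g ∈ Γ, g * g = 1 ∧ (g : M₃) ≠ 1 := by
  haveI : Fact (Nat.Prime 2) := ⟨Nat.prime_two⟩
  obtain ⟨x, hx⟩ := exists_prime_orderOf_dvd_card' (G := Γ.map pr) 2 (even_iff_two_dvd.1 K.even_card)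
  obtain ⟨g, hg, e⟩ := x.2
  have h2 : pr (g * g) = 1 := by
    rw [map_mul, e, ← Subgroup.coe_mul, ← sq, ← hx, pow_orderOf_eq_one]; rfl
  have h6 := center_pow_three h2
  refine ⟨g ^ 3, pow_mem hg 3, by rw [← pow_add, show (3 + 3) = 2 * 3 from rfl, pow_mul, sq, h6], fun e1 => ?_⟩
  have h3 : g ^ 3 = 1 := Subtype.ext e1
  have hx3 : x ^ 3 = 1 := Subtype.ext (by rw [Subgroup.coe_pow, ← e, ← map_pow, h3, map_one]; rfl)
  have := orderOf_dvd_of_pow_eq_one hx3
  rw [hx] at this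
  norm_num at this

include K in
theorem exists_rankOne [Finite F] (σ : F ≃+* F) : ∃ (g₀ : Γ) (v φ v' φ' : Fin 3 → F), v ≠ 0 ∧ φ ≠ 0 ∧
    rep Γ g₀ + (1 : F) • 1 = vecMulVec v φ ∧ v' ≠ 0 ∧ φ' ≠ 0 ∧
    dualTwist σ (rep Γ) g₀ + (1 : F) • 1 = vecMulVec v' φ' := by
  obtain ⟨g, hg, hg2, hne⟩ := K.exists_invol
  set g₀ : Γ := ⟨g, hg⟩ with hg₀
  have h0 : g₀ * g₀ = 1 := Subtype.ext hg2
  obtain ⟨v, φ, hv, hφ, e⟩ := invol_rank_one (A := rep Γ g₀) (by rw [← map_mul, h0, map_one]) g.2 hne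
  obtain ⟨v', φ', hv', hφ', e'⟩ := invol_rank_one (A := dualTwist σ (rep Γ) g₀)
    (by rw [← map_mul, h0, map_one]) (by
      rw [dualTwist_apply]
      have := RingHom.map_det σ.toRingHom ((rep Γ g₀⁻¹)ᵀ)
      rw [det_transpose, show (rep Γ g₀⁻¹).det = 1 from ((g₀⁻¹ : Γ) : SL₃).2, map_one] at this
      exact this.symm) (fun h => hne (by
      have h' : g₀⁻¹ = g₀ := inv_eq_of_mul_eq_one_right h0
      rw [dualTwist_apply, h'] at h
      ext i j
      have hji := congrFun (congrFun h j) i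
      rw [Matrix.map_apply, transpose_apply] at hji
      refine σ.injective ?_
      show σ (rep Γ g₀ i j) = _
      rw [hji, one_apply, one_apply]
      by_cases hij : i = j <;> simp [hij, eq_comm]))
  exact ⟨g₀, v, φ, v', φ', hv, hφ, e, hv', hφ', e'⟩

include K in
/-- Self-duality is impossible. -/
theorem not_real [Finite F] (h : ∀ g ∈ Γ, trace ((g⁻¹ : SL₃) : M₃) = trace (g : M₃)) : False := by
  classical
  haveI := Fintype.ofFinite F
  obtain ⟨g₀, v, φ, v', φ', hv, hφ, e, hv', hφ', e'⟩ := K.exists_rankOne (RingEquiv.refl F)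
  by_cases h2 : (2 : F) = 0
  · haveI : CharP F 2 := CharTwo.of_one_ne_zero_of_two_eq_zero one_ne_zero h2
    exact not_selfDual K.irr K.schurRep (fun g => h g g.2) hv hφ e hv' hφ' e'
  · obtain ⟨Q, hQ, hfix⟩ := exists_quadratic h2 K.irr K.schurRep (fun g => h g g.2) hv hφ e hv' hφ' e'
    exact K.noQuad ⟨Q, hQ, fun g hg x => hfix ⟨g, hg⟩ x⟩

include K in
/-- All traces in a subfield forces it to be the whole field. -/
theorem field_eq_top [Finite F] (F₀ : Subfield F) (h : ∀ g ∈ Γ, trace (g : M₃) ∈ F₀) : F₀ = ⊤ := by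
  obtain ⟨g₀, v, φ, v', φ', hv, hφ, e, -, -, -⟩ := K.exists_rankOne (RingEquiv.refl F)
  by_contra hne
  obtain ⟨B, hB⟩ := exists_rational K.irr F₀ (fun g => h g g.2) F₀.one_mem hv hφ e
  exact K.field F₀ hne B fun g hg i j => hB ⟨g, hg⟩ i j

include K in
/-- Exchanged traces give a unitary form. -/
theorem unitary_of_unitTr [Fintype F] {r : ℕ} (hr : Fintype.card F = r ^ 2) (h : UnitTr Γ r) :
    ¬ NoUnit Γ := by
  classical
  obtain ⟨p, hp⟩ := CharP.exists F
  haveI := hp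
  obtain ⟨n, hpp, hn⟩ := FiniteField.card F p
  haveI : Fact p.Prime := ⟨hpp⟩
  obtain ⟨d, -, hd⟩ := (Nat.dvd_prime_pow hpp).1 (show r ∣ p ^ (n : ℕ) by
    rw [← hn, hr]; exact dvd_pow_self r two_ne_zero)
  have hfr : ∀ a : F, iterateFrobeniusEquiv F p d a = a ^ r := fun a => by
    rw [iterateFrobeniusEquiv_def, hd]
  set σ := iterateFrobeniusEquiv F p d with hσdef
  have hinv : ∀ a, σ (σ a) = a := fun a => by
    rw [hfr, hfr, ← pow_mul, ← sq, ← hr, FiniteField.pow_card]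
  have hr1 : 1 < r := by
    by_contra hle
    have := Fintype.one_lt_card (α := F)
    rw [hr] at this
    have : r ≤ 1 := by omega
    interval_cases r <;> simp at *
  have hne : σ ≠ RingEquiv.refl F := fun e1 => by
    have hsub : ∀ a : F, a ^ r = a := fun a => by rw [← hfr, e1]; rfl
    have hP : (Polynomial.X ^ r - Polynomial.X : Polynomial F) ≠ 0 := FiniteField.X_pow_card_sub_X_ne_zero F hr1
    have := Finset.card_le_card (s := (Finset.univ : Finset F)) (t := (Polynomial.X ^ r - Polynomial.X : Polynomial F).roots.toFinset)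
      fun a _ => by rw [Multiset.mem_toFinset, Polynomial.mem_roots hP]; simp [hsub]
    have h2 := (this.trans (Multiset.toFinset_card_le _)).trans (Polynomial.card_roots' _)
    rw [Finset.card_univ, FiniteField.X_pow_card_sub_X_natDegree_eq F hr1, hr] at h2
    nlinarith
  obtain ⟨g₀, v, φ, v', φ', hv, hφ, e, hv', hφ', e'⟩ := K.exists_rankOne σ
  obtain ⟨f, hf, hfix⟩ := exists_unitary σ hne hinv K.irr K.schurRep (fun g => by
    have := h (g⁻¹ : Γ) (g⁻¹ : Γ).2
    rw [hfr]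
    simpa [rep_apply] using this) hv hφ e hv' hφ' e'
  exact fun hno => hno ⟨σ, f, hf, fun g hg x y => hfix ⟨g, hg⟩ x y⟩

end Core

end Cfsg.Agent.Classical.Residual
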