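import Cfsg.Agent.Lib.Classical.Residual.SmallFlag

/-!
Centralisers of transvections when the Sylow two-subgroups are small and all root groups are small.
-/

set_option autoImplicit false

namespace Cfsg.Agent.Classical.Residual

open Matrix
open Cfsg.Agent.Classical.Bloom
open Cfsg.Agent.Fus

variable {F : Type*} [Field F]

local notation "V" => (Fin 3 → F)
local notation "SL₃" => Matrix.SpecialLinearGroup (Fin 3) F
local notation "M₃" => Matrix (Fin 3) (Fin 3) F

/-- In standard coordinates, an element centralising a transvection is scalar modulo two-elements. -/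
theorem centraliser_std [Finite F] [CharP F 2] {Γ : Subgroup SL₃} (hs : SmallRoots Γ) {g t u : SL₃} (hg : g ∈ Γ)
    {z : F} (hz : z ≠ 0) (ht : t ∈ Γ) (et : (t : M₃) = uni 0 0 z) (hc : g * t = t * g)
    (hu : u ∈ flagU Γ ![1, 0, 0] ![0, 0, 1]) (hu1 : u ≠ 1) (hut : u ≠ t)
    (hgood : Nat.card (flagU Γ ![1, 0, 0] ![0, 0, 1]) ≤ 4 ∨
      ∃ x₁ y₁ : F, ∀ w ∈ flagU Γ ![1, 0, 0] ![0, 0, 1], ((w : M₃) 0 1 = 0 ∨ (w : M₃) 0 1 = x₁) ∧
        ((w : M₃) 1 2 = 0 ∨ (w : M₃) 1 2 = y₁))
    {a c : F} (hcol : (g : M₃) *ᵥ ![1, 0, 0] = a • ![1, 0, 0]) (hrow : ![0, 0, 1] ᵥ* (g : M₃) = c • ![0, 0, 1]) :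
    pr g ^ 4 = 1 := by
  classical
  have h00 := congrFun hcol 0
  have h10 := congrFun hcol 1
  have h20 := congrFun hcol 2
  have h21 := congrFun hrow 1
  have h22 := congrFun hrow 2
  simp [Matrix.mulVec, Matrix.vecMul, dotProduct, Fin.sum_univ_three] at h00 h10 h20 h21 h22
  have hac : a = c := by
    have h := congrArg (fun x : SL₃ => (x : M₃) 0 2) hc
    simp [et, uni, Matrix.mul_apply, Fin.sum_univ_three] at h
    rw [h00, h22] at h
    exact mul_left_cancel₀ hz (by linear_combination h)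
  subst hac
  set b := (g : M₃) 1 1 with hb
  set p := (g : M₃) 0 1 with hp
  set q := (g : M₃) 1 2 with hq
  have hdet : a * b * a = 1 := by
    have hd : (g : M₃).det = 1 := g.2
    rw [det_fin_three, h00, h10, h20, h21, h22, ← hb] at hd
    linear_combination hd
  have ha : a ≠ 0 := fun e => by simp [e] at hdet
  have hb0 : b ≠ 0 := fun e => by simp [e] at hdet
  have hgi : ((g⁻¹ : SL₃) : M₃) *ᵥ ![1, 0, 0] = a⁻¹ • ![1, 0, 0] := by
    have h := congrArg (((g⁻¹ : SL₃) : M₃) *ᵥ ·) hcol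
    simp only [mulVec_mulVec, ← Matrix.SpecialLinearGroup.coe_mul, inv_mul_cancel, Matrix.SpecialLinearGroup.coe_one,
      one_mulVec, mulVec_smul] at h
    conv_rhs => rw [h]
    rw [inv_smul_smul₀ ha]
  have hgr : ![0, 0, 1] ᵥ* ((g⁻¹ : SL₃) : M₃) = a⁻¹ • ![0, 0, 1] := by
    have h := congrArg (· ᵥ* ((g⁻¹ : SL₃) : M₃)) hrow
    simp only [vecMul_vecMul, ← Matrix.SpecialLinearGroup.coe_mul, mul_inv_cancel, Matrix.SpecialLinearGroup.coe_one,
      vecMul_one, smul_vecMul] at h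
    conv_rhs => rw [h]
    rw [inv_smul_smul₀ ha]
  set w := g * u * g⁻¹ with hw
  have hwU : w ∈ flagU Γ ![1, 0, 0] ![0, 0, 1] := by
    refine ⟨mul_mem (mul_mem hg hu.1) (inv_mem hg), ?_, ?_⟩
    · rw [hw, Matrix.SpecialLinearGroup.coe_mul, Matrix.SpecialLinearGroup.coe_mul, ← mulVec_mulVec, hgi,
        ← mulVec_mulVec, mulVec_smul, hu.2.1, mulVec_smul, hcol, smul_smul, inv_mul_cancel₀ ha, one_smul]
    · rw [hw, Matrix.SpecialLinearGroup.coe_mul, Matrix.SpecialLinearGroup.coe_mul, ← vecMul_vecMul, ← vecMul_vecMul,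
        hrow, smul_vecMul, hu.2.2, smul_vecMul, hgr, smul_smul, mul_inv_cancel₀ ha, one_smul]
  obtain ⟨x, y, z₁, eu⟩ := flag_exists hu
  obtain ⟨x', y', z₂, ew⟩ := flag_exists hwU
  have hrel : ((w * g : SL₃) : M₃) = ((g * u : SL₃) : M₃) := by rw [hw, inv_mul_cancel_right]
  have r1 : x' * b = a * x := by
    have h := congrFun (congrFun hrel 0) 1
    simp [ew, eu, uni, Matrix.mul_apply, Fin.sum_univ_three, h00, h21, ← hb, ← hp] at h
    linear_combination h
  have r2 : y' * a = b * y := by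
    have h := congrFun (congrFun hrel 1) 2
    simp [ew, eu, uni, Matrix.mul_apply, Fin.sum_univ_three, h10, h22, ← hb, ← hq] at h
    linear_combination h
  have hxy : x ≠ 0 ∨ y ≠ 0 := by
    by_contra h
    push Not at h
    obtain ⟨rfl, rfl⟩ := h
    rcases z_unique hs ht hu.1 et eu hz with h0 | h0
    · exact hu1 (Subtype.ext (by rw [eu, h0, uni_zero]; rfl))
    · exact hut (Subtype.ext (by rw [eu, et, h0]))
  have hsame : (x' = x ∧ y' = y) ∨ (x ≠ 0 ∧ x' = x) ∨ (y ≠ 0 ∧ y' = y) := by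
    rcases hgood with h4 | ⟨x₁, y₁, hv⟩
    · left
      have htU : t ∈ flagU Γ ![1, 0, 0] ![0, 0, 1] := uni_mem ht et
      by_contra hne
      -- five elements of the flag group
      have hd : ∀ r s : SL₃, ∀ {X Y Z X' Y' Z' : F}, (r : M₃) = uni X Y Z → (s : M₃) = uni X' Y' Z' →
          r = s → X = X' ∧ Y = Y' ∧ Z = Z' := fun r s X Y Z X' Y' Z' er es e => by
        subst e; exact uni_inj (er.symm.trans es)
      have e1 : ((1 : SL₃) : M₃) = uni 0 0 0 := by rw [uni_zero]; rfl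
      have etu : ((t * u : SL₃) : M₃) = uni x y (z + z₁) := by
        rw [Matrix.SpecialLinearGroup.coe_mul, et, eu, uni_mul]; simp
      have hx'0 : ¬ (x' = 0 ∧ y' = 0) := by
        rintro ⟨h1, h2⟩
        rw [h1, zero_mul] at r1
        rw [h2, zero_mul] at r2
        rcases hxy with h | h
        · exact mul_ne_zero ha h r1.symm
        · exact mul_ne_zero hb0 h r2.symm
      have d1 : (1 : SL₃) ≠ t := fun e => hz (hd _ _ e1 et e).2.2.symm
      have d2 : (1 : SL₃) ≠ t * u := fun e => by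
        obtain ⟨a1, a2, -⟩ := hd _ _ e1 etu e; rcases hxy with h | h
        · exact h a1.symm
        · exact h a2.symm
      have d3 : t ≠ t * u := fun e => hu1 (by simpa using e.symm)
      have d4 : u ≠ t * u := fun e => d1 (by simpa using e : t = 1).symm
      have d5 : w ≠ 1 := fun e => by obtain ⟨a1, a2, -⟩ := hd _ _ ew e1 e; exact hx'0 ⟨a1, a2⟩
      have d6 : w ≠ t := fun e => by obtain ⟨a1, a2, -⟩ := hd _ _ ew et e; exact hx'0 ⟨a1, a2⟩
      have d7 : w ≠ u := fun e => by obtain ⟨a1, a2, -⟩ := hd _ _ ew eu e; exact hne ⟨a1, a2⟩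
      have d8 : w ≠ t * u := fun e => by obtain ⟨a1, a2, -⟩ := hd _ _ ew etu e; exact hne ⟨a1, a2⟩
      have hcard : ({1, t, u, t * u, w} : Finset SL₃).card = 5 := by
        rw [Finset.card_insert_of_notMem (by simp [d1, Ne.symm hu1, d2, d5.symm]),
          Finset.card_insert_of_notMem (by simp [Ne.symm hut, d3, d6.symm]),
          Finset.card_insert_of_notMem (by simp [d4, d7.symm]),
          Finset.card_insert_of_notMem (by simp [d8.symm]), Finset.card_singleton]
      have h5 : 5 ≤ Nat.card (flagU Γ ![1, 0, 0] ![0, 0, 1]) := by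
        rw [← hcard, ← Nat.card_eq_finsetCard]
        refine Nat.card_le_card_of_injective (fun r => ⟨(r : SL₃), ?_⟩) fun r s e =>
          Subtype.ext (Subtype.mk.inj e)
        have := r.2
        simp only [Finset.mem_insert, Finset.mem_singleton] at this
        rcases this with h | h | h | h | h <;> rw [h]
        exacts [one_mem _, htU, hu, mul_mem htU hu, hwU]
      omega
    · right
      have hu' := hv u hu
      have hw' := hv w hwU
      simp [eu, uni] at hu'
      simp [ew, uni] at hw'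
      rcases hxy with h | h
      · left
        refine ⟨h, ?_⟩
        rcases hw'.1 with h' | h'
        · rw [h', zero_mul] at r1; exact absurd r1.symm (mul_ne_zero ha h)
        · rw [h', hu'.1.resolve_left h]
      · right
        refine ⟨h, ?_⟩
        rcases hw'.2 with h' | h'
        · rw [h', zero_mul] at r2; exact absurd r2.symm (mul_ne_zero hb0 h)
        · rw [h', hu'.2.resolve_left h]
  have hab : a = b := by
    rcases hsame with ⟨e1, e2⟩ | ⟨h, e1⟩ | ⟨h, e2⟩
    · rcases hxy with h | h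
      · rw [e1] at r1; exact mul_right_cancel₀ h (by linear_combination -r1)
      · rw [e2] at r2; exact mul_right_cancel₀ h (by linear_combination r2)
    · rw [e1] at r1; exact mul_right_cancel₀ h (by linear_combination -r1)
    · rw [e2] at r2; exact mul_right_cancel₀ h (by linear_combination r2)
  have eg : (g : M₃) = a • uni (a⁻¹ * p) (a⁻¹ * q) (a⁻¹ * (g : M₃) 0 2) := by
    ext i j
    fin_cases i <;> fin_cases j <;>
      simp [uni, h00, h10, h20, h21, h22, ← hb, ← hp, ← hq, ← hab, ha]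
  have h4 : ((g ^ 4 : SL₃) : M₃) = a ^ 4 • 1 := by
    rw [Matrix.SpecialLinearGroup.coe_pow, eg, smul_pow]
    congr 1
    rw [show (4 : ℕ) = 2 + 2 from rfl, pow_add, sq, uni_mul]
    simp [CharTwo.add_self_eq_zero, uni_mul, uni_zero]
  rw [← map_pow]
  refine pr_eq_one.2 ⟨a ^ 4, ?_, h4⟩
  rw [← hab] at hdet
  calc (a ^ 4) ^ 3 = (a * a * a) ^ 4 := by ring
    _ = 1 := by rw [hdet, one_pow]

/-- An element centralising a transvection is a scalar times a two-element. -/
theorem centraliser_two [Finite F] [CharP F 2] {Γ : Subgroup SL₃} (hs : SmallRoots Γ) {g t u : SL₃} (hg : g ∈ Γ)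
    {v φ : V} (hv : v ≠ 0) (hφ : φ ≠ 0) (hi : φ ⬝ᵥ v = 0) (ht : t ∈ Γ) (et : (t : M₃) = 1 + vecMulVec v φ)
    (hc : g * t = t * g) (hu : u ∈ flagU Γ v φ) (hu1 : u ≠ 1) (hut : u ≠ t)
    (hgood : Nat.card (flagU Γ v φ) ≤ 4 ∨ ∃ s₁ ∈ flagU Γ v φ, ∃ s₂ ∈ flagU Γ v φ,
      s₁ * s₁ = 1 ∧ s₂ * s₂ = 1 ∧ s₁ * s₂ ≠ s₂ * s₁) :
    pr g ^ 4 = 1 := by
  classical
  obtain ⟨P, hPv, a, ha, hPφ⟩ := exists_coords_flag hv hφ hi
  have mem : ∀ g, g ∈ flagU Γ v φ ↔ conjGL P g ∈ flagU (moveGL P Γ) ![1, 0, 0] ![0, 0, 1] :=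
    fun g => mem_flagU_move g ha hPv hPφ
  have hPP : (P : M₃) * ((P⁻¹ : GL (Fin 3) F) : M₃) = 1 := by rw [← Units.val_mul, mul_inv_cancel, Units.val_one]
  have hPP' : ((P⁻¹ : GL (Fin 3) F) : M₃) * (P : M₃) = 1 := by rw [← Units.val_mul, inv_mul_cancel, Units.val_one]
  -- the centraliser fixes the centre and the axis
  have hfix : (∃ b : F, (g : M₃) *ᵥ v = b • v) ∧ ∃ c : F, φ ᵥ* (g : M₃) = c • φ := by
    have h : (g : M₃) * vecMulVec v φ = vecMulVec v φ * (g : M₃) := by
      have h := congrArg (fun x : SL₃ => (x : M₃)) hc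
      simp only [Matrix.SpecialLinearGroup.coe_mul, et, mul_add, add_mul, mul_one, one_mul] at h
      exact add_left_cancel h
    rw [mul_vecMulVec, vecMulVec_mul] at h
    constructor
    · obtain ⟨j, hj⟩ := Function.ne_iff.1 hφ
      refine ⟨(φ ᵥ* (g : M₃)) j / φ j, funext fun i => ?_⟩
      have e := congrFun (congrFun h i) j
      simp only [vecMulVec_apply] at e
      rw [Pi.smul_apply, smul_eq_mul, div_mul_eq_mul_div, eq_div_iff hj]
      linear_combination e
    · obtain ⟨i, hi'⟩ := Function.ne_iff.1 hv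
      refine ⟨((g : M₃) *ᵥ v) i / v i, funext fun j => ?_⟩
      have e := congrFun (congrFun h i) j
      simp only [vecMulVec_apply] at e
      rw [Pi.smul_apply, smul_eq_mul, div_mul_eq_mul_div, eq_div_iff hi']
      linear_combination -e
  obtain ⟨⟨b, hb⟩, c, hc'⟩ := hfix
  have hcol : (conjGL P g : M₃) *ᵥ ![1, 0, 0] = b • ![1, 0, 0] := by
    rw [conjGL_coe, ← hPv, mulVec_mulVec, mul_assoc, hPP', mul_one, ← mulVec_mulVec, hb, mulVec_smul]
  have hrow : ![0, 0, 1] ᵥ* (conjGL P g : M₃) = c • ![0, 0, 1] := by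
    refine smul_right_injective V ha ?_
    show a • (![0, 0, 1] ᵥ* (conjGL P g : M₃)) = a • (c • ![0, 0, 1])
    rw [← smul_vecMul, smul_comm a c, ← hPφ, conjGL_coe, vecMul_vecMul, ← mul_assoc, ← mul_assoc, hPP', one_mul,
      ← vecMul_vecMul, hc', smul_vecMul]
  have et' : (conjGL P t : M₃) = uni 0 0 a := by
    rw [conjGL_coe, et, mul_add, add_mul, mul_one, hPP, mul_vecMulVec, vecMulVec_mul, hPv, hPφ]
    ext i j; fin_cases i <;> fin_cases j <;> simp [uni, vecMulVec_apply]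
  have hcard : Nat.card (flagU (moveGL P Γ) ![1, 0, 0] ![0, 0, 1]) = Nat.card (flagU Γ v φ) := by
    refine (Nat.card_congr (Equiv.ofBijective (fun x : flagU Γ v φ => (⟨conjGL P (x : SL₃), (mem _).1 x.2⟩ :
      flagU (moveGL P Γ) ![1, 0, 0] ![0, 0, 1])) ⟨fun x y e =>
        Subtype.ext ((conjGL P).injective (congrArg Subtype.val e)), fun y => ?_⟩)).symm
    exact ⟨⟨(conjGL P).symm y, (mem _).2 (by rw [MulEquiv.apply_symm_apply]; exact y.2)⟩,
      Subtype.ext ((conjGL P).apply_symm_apply _)⟩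
  have hgood' : Nat.card (flagU (moveGL P Γ) ![1, 0, 0] ![0, 0, 1]) ≤ 4 ∨
      ∃ x₁ y₁ : F, ∀ w ∈ flagU (moveGL P Γ) ![1, 0, 0] ![0, 0, 1], ((w : M₃) 0 1 = 0 ∨ (w : M₃) 0 1 = x₁) ∧
        ((w : M₃) 1 2 = 0 ∨ (w : M₃) 1 2 = y₁) := by
    rcases hgood with h | ⟨s₁, m₁, s₂, m₂, q₁, q₂, hne⟩
    · exact Or.inl (hcard ▸ h)
    right
    have hne' : ¬ conjGL P s₁ * conjGL P s₂ = conjGL P s₂ * conjGL P s₁ := fun e => hne (by
      rw [← map_mul, ← map_mul] at e; exact (conjGL P).injective e)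
    obtain ⟨X, Y, Z, e₁⟩ := flag_exists ((mem _).1 m₁)
    obtain ⟨X', Y', Z', e₂⟩ := flag_exists ((mem _).1 m₂)
    rcases uniShape (smallRoots_move hs P) with h | h | h | ⟨-, -, -, -, -, -, -, x₁, y₁, _, -, -, h⟩
    · refine absurd (Subtype.ext ?_) hne'
      have a₁ := h _ ((mem _).1 m₁)
      have a₂ := h _ ((mem _).1 m₂)
      simp [e₁, uni] at a₁
      simp [e₂, uni] at a₂
      rw [Matrix.SpecialLinearGroup.coe_mul, Matrix.SpecialLinearGroup.coe_mul, e₁, e₂, uni_mul, uni_mul, a₁, a₂,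
        add_comm X, add_comm Z, mul_zero, mul_zero]
    · refine absurd (Subtype.ext ?_) hne'
      have a₁ := h _ ((mem _).1 m₁)
      have a₂ := h _ ((mem _).1 m₂)
      simp [e₁, uni] at a₁
      simp [e₂, uni] at a₂
      rw [Matrix.SpecialLinearGroup.coe_mul, Matrix.SpecialLinearGroup.coe_mul, e₁, e₂, uni_mul, uni_mul, a₁, a₂,
        add_comm Y, add_comm Z, zero_mul, zero_mul]
    · exfalso
      have hs1 : s₁ ≠ 1 := fun e => hne (by simp [e])
      have hs2 : s₂ ≠ 1 := fun e => hne (by simp [e])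
      refine hne' ?_
      rw [h _ ((mem _).1 m₁) _ ((mem _).1 m₂) (by rw [← map_mul, q₁, map_one]) (by rw [← map_mul, q₂, map_one])
        (fun e => hs1 ((conjGL P).injective (e.trans (map_one _).symm)))
        (fun e => hs2 ((conjGL P).injective (e.trans (map_one _).symm)))]
    · exact ⟨x₁, y₁, fun w hw => ⟨(h w hw _ _ _ (flag_uni hw)).1, (h w hw _ _ _ (flag_uni hw)).2.1⟩⟩
  have h4 : pr (conjGL P g) ^ 4 = 1 := centraliser_std (smallRoots_move hs P) (mem_moveGL.2 ⟨g, hg, rfl⟩) ha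
    (mem_moveGL.2 ⟨t, ht, rfl⟩) et' (by rw [← map_mul, hc, map_mul]) ((mem _).1 hu)
    (fun e => hu1 ((conjGL P).injective (e.trans (map_one _).symm)))
    (fun e => hut ((conjGL P).injective e)) hgood' hcol hrow
  rw [← pslConj_pr, ← map_pow, MulEquiv.map_eq_one_iff] at h4
  exact h4

end Cfsg.Agent.Classical.Residual
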