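import Cfsg.Agent.Lib.Classical.Residual.SmallUni

/-!
The Sylow two-subgroups when all root groups are small, in intrinsic terms.
-/

set_option autoImplicit false

namespace Cfsg.Agent.Classical.Residual

open Matrix
open Cfsg.Agent.Classical.Bloom
open Cfsg.Agent.Fus

variable {F : Type*} [Field F]

local notation "V" => (Fin 3 → F)
local notation "SL₃" => Matrix.SpecialLinearGroup (Fin 3) F
local notation "M₃" => Matrix (Fin 3) (Fin 3) F

theorem uni_pow_four [CharP F 2] {g : SL₃} {x y z : F} (e : (g : M₃) = uni x y z) : g ^ 4 = 1 := by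
  refine Subtype.ext ?_
  have h := square_uni (square_uni e)
  rw [show g ^ 4 = (g * g) * (g * g) by rw [show (4 : ℕ) = 2 + 2 from rfl, pow_add, sq], h, mul_zero, uni_zero]
  rfl

theorem flagU_isPGroup [CharP F 2] {Γ : Subgroup SL₃} {v φ : V} (hv : v ≠ 0) (hφ : φ ≠ 0) (hi : φ ⬝ᵥ v = 0) :
    IsPGroup 2 (flagU Γ v φ) := by
  obtain ⟨P, hPv, a, ha, hPφ⟩ := exists_coords_flag hv hφ hi
  intro g
  refine ⟨2, Subtype.ext ((conjGL P).injective ?_)⟩
  rw [Subgroup.coe_pow, map_pow, Subgroup.coe_one, map_one]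
  exact uni_pow_four (flag_uni ((mem_flagU_move (g : SL₃) ha hPv hPφ).1 g.2))

theorem eq_of_two_values {a b c : F} (ha : a = 0 ∨ a = c) (hb : b = 0 ∨ b = c) (h : a = 0 ↔ b = 0) : a = b := by
  rcases ha with ha | ha
  · rw [ha, h.1 ha]
  · rcases hb with hb | hb
    · rw [hb, h.2 hb]
    · rw [ha, hb]

/-- The possibilities for a flag group: a common centre, a common axis, a unique involution, or a dihedral
group of order eight. -/
theorem flag_shape [Finite F] [CharP F 2] {Γ : Subgroup SL₃} (hs : SmallRoots Γ) {v φ : V} (hv : v ≠ 0) (hφ : φ ≠ 0)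
    (hi : φ ⬝ᵥ v = 0) :
    (∀ g ∈ flagU Γ v φ, ∃ ψ : V, ψ ⬝ᵥ v = 0 ∧ (g : M₃) = 1 + vecMulVec v ψ) ∨
    (∀ g ∈ flagU Γ v φ, ∃ w : V, φ ⬝ᵥ w = 0 ∧ (g : M₃) = 1 + vecMulVec w φ) ∨
    (∀ g ∈ flagU Γ v φ, ∀ h ∈ flagU Γ v φ, g * g = 1 → h * h = 1 → g ≠ 1 → h ≠ 1 → g = h) ∨
    (Nat.card (flagU Γ v φ) ≤ 8 ∧ ∃ g₁ ∈ flagU Γ v φ, ∃ g₂ ∈ flagU Γ v φ,
      g₁ * g₁ = 1 ∧ g₂ * g₂ = 1 ∧ g₁ * g₂ ≠ g₂ * g₁) := by
  classical
  obtain ⟨P, hPv, a, ha, hPφ⟩ := exists_coords_flag hv hφ hi
  have hiv : ((P⁻¹ : GL (Fin 3) F) : M₃) * (P : M₃) = 1 := by rw [← Units.val_mul, inv_mul_cancel, Units.val_one]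
  have mem : ∀ g, g ∈ flagU Γ v φ ↔ conjGL P g ∈ flagU (moveGL P Γ) ![1, 0, 0] ![0, 0, 1] :=
    fun g => mem_flagU_move g ha hPv hPφ
  have hPv' : ((P⁻¹ : GL (Fin 3) F) : M₃) *ᵥ ![1, 0, 0] = v := by rw [← hPv, mulVec_mulVec, hiv, one_mulVec]
  have hPφ' : (a • ![0, 0, 1]) ᵥ* (P : M₃) = φ := by rw [← hPφ, vecMul_vecMul, hiv, vecMul_one]
  have back : ∀ (g : SL₃) (w χ : V), (conjGL P g : M₃) = 1 + vecMulVec w χ →
      (g : M₃) = 1 + vecMulVec (((P⁻¹ : GL (Fin 3) F) : M₃) *ᵥ w) (χ ᵥ* (P : M₃)) := by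
    intro g w χ e
    have h := congrArg (fun X : M₃ => ((P⁻¹ : GL (Fin 3) F) : M₃) * X * (P : M₃)) e
    simp only [conjGL_coe] at h
    rw [← mul_assoc, ← mul_assoc, hiv, one_mul, mul_assoc, hiv, mul_one, mul_add, add_mul, mul_one, hiv,
      mul_vecMulVec, vecMulVec_mul] at h
    exact h
  rcases uniShape (smallRoots_move hs P) with h | h | h | ⟨k₁, hk₁, k₂, hk₂, h1, h2, hne, x₁, y₁, z₀, hx₁, hy₁, h⟩
  · left
    intro g hg
    have hg' := (mem g).1 hg
    have e := flag_uni hg'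
    rw [h _ hg'] at e
    set x := (conjGL P g : M₃) 0 1
    set z := (conjGL P g : M₃) 0 2
    have hdot : (![0, x, z] ᵥ* (P : M₃)) ⬝ᵥ v = 0 := by
      rw [← dotProduct_mulVec, hPv]; simp
    refine ⟨![0, x, z] ᵥ* (P : M₃), hdot, ?_⟩
    rw [← hPv']
    refine back g ![1, 0, 0] ![0, x, z] (e.trans ?_)
    ext i j; fin_cases i <;> fin_cases j <;> simp [uni, vecMulVec_apply]
  · right; left
    intro g hg
    have hg' := (mem g).1 hg
    have e := flag_uni hg'
    rw [h _ hg'] at e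
    set y := (conjGL P g : M₃) 1 2
    set z := (conjGL P g : M₃) 0 2
    have e' : (g : M₃) = 1 + vecMulVec (((P⁻¹ : GL (Fin 3) F) : M₃) *ᵥ (a⁻¹ • ![z, y, 0])) φ := by
      rw [← hPφ']
      refine back g _ _ (e.trans ?_)
      ext i j; fin_cases i <;> fin_cases j <;> simp [uni, vecMulVec_apply, ha]
      all_goals field_simp
    refine ⟨_, ?_, e'⟩
    rw [dotProduct_mulVec, hPφ, smul_dotProduct, dotProduct_smul]
    simp
  · right; right; left
    intro g hg g' hg' hg2 hg2' hg1 hg1'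
    refine (conjGL P).injective (h _ ((mem g).1 hg) _ ((mem g').1 hg') ?_ ?_ ?_ ?_)
    · rw [← map_mul, hg2, map_one]
    · rw [← map_mul, hg2', map_one]
    · exact fun e => hg1 ((conjGL P).injective (e.trans (map_one _).symm))
    · exact fun e => hg1' ((conjGL P).injective (e.trans (map_one _).symm))
  · right; right; right
    refine ⟨?_, ?_⟩
    · have hinj : ∀ g g' : flagU Γ v φ, ∀ x y z x' y' z' : F, (conjGL P g : M₃) = uni x y z →
          (conjGL P g' : M₃) = uni x' y' z' → x = x' → y = y' → z = z' ∨ z = z' + z₀ := by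
        intro g g' x y z x' y' z' e e' hx hy
        subst hx hy
        have hm : (g : SL₃) * (g' : SL₃) ∈ flagU Γ v φ := mul_mem g.2 g'.2
        have hsq : (g' : SL₃) * (g' : SL₃) ∈ flagU Γ v φ := mul_mem g'.2 g'.2
        have hc : (conjGL P ((g : SL₃) * g' * (g' * g')) : M₃) = uni 0 0 (z + z') := by
          rw [map_mul, map_mul, map_mul, Matrix.SpecialLinearGroup.coe_mul, square_uni e',
            Matrix.SpecialLinearGroup.coe_mul, e, e', uni_mul, uni_mul, CharTwo.add_self_eq_zero,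
            CharTwo.add_self_eq_zero, add_zero, zero_mul, add_zero]
          congr 1 <;> first
            | linear_combination y * CharTwo.two_eq_zero (R := F)
            | linear_combination (x * y) * CharTwo.two_eq_zero (R := F)
        rcases (h _ ((mem _).1 (mul_mem hm hsq)) 0 0 (z + z') hc).2.2 rfl rfl with h0 | h0
        · exact Or.inl (CharTwo.add_eq_zero.1 h0)
        · refine Or.inr ?_
          linear_combination h0 - z' * CharTwo.two_eq_zero (R := F)
      let f : flagU Γ v φ → Bool × Bool := fun g =>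
        (decide ((conjGL P g : M₃) 0 1 = 0), decide ((conjGL P g : M₃) 1 2 = 0))
      haveI : Fintype (flagU Γ v φ) := Fintype.ofFinite _
      have hfib : ∀ b ∈ (Finset.univ : Finset (flagU Γ v φ)).image f,
          ((Finset.univ : Finset (flagU Γ v φ)).filter fun g => f g = b).card ≤ 2 := by
        intro b hb
        obtain ⟨g₀, -, hg₀⟩ := Finset.mem_image.1 hb
        refine (Finset.card_image_of_injOn (f := fun g : flagU Γ v φ => (conjGL P (g : SL₃) : M₃) 0 2) ?_).symm.trans_le ?_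
        swap
        · refine (Finset.card_le_card (t := {(conjGL P g₀ : M₃) 0 2, (conjGL P g₀ : M₃) 0 2 + z₀}) ?_).trans
            (Finset.card_le_two)
          intro z hz
          obtain ⟨g, hg, rfl⟩ := Finset.mem_image.1 hz
          have hgb : f g = f g₀ := (Finset.mem_filter.1 hg).2.trans hg₀.symm
          have e := flag_uni ((mem g).1 g.2)
          have e₀ := flag_uni ((mem g₀).1 g₀.2)
          obtain ⟨hx, hy, -⟩ := h _ ((mem g).1 g.2) _ _ _ e
          obtain ⟨hx₀, hy₀, -⟩ := h _ ((mem g₀).1 g₀.2) _ _ _ e₀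
          simp only [f, Prod.mk.injEq, decide_eq_decide] at hgb
          have := hinj g g₀ _ _ _ _ _ _ e e₀ (eq_of_two_values hx hx₀ hgb.1) (eq_of_two_values hy hy₀ hgb.2)
          simpa using this
        · intro g hg g' hg' hzz
          have hgb : f g = f g' := (Finset.mem_filter.1 hg).2.trans (Finset.mem_filter.1 hg').2.symm
          have e := flag_uni ((mem g).1 g.2)
          have e' := flag_uni ((mem g').1 g'.2)
          obtain ⟨hx, hy, -⟩ := h _ ((mem g).1 g.2) _ _ _ e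
          obtain ⟨hx', hy', -⟩ := h _ ((mem g').1 g'.2) _ _ _ e'
          simp only [f, Prod.mk.injEq, decide_eq_decide] at hgb
          have hxx := eq_of_two_values hx hx' hgb.1
          have hyy := eq_of_two_values hy hy' hgb.2
          refine Subtype.ext ((conjGL P).injective (Subtype.ext ?_))
          simp only at hzz
          rw [e, e', hxx, hyy, hzz]
      rw [Nat.card_eq_fintype_card, ← Finset.card_univ, Finset.card_eq_sum_card_image f]
      calc _ ≤ ((Finset.univ : Finset (flagU Γ v φ)).image f).card * 2 := Finset.sum_le_card_nsmul _ _ _ hfib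
        _ ≤ 4 * 2 := Nat.mul_le_mul_right 2 ((Finset.card_le_univ _).trans (by simp))
    · refine ⟨(conjGL P).symm k₁, (mem _).2 (by rwa [MulEquiv.apply_symm_apply]), (conjGL P).symm k₂,
        (mem _).2 (by rwa [MulEquiv.apply_symm_apply]), ?_, ?_, fun e => hne ?_⟩
      · rw [← map_mul, h1, map_one]
      · rw [← map_mul, h2, map_one]
      · rw [← map_mul, ← map_mul] at e
        exact (conjGL P).symm.injective e

end Cfsg.Agent.Classical.Residual
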