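import Cfsg.Agent.Lib.Classical.Residual.SmallCentralizer
import Cfsg.Agent.Lib.Classical.Residual.EvenUnitary
import Cfsg.Agent.Lib.Classical.DicksonTorus
import Cfsg.Agent.Lib.Invol.ThreeFree.Main
import Cfsg.Agent.Lib.Invol.ThreeFree.SzFrame
import Cfsg.Agent.Lib.Grp.AmbivalentSolvable
import Cfsg.Agent.Lib.Spor.M21Psl
import Cfsg.Agent.Lib.Fus.HeUniq.Split
import Cfsg.Agent.S0222
import Cfsg.Agent.S0201
import Cfsg.Agent.S0219
import Cfsg.Agent.S0348
import Cfsg.Agent.S0254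
import Cfsg.Agent.S1141

/-!
Residual groups in characteristic two all of whose root groups are small.
-/

set_option autoImplicit false

namespace Cfsg.Agent.Classical.Residual

open Matrix
open Cfsg.Agent.Classical.Bloom

variable {F : Type*} [Field F]

local notation "V" => (Fin 3 → F)
local notation "SL₃" => Matrix.SpecialLinearGroup (Fin 3) F
local notation "M₃" => Matrix (Fin 3) (Fin 3) F

theorem conj_one_add (k g : SL₃) {v ψ : V} (e : (g : M₃) = 1 + vecMulVec v ψ) :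
    ((k * g * k⁻¹ : SL₃) : M₃) = 1 + vecMulVec ((k : M₃) *ᵥ v) (ψ ᵥ* ((k⁻¹ : SL₃) : M₃)) := by
  rw [Matrix.SpecialLinearGroup.coe_mul, Matrix.SpecialLinearGroup.coe_mul, e, mul_add, add_mul, mul_one,
    mul_vecMulVec, vecMulVec_mul, ← Matrix.SpecialLinearGroup.coe_mul, mul_inv_cancel,
    Matrix.SpecialLinearGroup.coe_one]

theorem one_add_mul {v w φ ψ : V} (h : φ ⬝ᵥ w = 0) :
    ((1 : M₃) + vecMulVec v φ) * (1 + vecMulVec w ψ) = 1 + (vecMulVec v φ + vecMulVec w ψ) := by
  rw [add_mul, one_mul, mul_add, mul_one, vecMulVec_mul_vecMulVec, h]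
  simp only [zero_smul, smul_zero, vecMulVec_zero, zero_vecMulVec]
  abel

theorem z_eq_one {z : SL₃} (h : pr z = 1) {n : ℕ} (hn : n.Coprime 3) (h' : z ^ n = 1) : z = 1 := by
  have h3 := center_pow_three h
  have : z ^ Nat.gcd n 3 = 1 := pow_gcd_eq_one.2 ⟨h', h3⟩
  rwa [show Nat.gcd n 3 = 1 from hn, pow_one] at this

theorem char_two_add [CharP F 2] (A : M₃) : A + A = 0 := by
  ext i j
  exact CharTwo.add_self_eq_zero _

/-- A group of order at most four is commutative. -/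
theorem mul_comm' {G : Type*} [Group G] (a b : G) (n : ℕ) (hn : Nat.card G = 2 ^ n) (h : n ≤ 2) : a * b = b * a := by
  haveI : Fact (Nat.Prime 2) := ⟨Nat.prime_two⟩
  interval_cases n
  · haveI := (Nat.card_eq_one_iff_unique.1 hn).1
    exact Subsingleton.elim _ _
  · haveI : Fact (Nat.card G).Prime := ⟨hn ▸ Nat.prime_two⟩
    haveI := isCyclic_of_prime_card (α := G) rfl
    haveI := IsCyclic.commutative (α := G)
    exact IsMulCommutative.is_comm.comm a b
  · exact IsPGroup.commutative_of_card_eq_prime_sq hn a b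

theorem charP_of_card_two_pow {L : Type*} [Field L] [Fintype L] {n : ℕ} (hn : Fintype.card L = 2 ^ n) :
    CharP L 2 := by
  obtain ⟨p, hp⟩ := CharP.exists L
  obtain ⟨k, hpp, hk⟩ := FiniteField.card L p
  have h2 : p ∣ 2 ^ n := by rw [← hn, hk]; exact dvd_pow_self p k.pos.ne'
  rwa [(Nat.prime_dvd_prime_iff_eq hpp Nat.prime_two).1 (hpp.dvd_of_dvd_pow h2)] at hp

/-- A two-element commuting with a transvection fixes its centre and axis. -/
theorem mem_flag_of_commute [CharP F 2] {Γ : Subgroup SL₃} {u g : SL₃} {w χ : V} (hw : w ≠ 0) (hχ : χ ≠ 0)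
    (hu : u ∈ Γ) (et : (g : M₃) = 1 + vecMulVec w χ) (hc : u * g = g * u) {j : ℕ} (hj : u ^ 2 ^ j = 1) :
    u ∈ flagU Γ w χ := by
  have h : (u : M₃) * vecMulVec w χ = vecMulVec w χ * (u : M₃) := by
    have h := congrArg (fun x : SL₃ => (x : M₃)) hc
    simp only [Matrix.SpecialLinearGroup.coe_mul, et, mul_add, add_mul, mul_one, one_mul] at h
    exact add_left_cancel h
  rw [mul_vecMulVec, vecMulVec_mul] at h
  obtain ⟨l, hl⟩ := Function.ne_iff.1 hχ
  obtain ⟨i, hi⟩ := Function.ne_iff.1 hw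
  set a := (χ ᵥ* (u : M₃)) l / χ l
  have ha : (u : M₃) *ᵥ w = a • w := funext fun i => by
    have e := congrFun (congrFun h i) l
    simp only [vecMulVec_apply] at e
    rw [Pi.smul_apply, smul_eq_mul, div_mul_eq_mul_div, eq_div_iff hl]
    linear_combination e
  have hb : χ ᵥ* (u : M₃) = a • χ := funext fun m => by
    have e := congrFun (congrFun h i) m
    rw [ha] at e
    simp only [vecMulVec_apply, Pi.smul_apply, smul_eq_mul] at e
    rw [Pi.smul_apply, smul_eq_mul]
    exact mul_left_cancel₀ hi (by linear_combination -e)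
  have hpow : ∀ n : ℕ, ((u ^ n : SL₃) : M₃) *ᵥ w = a ^ n • w := fun n => by
    induction n with
    | zero => simp
    | succ n ih => rw [pow_succ, Matrix.SpecialLinearGroup.coe_mul, ← mulVec_mulVec, ha, mulVec_smul, ih, smul_smul,
        pow_succ, mul_comm]
  have ha1 : a = 1 := by
    have e := congrFun (hpow (2 ^ j)) i
    rw [hj, Matrix.SpecialLinearGroup.coe_one, one_mulVec, Pi.smul_apply, smul_eq_mul] at e
    have h1 : a ^ 2 ^ j = 1 := mul_right_cancel₀ hi (by linear_combination -e)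
    have h2 : (a - 1) ^ 2 ^ j = 0 := by rw [sub_pow_char_pow (R := F) (p := 2), h1, one_pow, sub_self]
    exact sub_eq_zero.1 (pow_eq_zero_iff (pow_ne_zero j two_ne_zero) |>.1 h2)
  exact ⟨hu, by rw [ha, ha1, one_smul], by rw [hb, ha1, one_smul]⟩

section Sylow

variable [Finite F] {Γ : Subgroup (Matrix.SpecialLinearGroup (Fin 3) F)}

/-- The projection of the group onto its image. -/
theorem sigma_surjective : Function.Surjective (pr.subgroupMap Γ) := pr.subgroupMap_surjective Γ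

theorem sigma_coe (g : Γ) : ((pr.subgroupMap Γ g : Γ.map pr) : Matrix.ProjectiveSpecialLinearGroup (Fin 3) F) =
    pr (g : SL₃) := rfl

theorem sigma_ker_central {z : Γ} (h : pr.subgroupMap Γ z = 1) (g : Γ) : g * z = z * g :=
  Subtype.ext (center_commute (congrArg Subtype.val h) g)

theorem sigma_eq_one {z : Γ} (h : pr.subgroupMap Γ z = 1) {n : ℕ} (hn : n.Coprime 3) (h' : z ^ n = 1) : z = 1 :=
  Subtype.ext (z_eq_one (congrArg Subtype.val h) hn (by rw [← Subgroup.coe_pow, h']; rfl))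

/-- Involutions of the image come from involutions. -/
theorem invol_lift {x : Γ.map pr} (hx : orderOf x = 2) : ∃ g : Γ, g * g = 1 ∧ g ≠ 1 ∧ pr.subgroupMap Γ g = x := by
  obtain ⟨g, e⟩ := sigma_surjective x
  have h2 : pr.subgroupMap Γ (g * g) = 1 := by rw [map_mul, e, ← sq, ← hx, pow_orderOf_eq_one]
  have h6 : (g * g) ^ 3 = 1 := Subtype.ext (center_pow_three (congrArg Subtype.val h2))
  have e3 : pr.subgroupMap Γ (g ^ 3) = x := by
    rw [map_pow, e, pow_succ, ← hx, pow_orderOf_eq_one, one_mul]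
  refine ⟨g ^ 3, by rw [← pow_add, show (3 + 3) = 2 * 3 from rfl, pow_mul, sq, h6], fun h => ?_, e3⟩
  rw [h, map_one] at e3
  rw [← e3, orderOf_one] at hx
  norm_num at hx

/-- An element commuting with an involution modulo the kernel commutes with it. -/
theorem invol_commute {g k : Γ} (hg : g * g = 1)
    (h : pr.subgroupMap Γ k * pr.subgroupMap Γ g = pr.subgroupMap Γ g * pr.subgroupMap Γ k) : k * g = g * k := by
  set z := k * g * k⁻¹ * g⁻¹ with hz
  have hz1 : pr.subgroupMap Γ z = 1 := by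
    rw [hz, map_mul, map_mul, map_mul, map_inv, map_inv, h, mul_inv_cancel_right, mul_inv_cancel]
  have hc : k * g * k⁻¹ = z * g := by rw [hz, inv_mul_cancel_right]
  have h2 : z ^ 2 = 1 := by
    have h4 : (k * g * k⁻¹) * (k * g * k⁻¹) = 1 := by
      rw [show (k * g * k⁻¹) * (k * g * k⁻¹) = k * (g * g) * k⁻¹ by group, hg, mul_one, mul_inv_cancel]
    have hzg := sigma_ker_central hz1 g
    rw [hc, mul_assoc, ← mul_assoc g, hzg, mul_assoc z g, hg, mul_one] at h4
    rwa [sq]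
  have := sigma_eq_one hz1 (n := 2) (by norm_num) h2
  rw [this, one_mul] at hc
  exact mul_inv_eq_iff_eq_mul.1 hc

/-- A transvection for every involution. -/
theorem invol_transvection [CharP F 2] {g : SL₃} (hg : g * g = 1) (hg1 : g ≠ 1) :
    ∃ w χ : V, w ≠ 0 ∧ χ ≠ 0 ∧ χ ⬝ᵥ w = 0 ∧ (g : M₃) = 1 + vecMulVec w χ := by
  have hA : (g : M₃) * (g : M₃) = 1 := by rw [← Matrix.SpecialLinearGroup.coe_mul, hg]; rfl
  obtain ⟨w, χ, hw, hχ, e⟩ := invol_rank_one hA g.2 fun h => hg1 (Subtype.ext h)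
  rw [one_smul] at e
  have e' : (g : M₃) = 1 + vecMulVec w χ := by
    rw [← e]
    ext i j
    simp only [Matrix.add_apply]
    rw [add_comm ((g : M₃) i j), ← add_assoc, CharTwo.add_self_eq_zero, zero_add]
  refine ⟨w, χ, hw, hχ, ?_, e'⟩
  have hd : (g : M₃).det = 1 + χ ⬝ᵥ w := by
    rw [e', vecMulVec_eq (ι := Unit), det_one_add_replicateCol_mul_replicateRow]
  rw [g.2] at hd
  linear_combination -hd

/-- An element commuting with all of a Sylow subgroup and squaring to one lies in it. -/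
theorem mem_of_sup {G : Type*} [Group G] (S : Sylow 2 G) {x : G} (hx : x * x = 1)
    (h : x ∈ Subgroup.normalizer ((S : Subgroup G) : Set G)) : x ∈ (S : Subgroup G) := by
  have h2 : IsPGroup 2 (Subgroup.zpowers x) := fun y => by
    obtain ⟨n, hn⟩ := Subgroup.mem_zpowers_iff.1 y.2
    refine ⟨1, Subtype.ext ?_⟩
    rw [Subgroup.coe_pow, ← hn, pow_one, ← zpow_natCast, ← _root_.zpow_mul, mul_comm, _root_.zpow_mul, zpow_natCast, sq, hx,
      _root_.one_zpow, Subgroup.coe_one]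
  have := S.3 (h2.to_sup_of_normal_right' S.2 (by rwa [Subgroup.zpowers_le])) le_sup_right
  exact this ▸ (le_sup_left : Subgroup.zpowers x ≤ Subgroup.zpowers x ⊔ _) (Subgroup.mem_zpowers x)

/-- A Sylow two-subgroup as a flag group. -/
theorem exists_sylow_flag [CharP F 2] : ∃ (v φ : V) (S : Sylow 2 Γ), v ≠ 0 ∧ φ ≠ 0 ∧ φ ⬝ᵥ v = 0 ∧
    ∀ g : Γ, g ∈ (S : Subgroup Γ) ↔ (g : SL₃) ∈ flagU Γ v φ := by
  obtain ⟨S⟩ : Nonempty (Sylow 2 Γ) := inferInstance
  obtain ⟨v, φ, hv, hφ, hi, hfix⟩ := exists_flag_two ((S : Subgroup Γ).map Γ.subtype) (S.2.map _)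
  refine ⟨v, φ, S, hv, hφ, hi, fun g => ?_⟩
  have h2 : IsPGroup 2 ((flagU Γ v φ).subgroupOf Γ) :=
    (flagU_isPGroup hv hφ hi).comap_of_injective _ Γ.subtype_injective
  have hle : (S : Subgroup Γ) ≤ (flagU Γ v φ).subgroupOf Γ := fun x hx =>
    Subgroup.mem_subgroupOf.2 ⟨x.2, hfix _ (Subgroup.mem_map_of_mem _ hx)⟩
  rw [← S.3 h2 hle, Subgroup.mem_subgroupOf]

end Sylow

namespace Core

variable [Fintype F] {Γ : Subgroup (Matrix.SpecialLinearGroup (Fin 3) F)} (K : Core Γ)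

include K in
theorem exists_noncomm : ∃ a b : Γ.map pr, a * b ≠ b * a := by
  by_contra! h
  exact K.nonab ⟨⟨h⟩⟩

include K in
/-- The Sylow subgroup is not elementary abelian with the strongly closed normaliser. -/
theorem not_elementary [CharP F 2] (S : Sylow 2 Γ) (hsq : ∀ g ∈ (S : Subgroup Γ), g * g = 1)
    (hcomm : ∀ g ∈ (S : Subgroup Γ), ∀ h ∈ (S : Subgroup Γ), g * h = h * g)
    (htrans : ∀ k : Γ, ∀ g ∈ (S : Subgroup Γ), g ≠ 1 → k * g * k⁻¹ ∈ (S : Subgroup Γ) →
      ∀ u ∈ (S : Subgroup Γ), k * u * k⁻¹ ∈ (S : Subgroup Γ)) : False := by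
  classical
  haveI : Fact (Nat.Prime 2) := ⟨Nat.prime_two⟩
  haveI := K.simple
  set σ := pr.subgroupMap Γ
  set N := Subgroup.normalizer ((S : Subgroup Γ) : Set Γ) with hN
  have hkerN : ∀ z, σ z = 1 → z ∈ N := fun z hz => by
    rw [hN, Subgroup.mem_normalizer_iff]
    intro x
    rw [← sigma_ker_central hz x, mul_inv_cancel_right]
  have hpre : ∀ g, σ g ∈ N.map σ → g ∈ N := by
    rintro g ⟨n, hn, e⟩
    have : σ (n⁻¹ * g) = 1 := by rw [map_mul, map_inv, e, inv_mul_cancel]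
    simpa using mul_mem hn (hkerN _ this)
  have hin : ∀ g : Γ, g * g = 1 → g ∈ N → g ∈ (S : Subgroup Γ) := fun g h1 h2 => mem_of_sup S h1 h2
  let SH := S.mapSurjective (f := σ) sigma_surjective
  have hSH : (SH : Subgroup (Γ.map pr)) = (S : Subgroup Γ).map σ := Sylow.coe_mapSurjective _ _
  have hcommH : ∀ a ∈ (SH : Subgroup (Γ.map pr)), ∀ b ∈ (SH : Subgroup (Γ.map pr)), a * b = b * a := by
    rw [hSH]
    rintro _ ⟨a, ha, rfl⟩ _ ⟨b, hb, rfl⟩
    rw [← map_mul, hcomm a ha b hb, map_mul]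
  have hne : (SH : Subgroup (Γ.map pr)) ≠ ⊥ :=
    SH.ne_bot_of_dvd_card (even_iff_two_dvd.1 K.even_card)
  have hSE : Cfsg.IsStronglyEmbedded (N.map σ) := by
    refine ⟨fun htop => ?_, ?_, fun h hh => ?_⟩
    · have hn : ((S : Subgroup Γ).map σ).Normal := by
        refine ⟨fun x hx y => ?_⟩
        obtain ⟨a, ha, rfl⟩ := hx
        obtain ⟨b, rfl⟩ := sigma_surjective y
        have hb : b ∈ N := hpre b (htop ▸ Subgroup.mem_top _)
        refine ⟨b * a * b⁻¹, ?_, by rw [map_mul, map_mul, map_inv]⟩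
        exact (Subgroup.mem_normalizer_iff.1 hb a).1 ha
      rcases K.simple.eq_bot_or_eq_top_of_normal _ hn with h | h
      · exact hne (hSH.trans h)
      · obtain ⟨a, b, hab⟩ := K.exists_noncomm
        exact hab (hcommH a (by rw [hSH, h]; exact Subgroup.mem_top _) b (by rw [hSH, h]; exact Subgroup.mem_top _))
    · have hle : (SH : Subgroup (Γ.map pr)) ≤ N.map σ := hSH.trans_le (Subgroup.map_mono Subgroup.le_normalizer)
      refine even_iff_two_dvd.2 (dvd_trans ?_ (Subgroup.card_dvd_of_le hle))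
      obtain ⟨n, hn⟩ := IsPGroup.iff_card.1 SH.2
      rw [hn]
      exact dvd_pow_self 2 fun h0 => hne (Subgroup.card_eq_one.1 (by rw [hn, h0, pow_zero]))
    · obtain ⟨k, rfl⟩ := sigma_surjective h
      by_contra hev
      obtain ⟨x, hx⟩ := exists_prime_orderOf_dvd_card' 2 (even_iff_two_dvd.1 (Nat.not_odd_iff_even.1 hev))
      rw [← Subgroup.orderOf_coe] at hx
      obtain ⟨g, hg2, hg1, e⟩ := invol_lift hx
      obtain ⟨hx1, hx2⟩ := x.2
      have hgS : g ∈ (S : Subgroup Γ) := hin g hg2 (hpre g (by rw [e]; exact hx1))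
      obtain ⟨y, hy, ey⟩ := hx2
      have ey' : σ (k⁻¹ * g * k) = y := by
        rw [map_mul, map_mul, map_inv, e, ← ey]
        simp only [MulEquiv.coe_toMonoidHom, MulAut.conj_apply]
        show (σ k)⁻¹ * (σ k * y * (σ k)⁻¹) * σ k = y
        group
      have hg'S : k⁻¹ * g * k ∈ (S : Subgroup Γ) :=
        hin _ (by rw [show k⁻¹ * g * k * (k⁻¹ * g * k) = k⁻¹ * (g * g) * k by group, hg2, mul_one, inv_mul_cancel])
          (hpre _ (by rw [ey']; exact hy))
      have hk := htrans k _ hg'S (fun h1 => hg1 (by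
        have := congrArg (fun a => k * a * k⁻¹) h1
        simpa [mul_assoc] using this)) (by simpa [mul_assoc] using hgS)
      refine hh ⟨k, ?_, rfl⟩
      show k ∈ N
      rw [hN, Subgroup.mem_normalizer_iff]
      refine fun u => ⟨hk u, fun hu => ?_⟩
      let f : ↥(S : Subgroup Γ) → ↥(S : Subgroup Γ) := fun u => ⟨k * u * k⁻¹, hk u u.2⟩
      have hf : Function.Injective f := fun a b e => by
        have := Subtype.mk.inj e
        simpa using this
      obtain ⟨w, ew⟩ := Finite.injective_iff_surjective.1 hf ⟨_, hu⟩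
      have := Subtype.mk.inj ew
      simp at this
      exact this ▸ w.2
  rcases S0222.result K.exists_noncomm _ hSE with ⟨L, _, _, hL2, h4, ⟨e⟩⟩ | hSz | ⟨L, _, _, q, hq, hqe, hq4, ⟨e⟩⟩
  · exact K.not_psl2_field 2 h4 e
  · obtain ⟨m, hm, hcard⟩ := hSz.2
    have h3 : ¬ 3 ∣ Nat.card (Γ.map pr) := by
      have hq : 2 ^ (2 * m + 1) % 3 = 2 := by
        rw [pow_succ, pow_mul, Nat.mul_mod, Nat.pow_mod]
        norm_num
      set q := 2 ^ (2 * m + 1) with hqdef
      clear_value q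
      rw [hcard]
      intro h
      rcases (Nat.Prime.dvd_mul Nat.prime_three).1 h with h | h
      · rcases (Nat.Prime.dvd_mul Nat.prime_three).1 h with h | h
        · have := Nat.prime_three.dvd_of_dvd_pow h
          omega
        · rw [Nat.dvd_iff_mod_eq_zero, Nat.add_mod, Nat.pow_mod, hq] at h
          norm_num at h
      · omega
    have hiso := Invol.ThreeFree.isoSuzuki K.nonab h3
    obtain ⟨z, hz, hz2, hz1⟩ := Invol.ThreeFree.sz_exists_omega hiso SH
    have hc := (Invol.ThreeFree.sz_commutator hiso SH z).2 ⟨hz, hz2⟩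
    have hbot : ⁅(SH : Subgroup (Γ.map pr)), (SH : Subgroup (Γ.map pr))⁆ = ⊥ :=
      eq_bot_iff.2 (Subgroup.commutator_le.2 fun a ha b hb => by
        rw [Subgroup.mem_bot, commutatorElement_eq_one_iff_mul_comm]; exact hcommH a ha b hb)
    exact hz1 (by rwa [hbot, Subgroup.mem_bot] at hc)
  · obtain ⟨n, rfl⟩ : ∃ n, q = 2 ^ n := by
      obtain ⟨k, hk, hkc⟩ := FiniteField.card L (ringChar L)
      haveI : Fact (ringChar L).Prime := ⟨hk⟩
      have h2 : ringChar L = 2 := by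
        have : 2 ∣ ringChar L ^ (k : ℕ) := by
          rw [← hkc, hq]; exact dvd_pow (even_iff_two_dvd.1 hqe) two_ne_zero
        exact ((Nat.prime_dvd_prime_iff_eq Nat.prime_two hk).1 (Nat.prime_two.dvd_of_dvd_pow this)).symm
      rw [h2] at hkc
      obtain ⟨j, -, hj⟩ := (Nat.dvd_prime_pow Nat.prime_two).1 (show q ∣ 2 ^ (k : ℕ) by
        rw [← hkc, hq]; exact dvd_pow_self q two_ne_zero)
      exact ⟨j, hj⟩
    have hn : 2 ≤ n := (Nat.pow_le_pow_iff_right Nat.one_lt_two).1 (by simpa using hq4)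
    let T := SH.mapSurjective (f := e.toMonoidHom) e.surjective
    obtain ⟨hcT, hcZ, -⟩ := S1141.result hn hq T
    have htop : Subgroup.center (T : Subgroup (Cfsg.PSU 3 L (2 ^ n))) = ⊤ := by
      refine eq_top_iff.2 fun a _ => Subgroup.mem_center_iff.2 fun b => Subtype.ext ?_
      have hT : (T : Subgroup (Cfsg.PSU 3 L (2 ^ n))) = (SH : Subgroup (Γ.map pr)).map e.toMonoidHom :=
        Sylow.coe_mapSurjective _ _
      obtain ⟨a', ha', ea⟩ := Subgroup.mem_map.1 (hT.le a.2)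
      obtain ⟨b', hb', eb⟩ := Subgroup.mem_map.1 (hT.le b.2)
      rw [Subgroup.coe_mul, Subgroup.coe_mul, ← ea, ← eb, ← map_mul, hcommH b' hb' a' ha', map_mul]
    rw [htop, Subgroup.card_top, hcT] at hcZ
    have : (2 ^ n) ^ 1 < (2 ^ n) ^ 3 := Nat.pow_lt_pow_right (by omega) (by norm_num)
    rw [pow_one] at this
    omega

include K in
/-- The Sylow subgroup has more than one involution. -/
theorem not_unique_invol (S : Sylow 2 Γ)
    (h : ∀ g ∈ (S : Subgroup Γ), ∀ g' ∈ (S : Subgroup Γ), g * g = 1 → g' * g' = 1 → g ≠ 1 → g' ≠ 1 → g = g') :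
    False := by
  classical
  haveI : Fact (Nat.Prime 2) := ⟨Nat.prime_two⟩
  haveI := K.simple
  set σ := pr.subgroupMap Γ
  let SH := S.mapSurjective (f := σ) sigma_surjective
  have hSH : (SH : Subgroup (Γ.map pr)) = (S : Subgroup Γ).map σ := Sylow.coe_mapSurjective _ _
  have huniq : ∀ a b : (SH : Subgroup (Γ.map pr)), orderOf a = 2 → orderOf b = 2 → a = b := by
    have key : ∀ a : (SH : Subgroup (Γ.map pr)), orderOf a = 2 →
        ∃ g ∈ (S : Subgroup Γ), g * g = 1 ∧ g ≠ 1 ∧ σ g = a := by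
      intro a ha
      obtain ⟨g, hg, e⟩ := (hSH ▸ a.2 : (a : Γ.map pr) ∈ (S : Subgroup Γ).map σ)
      refine ⟨g, hg, ?_, fun h1 => ?_, e⟩
      · obtain ⟨j, hj⟩ := S.2 ⟨g, hg⟩
        refine sigma_eq_one (n := 2 ^ j) (z := g * g) ?_ (Nat.Coprime.pow_left j (by norm_num)) ?_
        · rw [map_mul, e, ← sq, ← Subgroup.coe_pow, orderOf_dvd_iff_pow_eq_one.1 (dvd_of_eq ha), Subgroup.coe_one]
        · have := congrArg Subtype.val hj
          rw [Subgroup.coe_pow, Subgroup.coe_one] at this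
          rw [← sq, ← pow_mul, mul_comm, pow_mul, this, one_pow]
      · rw [h1, map_one] at e
        rw [← Subgroup.orderOf_coe, ← e, orderOf_one] at ha
        norm_num at ha
    intro a b ha hb
    obtain ⟨g, hg, h2, h1, e⟩ := key a ha
    obtain ⟨g', hg', h2', h1', e'⟩ := key b hb
    exact Subtype.ext (by rw [← e, ← e', h g hg g' hg' h2 h2' h1 h1'])
  obtain ⟨a, b, hab⟩ := K.exists_noncomm
  rcases Grp.Ambivalent.cyclic_or_quaternion SH.2 huniq with hc | ⟨n, ⟨e⟩⟩
  · obtain ⟨M, hM⟩ := S0219.result K.even_card SH hc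
    haveI := Subgroup.normal_of_index_eq_two hM
    rcases K.simple.eq_bot_or_eq_top_of_normal M inferInstance with h | h
    · rw [h, Subgroup.index_bot] at hM
      haveI : Fact (Nat.card (Γ.map pr)).Prime := ⟨hM ▸ Nat.prime_two⟩
      haveI := isCyclic_of_prime_card (α := Γ.map pr) rfl
      exact K.nonab inferInstance
    · rw [h, Subgroup.index_top] at hM
      omega
  · have hO : ∀ N : Subgroup (Γ.map pr), N.Normal → Odd (Nat.card N) → N = ⊥ := fun N hN hodd => by
      rcases K.simple.eq_bot_or_eq_top_of_normal N hN with h | h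
      · exact h
      · rw [h, Subgroup.card_top] at hodd
        exact absurd K.even_card (Nat.not_even_iff_odd.2 hodd)
    have h2 := S0201.result SH n e hO
    rcases K.simple.eq_bot_or_eq_top_of_normal (Subgroup.center (Γ.map pr)) inferInstance with h | h
    · rw [h, Subgroup.card_bot] at h2; omega
    · exact hab (Subgroup.mem_center_iff.1 (h ▸ Subgroup.mem_top b) a)

include K in
/-- Sylow subgroups of order eight: the centralisers of involutions are two-groups. -/
theorem cit_small [CharP F 2] (hs : SmallRoots Γ) {v φ : V} (hv : v ≠ 0) (hφ : φ ≠ 0) (hi : φ ⬝ᵥ v = 0)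
    (S : Sylow 2 Γ) (hS : ∀ g : Γ, g ∈ (S : Subgroup Γ) ↔ (g : SL₃) ∈ flagU Γ v φ)
    (h8 : Nat.card (flagU Γ v φ) ≤ 8) {g₁ g₂ : SL₃} (m₁ : g₁ ∈ flagU Γ v φ) (m₂ : g₂ ∈ flagU Γ v φ)
    (q₁ : g₁ * g₁ = 1) (q₂ : g₂ * g₂ = 1) (hne : g₁ * g₂ ≠ g₂ * g₁) :
    Nat.card (S : Subgroup Γ) = 8 ∧ ∀ x : Γ.map pr, orderOf x = 2 → IsPGroup 2 (Subgroup.centralizer ({x} : Set (Γ.map pr))) := by
  classical
  haveI : Fact (Nat.Prime 2) := ⟨Nat.prime_two⟩
  set a₁ : Γ := ⟨g₁, m₁.1⟩
  set a₂ : Γ := ⟨g₂, m₂.1⟩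
  have ha₁ : a₁ ∈ (S : Subgroup Γ) := (hS a₁).2 m₁
  have ha₂ : a₂ ∈ (S : Subgroup Γ) := (hS a₂).2 m₂
  have hnc : a₁ * a₂ ≠ a₂ * a₁ := fun e => hne (congrArg Subtype.val e)
  have hcard : Nat.card (flagU Γ v φ) = Nat.card (S : Subgroup Γ) :=
    Nat.card_congr { toFun := fun g => ⟨⟨g, g.2.1⟩, (hS _).2 g.2⟩, invFun := fun g => ⟨(g : Γ), (hS _).1 g.2⟩,
                     left_inv := fun _ => rfl, right_inv := fun _ => rfl }
  have hS8 : Nat.card (S : Subgroup Γ) = 8 := by
    obtain ⟨n, hn⟩ := IsPGroup.iff_card.1 S.2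
    have hn3 : n ≤ 3 := (Nat.pow_le_pow_iff_right Nat.one_lt_two).1 (by rw [← hn, ← hcard]; exact h8)
    have hn2 : 2 < n := by
      by_contra hle
      refine hnc (congrArg Subtype.val (mul_comm' (⟨a₁, ha₁⟩ : (S : Subgroup Γ)) ⟨a₂, ha₂⟩ n hn (by omega)))
    rw [hn, show n = 3 by omega]; rfl
  refine ⟨hS8, fun x hx y => ⟨2, ?_⟩⟩
  obtain ⟨g, hg2, hg1, eg⟩ := invol_lift hx
  obtain ⟨k, ek⟩ := sigma_surjective (y : Γ.map pr)
  have hkg : k * g = g * k := invol_commute hg2 (by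
    rw [eg, ek]; exact (Subgroup.mem_centralizer_singleton_iff.1 y.2))
  have hg1' : (g : SL₃) ≠ 1 := fun e => hg1 (Subtype.ext e)
  obtain ⟨w, χ, hw, hχ, hwχ, et⟩ := invol_transvection (g := (g : SL₃)) (congrArg Subtype.val hg2) hg1'
  -- the flag group of the transvection lies in a conjugate of the Sylow subgroup
  let Y : Subgroup Γ := (flagU Γ w χ).subgroupOf Γ
  have hY : IsPGroup 2 Y := (flagU_isPGroup hw hχ hwχ).comap_of_injective _ Γ.subtype_injective
  have hcY : Nat.card Y = Nat.card (flagU Γ w χ) :=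
    Nat.card_congr (Subgroup.subgroupOfEquivOfLe (H := flagU Γ w χ) (K := Γ) (fun x (h : x ∈ flagU Γ w χ) => h.1)).toEquiv
  obtain ⟨P, hP⟩ := hY.exists_le_sylow
  obtain ⟨c, rfl⟩ := MulAction.exists_smul_eq Γ S P
  have hmem : ∀ u ∈ (S : Subgroup Γ), c * u * c⁻¹ ∈ ((c • S : Sylow 2 Γ) : Subgroup Γ) := fun u hu => by
    rw [Sylow.coe_subgroup_smul]
    exact Subgroup.smul_mem_pointwise_smul u (MulAut.conj c) _ hu
  have hP8 : Nat.card ((c • S : Sylow 2 Γ) : Subgroup Γ) = 8 := (S.card_eq_multiplicity.trans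
    (c • S).card_eq_multiplicity.symm).symm.trans hS8
  have hgY : g ∈ Y := Subgroup.mem_subgroupOf.2 ⟨g.2, by
    rw [et, add_mulVec, one_mulVec, vecMulVec_mulVec, hwχ]; simp, by
    rw [et, vecMul_add, vecMul_one, vecMul_vecMulVec, hwχ]; simp⟩
  have hgood : Nat.card (flagU Γ w χ) ≤ 4 ∨ ∃ s₁ ∈ flagU Γ w χ, ∃ s₂ ∈ flagU Γ w χ,
      s₁ * s₁ = 1 ∧ s₂ * s₂ = 1 ∧ s₁ * s₂ ≠ s₂ * s₁ := by
    by_cases h4 : Nat.card (flagU Γ w χ) ≤ 4
    · exact Or.inl h4
    · right
      obtain ⟨n, hn⟩ := IsPGroup.iff_card.1 hY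
      have h1 : n ≤ 3 := (Nat.pow_le_pow_iff_right Nat.one_lt_two).1 (by
        rw [← hn]; exact (Nat.le_of_dvd (by omega) (Subgroup.card_dvd_of_le hP)).trans_eq hP8)
      have h2 : n = 3 := by
        interval_cases n <;> omega
      have hYeq := Subgroup.eq_of_le_of_card_ge hP (by rw [hn, hP8, h2]; rfl)
      have hin : ∀ u ∈ (S : Subgroup Γ), ((c * u * c⁻¹ : Γ) : SL₃) ∈ flagU Γ w χ := fun u hu =>
        Subgroup.mem_subgroupOf.1 (show c * u * c⁻¹ ∈ Y from hYeq ▸ hmem u hu)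
      refine ⟨_, hin a₁ ha₁, _, hin a₂ ha₂, ?_, ?_, fun e => hnc ?_⟩
      · rw [← Subgroup.coe_mul, ← MulAut.conj_apply, ← map_mul, show a₁ * a₁ = 1 from Subtype.ext q₁, map_one]; rfl
      · rw [← Subgroup.coe_mul, ← MulAut.conj_apply, ← map_mul, show a₂ * a₂ = 1 from Subtype.ext q₂, map_one]; rfl
      · rw [← Subgroup.coe_mul, ← Subgroup.coe_mul, ← MulAut.conj_apply, ← MulAut.conj_apply, ← map_mul, ← map_mul]
          at e
        exact (MulAut.conj c).injective (Subtype.ext e)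
  -- a second element of the flag group
  obtain ⟨u, hu, hu1, hug⟩ : ∃ u : Γ, u ∈ Y ∧ u ≠ 1 ∧ u ≠ g := by
    set P : Subgroup Γ := ((c • S : Sylow 2 Γ) : Subgroup Γ) with hPdef
    have hgP : g ∈ P := hP hgY
    have hinY : ∀ u ∈ P, u * g = g * u → u ∈ Y := fun u hu huc => by
      refine Subgroup.mem_subgroupOf.2 ?_
      obtain ⟨j, hj⟩ := (c • S).2 ⟨u, hu⟩
      exact mem_flag_of_commute hw hχ u.2 et (congrArg Subtype.val huc) (j := j)
        (congrArg (fun a : P => ((a : Γ) : SL₃)) hj)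
    haveI : Nontrivial P := Finite.one_lt_card_iff_nontrivial.1 (by rw [hP8]; norm_num)
    haveI := (c • S).2.center_nontrivial
    obtain ⟨z, hz⟩ := exists_ne (1 : Subgroup.center P)
    have hzg : ((z : P) : Γ) * g = g * ((z : P) : Γ) :=
      (congrArg Subtype.val (Subgroup.mem_center_iff.1 z.2 ⟨g, hgP⟩)).symm
    by_cases hzz : ((z : P) : Γ) = g
    · haveI := Fintype.ofFinite P
      obtain ⟨u, -, hu⟩ := Finset.exists_mem_notMem_of_card_lt_card (s := ({1, ⟨g, hgP⟩} : Finset P))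
        (t := Finset.univ) (by
          rw [Finset.card_univ, ← Nat.card_eq_fintype_card, hP8]
          exact lt_of_le_of_lt Finset.card_le_two (by norm_num))
      simp only [Finset.mem_insert, Finset.mem_singleton, not_or] at hu
      refine ⟨u, hinY u u.2 ?_, fun e => hu.1 (Subtype.ext e), fun e => hu.2 (Subtype.ext e)⟩
      have h := congrArg Subtype.val (Subgroup.mem_center_iff.1 z.2 u)
      simp only [Subgroup.coe_mul, hzz] at h
      exact h
    · exact ⟨_, hinY _ (z : P).2 hzg, fun e => hz (Subtype.ext (Subtype.ext e)), hzz⟩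
  have h4 := centraliser_two hs k.2 hw hχ hwχ g.2 et (congrArg Subtype.val hkg) (Subgroup.mem_subgroupOf.1 hu)
    (fun e => hu1 (Subtype.ext e)) (fun e => hug (Subtype.ext e)) hgood
  refine Subtype.ext (Subtype.ext ?_)
  rw [Subgroup.coe_pow, Subgroup.coe_pow, ← ek]
  exact h4

include K in
/-- The group of order 168 or 360 when the Sylow subgroups have order eight. -/
theorem small_eight [CharP F 2] (hS : ∀ S : Sylow 2 (Γ.map pr), Nat.card (S : Subgroup (Γ.map pr)) = 8)
    (hCIT : ∀ x : Γ.map pr, orderOf x = 2 → IsPGroup 2 (Subgroup.centralizer ({x} : Set (Γ.map pr)))) :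
    IsSevenCase Γ 2 ∨ IsSixCase Γ 2 := by
  classical
  haveI : Fact (Nat.Prime 2) := ⟨Nat.prime_two⟩
  haveI := K.simple
  obtain ⟨S⟩ : Nonempty (Sylow 2 (Γ.map pr)) := inferInstance
  have h8 : 8 ∣ Nat.card (Γ.map pr) := hS S ▸ Subgroup.card_subgroup_dvd_card _
  have h16 : ¬ 16 ∣ Nat.card (Γ.map pr) := fun h => by
    obtain ⟨k, hk⟩ := h
    have := S.not_dvd_index
    have hmul := Subgroup.card_mul_index (S : Subgroup (Γ.map pr))
    rw [hS S, hk] at hmul
    omega
  rcases S0348.result K.exists_noncomm hCIT with ⟨L, _, _, hL, ⟨e⟩⟩ | ⟨L, _, _, hL, ⟨e⟩⟩ | hSz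
  · rcases hL with h9 | ⟨n, hn⟩ | ⟨hp, k, hk⟩
    · right
      obtain ⟨e6⟩ := S0254.result h9
      obtain ⟨α, -, hα⟩ := FiniteField.card F 2
      refine K.six_case 2 α (by norm_num) hα (fun h1 => ?_) (e.trans e6)
      exfalso
      rw [h1, pow_one] at hα
      have hc2 : Nat.card SL₃ = 168 := by
        let f : F ≃+* ZMod 2 := FiniteField.ringEquivOfCardEq (by rw [hα, ZMod.card])
        obtain ⟨g⟩ : Nonempty (SL₃ ≃* Fus.HeUniq.SL3) := ⟨MonoidHom.toMulEquiv
          (Matrix.SpecialLinearGroup.map (f : F →+* ZMod 2)) (Matrix.SpecialLinearGroup.map (f.symm : ZMod 2 →+* F))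
          (MonoidHom.ext fun x => by ext i j; exact f.symm_apply_apply _)
          (MonoidHom.ext fun x => by ext i j; exact f.apply_symm_apply _)⟩
        rw [Nat.card_congr g.toEquiv, Fus.HeUniq.card_sl3]
      have hdvd : Nat.card (Γ.map pr) ∣ 168 :=
        ((Subgroup.card_map_dvd Γ pr).trans (Subgroup.card_subgroup_dvd_card Γ)).trans (dvd_of_eq hc2)
      rw [Nat.card_congr (e.trans e6).toEquiv, nat_card_alternatingGroup, Nat.card_eq_fintype_card,
        Fintype.card_fin] at hdvd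
      norm_num [Nat.factorial] at hdvd
    · exfalso
      have h2 : CharP L 2 := charP_of_card_two_pow hn
      rcases Nat.lt_or_ge (Fintype.card L) 4 with h4 | h4
      · have := Fintype.one_lt_card (α := L)
        have hn1 : n = 1 := by
          rcases n with - | - | n
          · simp at hn; omega
          · rfl
          · have : 2 ^ 2 ≤ 2 ^ (n + 1 + 1) := Nat.pow_le_pow_right (by norm_num) (by omega)
            omega
        have hd : Cfsg.Agent.Dickson.del L = 1 := by simp [Cfsg.Agent.Dickson.del, hn, hn1]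
        have hc := Cfsg.Agent.Dickson.card_psl (F := L)
        rw [hd, hn, hn1, ← Nat.card_congr e.toEquiv] at hc
        omega
      · exact K.not_psl2_field 2 h4 e
    · by_cases h7 : Fintype.card L = 7
      · exact Or.inl (K.seven_case 2 (by norm_num) h7 e)
      exfalso
      by_cases h5 : Fintype.card L = 5
      · exact K.not_psl2_five 2 h5 e
      have hc := Cfsg.Agent.Dickson.card_psl (F := L)
      rw [← Nat.card_congr e.toEquiv] at hc
      rcases hp.eq_two_or_odd with hq2 | hodd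
      · have hd : Cfsg.Agent.Dickson.del L = 1 := by simp [Cfsg.Agent.Dickson.del, hq2]
        rw [hd, hq2] at hc
        omega
      have hd : Cfsg.Agent.Dickson.del L = 2 := Nat.gcd_eq_left (by omega)
      rw [hd] at hc
      have hne9 : Fintype.card L ≠ 9 := fun h => by rw [h] at hp; norm_num at hp
      have hk4 : 4 ≤ k := by
        by_contra hlt
        have := hp.two_le
        interval_cases k <;> norm_num at hk <;> (try omega)
        all_goals
          have h3 : Fintype.card L = 3 := by omega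
          rw [h3] at hc
          omega
      have hdvd : 2 ^ 5 ∣ (Fintype.card L - 1) * (Fintype.card L + 1) := by
        have h2k : 2 ^ 4 ∣ 2 ^ k := pow_dvd_pow 2 hk4
        rw [show (2 : ℕ) ^ 5 = 2 ^ 4 * 2 from rfl]
        rcases hk with hk | hk
        · exact Nat.mul_dvd_mul (by rw [hk, Nat.add_sub_cancel]; exact h2k) (by omega)
        · rw [mul_comm (Fintype.card L - 1)]
          exact Nat.mul_dvd_mul (by rw [hk]; exact h2k) (by omega)
      obtain ⟨r, hr⟩ := Dvd.dvd.mul_left hdvd (Fintype.card L)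
      refine h16 ⟨r, ?_⟩
      rw [hr] at hc
      omega
  · exfalso
    haveI : Finite (Matrix.ProjectiveSpecialLinearGroup (Fin 3) L) := inferInstance
    rw [Nat.card_congr e.toEquiv, Spor.M21.natCard_psl hL] at h16
    exact h16 (by norm_num)
  · exfalso
    obtain ⟨m, hm, hcard⟩ := hSz.2
    refine h16 (hcard ▸ Dvd.dvd.mul_right (Dvd.dvd.mul_right ?_ _) _)
    rw [← pow_mul]
    exact dvd_trans (by norm_num : 16 ∣ 2 ^ 6) (pow_dvd_pow 2 (by omega))

include K in
/-- Small root groups in characteristic two: the exceptional groups. -/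
theorem even_small [CharP F 2] (hs : SmallRoots Γ) : IsSevenCase Γ 2 ∨ IsSixCase Γ 2 := by
  classical
  haveI : Fact (Nat.Prime 2) := ⟨Nat.prime_two⟩
  obtain ⟨v, φ, S, hv, hφ, hi, hS⟩ := exists_sylow_flag (Γ := Γ)
  rcases flag_shape hs hv hφ hi with hA | hB | hC | ⟨h8, g₁, m₁, g₂, m₂, q₁, q₂, hne⟩
  · exfalso
    have hA' : ∀ g ∈ (S : Subgroup Γ), ∃ ψ : V, ψ ⬝ᵥ v = 0 ∧ ((g : SL₃) : M₃) = 1 + vecMulVec v ψ :=
      fun g hg => hA _ ((hS g).1 hg)
    refine K.not_elementary S (fun g hg => ?_) (fun g hg h hh => ?_) fun k g hg hg1 hk u hu => ?_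
    · obtain ⟨ψ, hψ, e⟩ := hA' g hg
      refine Subtype.ext (Subtype.ext ?_)
      rw [Subgroup.coe_mul, Matrix.SpecialLinearGroup.coe_mul, e, one_add_mul hψ, char_two_add]
      simp
    · obtain ⟨ψ, hψ, e⟩ := hA' g hg
      obtain ⟨ψ', hψ', e'⟩ := hA' h hh
      refine Subtype.ext (Subtype.ext ?_)
      rw [Subgroup.coe_mul, Subgroup.coe_mul, Matrix.SpecialLinearGroup.coe_mul, Matrix.SpecialLinearGroup.coe_mul,
        e, e', one_add_mul hψ, one_add_mul hψ', add_comm (vecMulVec v ψ)]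
    · obtain ⟨ψ, hψ, e⟩ := hA' g hg
      obtain ⟨ψ', hψ', e'⟩ := hA' _ hk
      rw [Subgroup.coe_mul, Subgroup.coe_mul, Subgroup.coe_inv, conj_one_add _ _ e, add_left_cancel_iff] at e'
      have hψk : ψ ᵥ* (((k : SL₃)⁻¹ : SL₃) : M₃) ≠ 0 := fun h0 => hg1 (Subtype.ext (Subtype.ext (by
        have : ψ = 0 := by
          have := congrArg (· ᵥ* ((k : SL₃) : M₃)) h0
          simpa only [vecMul_vecMul, ← Matrix.SpecialLinearGroup.coe_mul, inv_mul_cancel, zero_vecMul, vecMul_one,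
            Matrix.SpecialLinearGroup.coe_one] using this
        rw [e, this, vecMulVec_zero, add_zero]; rfl)))
      obtain ⟨j, hj⟩ := Function.ne_iff.1 hψk
      have hkv : ((k : SL₃) : M₃) *ᵥ v = (ψ' j / (ψ ᵥ* (((k : SL₃)⁻¹ : SL₃) : M₃)) j) • v := by
        funext i
        have := congrFun (congrFun e' i) j
        simp only [vecMulVec_apply] at this
        rw [Pi.smul_apply, smul_eq_mul, div_mul_eq_mul_div, eq_div_iff hj]
        linear_combination this
      obtain ⟨χ, hχ, eu⟩ := hA' u hu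
      set b := ψ' j / (ψ ᵥ* (((k : SL₃)⁻¹ : SL₃) : M₃)) j with hb
      have hdot : (χ ᵥ* (((k : SL₃)⁻¹ : SL₃) : M₃)) ⬝ᵥ (((k : SL₃) : M₃) *ᵥ v) = 0 := by
        rw [← dotProduct_mulVec, mulVec_mulVec, ← Matrix.SpecialLinearGroup.coe_mul, inv_mul_cancel,
          Matrix.SpecialLinearGroup.coe_one, one_mulVec, hχ]
      have heu : ((k * u * k⁻¹ : Γ) : SL₃).1 = 1 + vecMulVec v (b • (χ ᵥ* (((k : SL₃)⁻¹ : SL₃) : M₃))) := by
        rw [Subgroup.coe_mul, Subgroup.coe_mul, Subgroup.coe_inv, conj_one_add _ _ eu, hkv, smul_vecMulVec,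
          vecMulVec_smul]
      rw [hkv, dotProduct_smul, ← smul_dotProduct] at hdot
      refine mem_of_sup S ?_ (Subgroup.centralizer_le_normalizer _ (Subgroup.mem_centralizer_iff.2 fun r hr => ?_))
      · refine Subtype.ext (Subtype.ext ?_)
        rw [Subgroup.coe_mul, Matrix.SpecialLinearGroup.coe_mul, heu, one_add_mul hdot, char_two_add]
        simp
      · obtain ⟨ρ, hρ, er⟩ := hA' r hr
        refine Subtype.ext (Subtype.ext ?_)
        show ((r : SL₃) : M₃) * ((k * u * k⁻¹ : Γ) : SL₃).1 = ((k * u * k⁻¹ : Γ) : SL₃).1 * ((r : SL₃) : M₃)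
        rw [ heu, er, one_add_mul hρ, one_add_mul hdot, add_comm (vecMulVec v ρ)]
  · exfalso
    have hB' : ∀ g ∈ (S : Subgroup Γ), ∃ w : V, φ ⬝ᵥ w = 0 ∧ ((g : SL₃) : M₃) = 1 + vecMulVec w φ :=
      fun g hg => hB _ ((hS g).1 hg)
    refine K.not_elementary S (fun g hg => ?_) (fun g hg h hh => ?_) fun k g hg hg1 hk u hu => ?_
    · obtain ⟨ψ, hψ, e⟩ := hB' g hg
      refine Subtype.ext (Subtype.ext ?_)
      rw [Subgroup.coe_mul, Matrix.SpecialLinearGroup.coe_mul, e, one_add_mul hψ, char_two_add]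
      simp
    · obtain ⟨ψ, hψ, e⟩ := hB' g hg
      obtain ⟨ψ', hψ', e'⟩ := hB' h hh
      refine Subtype.ext (Subtype.ext ?_)
      rw [Subgroup.coe_mul, Subgroup.coe_mul, Matrix.SpecialLinearGroup.coe_mul, Matrix.SpecialLinearGroup.coe_mul,
        e, e', one_add_mul hψ', one_add_mul hψ, add_comm (vecMulVec ψ φ)]
    · obtain ⟨w, hw, e⟩ := hB' g hg
      obtain ⟨w', hw', e'⟩ := hB' _ hk
      rw [Subgroup.coe_mul, Subgroup.coe_mul, Subgroup.coe_inv, conj_one_add _ _ e, add_left_cancel_iff] at e'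
      have hwk : ((k : SL₃) : M₃) *ᵥ w ≠ 0 := fun h0 => hg1 (Subtype.ext (Subtype.ext (by
        have : w = 0 := by
          have := congrArg (((k : SL₃)⁻¹ : SL₃).1 *ᵥ ·) h0
          simpa only [mulVec_mulVec, ← Matrix.SpecialLinearGroup.coe_mul, inv_mul_cancel, mulVec_zero, one_mulVec,
            Matrix.SpecialLinearGroup.coe_one] using this
        rw [e, this, zero_vecMulVec, add_zero]; rfl)))
      obtain ⟨i, hi'⟩ := Function.ne_iff.1 hwk
      have hφk : φ ᵥ* (((k : SL₃)⁻¹ : SL₃) : M₃) = (w' i / (((k : SL₃) : M₃) *ᵥ w) i) • φ := by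
        funext j
        have := congrFun (congrFun e' i) j
        simp only [vecMulVec_apply] at this
        rw [Pi.smul_apply, smul_eq_mul, div_mul_eq_mul_div, eq_div_iff hi']
        linear_combination this
      obtain ⟨χ, hχ, eu⟩ := hB' u hu
      set b := w' i / (((k : SL₃) : M₃) *ᵥ w) i with hb
      have hdot : (φ ᵥ* (((k : SL₃)⁻¹ : SL₃) : M₃)) ⬝ᵥ (((k : SL₃) : M₃) *ᵥ χ) = 0 := by
        rw [← dotProduct_mulVec, mulVec_mulVec, ← Matrix.SpecialLinearGroup.coe_mul, inv_mul_cancel,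
          Matrix.SpecialLinearGroup.coe_one, one_mulVec, hχ]
      rw [hφk, smul_dotProduct, ← dotProduct_smul] at hdot
      have heu : ((k * u * k⁻¹ : Γ) : SL₃).1 = 1 + vecMulVec (b • (((k : SL₃) : M₃) *ᵥ χ)) φ := by
        rw [Subgroup.coe_mul, Subgroup.coe_mul, Subgroup.coe_inv, conj_one_add _ _ eu, hφk, smul_vecMulVec,
          vecMulVec_smul]
      refine mem_of_sup S ?_ (Subgroup.centralizer_le_normalizer _ (Subgroup.mem_centralizer_iff.2 fun r hr => ?_))
      · refine Subtype.ext (Subtype.ext ?_)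
        rw [Subgroup.coe_mul, Matrix.SpecialLinearGroup.coe_mul, heu, one_add_mul hdot, char_two_add]
        simp
      · obtain ⟨ρ, hρ, er⟩ := hB' r hr
        refine Subtype.ext (Subtype.ext ?_)
        show ((r : SL₃) : M₃) * ((k * u * k⁻¹ : Γ) : SL₃).1 = ((k * u * k⁻¹ : Γ) : SL₃).1 * ((r : SL₃) : M₃)
        rw [ heu, er, one_add_mul hdot, one_add_mul hρ, add_comm (vecMulVec ρ φ)]
  · exact (K.not_unique_invol S fun g hg g' hg' h h' h1 h1' => Subtype.ext (hC _ ((hS g).1 hg) _ ((hS g').1 hg')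
      (congrArg Subtype.val h) (congrArg Subtype.val h') (fun e => h1 (Subtype.ext e)) (fun e => h1' (Subtype.ext e)))).elim
  · obtain ⟨hS8, hCIT⟩ := K.cit_small hs hv hφ hi S hS h8 m₁ m₂ q₁ q₂ hne
    refine K.small_eight (fun T => ?_) hCIT
    let SH := S.mapSurjective (f := pr.subgroupMap Γ) sigma_surjective
    rw [T.card_eq_multiplicity, ← SH.card_eq_multiplicity, ← hS8, Sylow.coe_mapSurjective]
    refine (Nat.card_congr (Equiv.ofBijective (fun x : (S : Subgroup Γ) =>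
      (⟨pr.subgroupMap Γ x, Subgroup.mem_map_of_mem _ x.2⟩ : (S : Subgroup Γ).map (pr.subgroupMap Γ)))
      ⟨fun x y e => ?_, fun y => ?_⟩)).symm
    · obtain ⟨j, hj⟩ := S.2 (x⁻¹ * y)
      have he : pr.subgroupMap Γ ((x⁻¹ * y : (S : Subgroup Γ)) : Γ) = 1 := by
        rw [Subgroup.coe_mul, Subgroup.coe_inv, map_mul, map_inv, show pr.subgroupMap Γ (x : Γ) =
          pr.subgroupMap Γ (y : Γ) from congrArg Subtype.val e, inv_mul_cancel]
      have h1 := sigma_eq_one (n := 2 ^ j) he (Nat.Coprime.pow_left j (by norm_num)) (by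
        rw [← Subgroup.coe_pow, hj]; rfl)
      exact inv_mul_eq_one.1 (Subtype.ext h1)
    · obtain ⟨x, hx, e⟩ := y.2
      exact ⟨⟨x, hx⟩, Subtype.ext e⟩

include K in
/-- The classification of the residual groups. -/
theorem core_even [CharP F 2] : IsWhole Γ ∨ IsSevenCase Γ 2 ∨ IsSixCase Γ 2 := by
  by_cases h : ∃ v φ : V, v ≠ 0 ∧ φ ≠ 0 ∧ 3 ≤ (lam Γ v φ).ncard
  · exact Or.inl (K.even_big h)
  · refine Or.inr (K.even_small ?_)
    intro v φ hv hφ c d hc hd hc0 hd0
    by_contra hcd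
    refine h ⟨v, φ, hv, hφ, ?_⟩
    rw [show (3 : ℕ) = ({0, c, d} : Set F).ncard by
      rw [Set.ncard_insert_of_notMem (by simp [Ne.symm hc0, Ne.symm hd0]), Set.ncard_pair hcd]]
    refine Set.ncard_le_ncard ?_ (Set.toFinite _)
    rintro x (rfl | rfl | rfl)
    · exact ⟨by simp, 1, one_mem Γ, by simp⟩
    · exact hc
    · exact hd

end Core

end Cfsg.Agent.Classical.Residual
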