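import Cfsg.Agent.Lib.Classical.Residual.EvenFrame

/-!
Two-groups of matrices in characteristic two when all root groups are small.
-/

set_option autoImplicit false

namespace Cfsg.Agent.Classical.Residual

open Matrix
open Cfsg.Agent.Classical.Bloom
open Cfsg.Agent.Fus

variable {F : Type*} [Field F]

local notation "V" => (Fin 3 → F)
local notation "SL₃" => Matrix.SpecialLinearGroup (Fin 3) F
local notation "M₃" => Matrix (Fin 3) (Fin 3) F

/-- All root groups have at most two elements. -/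
def SmallRoots (Γ : Subgroup (Matrix.SpecialLinearGroup (Fin 3) F)) : Prop :=
  ∀ v φ : Fin 3 → F, v ≠ 0 → φ ≠ 0 → ∀ c d : F, Bloom.InT Γ v (c • φ) → Bloom.InT Γ v (d • φ) → c ≠ 0 → d ≠ 0 → c = d

/-- The elements fixing a vector and a functional. -/
def flagU (Γ : Subgroup (Matrix.SpecialLinearGroup (Fin 3) F)) (v φ : Fin 3 → F) :
    Subgroup (Matrix.SpecialLinearGroup (Fin 3) F) where
  carrier := {g | g ∈ Γ ∧ (g : Matrix (Fin 3) (Fin 3) F) *ᵥ v = v ∧ φ ᵥ* (g : Matrix (Fin 3) (Fin 3) F) = φ}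
  one_mem' := ⟨one_mem Γ, by simp, by simp⟩
  mul_mem' := by
    rintro a b ⟨ha, ha1, ha2⟩ ⟨hb, hb1, hb2⟩
    exact ⟨mul_mem ha hb, by rw [Matrix.SpecialLinearGroup.coe_mul, ← mulVec_mulVec, hb1, ha1],
      by rw [Matrix.SpecialLinearGroup.coe_mul, ← vecMul_vecMul, ha2, hb2]⟩
  inv_mem' := by
    rintro a ⟨ha, ha1, ha2⟩
    refine ⟨inv_mem ha, ?_, ?_⟩
    · conv_lhs => rw [← ha1]
      rw [mulVec_mulVec, ← Matrix.SpecialLinearGroup.coe_mul, inv_mul_cancel, Matrix.SpecialLinearGroup.coe_one,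
        one_mulVec]
    · conv_lhs => rw [← ha2]
      rw [vecMul_vecMul, ← Matrix.SpecialLinearGroup.coe_mul, mul_inv_cancel, Matrix.SpecialLinearGroup.coe_one,
        vecMul_one]

/-- The unitriangular matrices. -/
def uni (x y z : F) : Matrix (Fin 3) (Fin 3) F := !![1, x, z; 0, 1, y; 0, 0, 1]

theorem uni_mul (x y z x' y' z' : F) : uni x y z * uni x' y' z' = uni (x + x') (y + y') (z + z' + x * y') := by
  ext i j; fin_cases i <;> fin_cases j <;> simp [uni, Matrix.mul_apply, Fin.sum_univ_three] <;> ring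

theorem uni_zero : uni (0 : F) 0 0 = 1 := by
  ext i j; fin_cases i <;> fin_cases j <;> simp [uni]

theorem uni_inj {x y z x' y' z' : F} (h : uni x y z = uni x' y' z') : x = x' ∧ y = y' ∧ z = z' := by
  refine ⟨?_, ?_, ?_⟩
  · simpa [uni] using congrFun (congrFun h 0) 1
  · simpa [uni] using congrFun (congrFun h 1) 2
  · simpa [uni] using congrFun (congrFun h 0) 2

theorem exists_coords_flag {v φ : V} (hv : v ≠ 0) (hφ : φ ≠ 0) (hi : φ ⬝ᵥ v = 0) :
    ∃ P : GL (Fin 3) F, (P : M₃) *ᵥ v = ![1, 0, 0] ∧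
      ∃ a : F, a ≠ 0 ∧ φ ᵥ* ((P⁻¹ : GL (Fin 3) F) : M₃) = a • ![0, 0, 1] := by
  obtain ⟨i, j, hij, hvi, hφj⟩ : ∃ i j, i ≠ j ∧ v i ≠ 0 ∧ φ j ≠ 0 := by
    obtain ⟨i, hvi⟩ := Function.ne_iff.1 hv
    obtain ⟨j, hφj⟩ := Function.ne_iff.1 hφ
    by_contra! h
    have hij : i = j := by_contra fun hne => hφj (h i j hne hvi)
    subst hij
    rw [dotProduct, Finset.sum_eq_single i (fun l _ hl => by
      rw [h i l (Ne.symm hl) hvi, zero_mul]) (fun h' => absurd (Finset.mem_univ i) h')] at hi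
    exact mul_ne_zero hφj hvi hi
  obtain ⟨P, h1, -, h2, -⟩ := exists_coords_eq (w := Pi.single j 1) (ψ := Pi.single i 1) hi
    (by rw [single_dotProduct, one_mul, Pi.single_eq_of_ne hij]) (by simpa using hφj) (by simpa using hvi)
  let W : GL (Fin 3) F := Matrix.GeneralLinearGroup.mkOfDetNeZero !![1, 0, 0; 0, 0, 1; 0, 1, 0]
    (by simp [det_fin_three])
  have hW : (W : M₃) = !![1, 0, 0; 0, 0, 1; 0, 1, 0] := rfl
  have hW' : ((W⁻¹ : GL (Fin 3) F) : M₃) = !![1, 0, 0; 0, 0, 1; 0, 1, 0] := by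
    rw [Matrix.coe_units_inv]
    refine Matrix.inv_eq_right_inv ?_
    rw [hW]
    ext i j; fin_cases i <;> fin_cases j <;> simp [Matrix.mul_apply, Fin.sum_univ_three]
  refine ⟨W * P, ?_, (φ ⬝ᵥ Pi.single j 1) * (Pi.single i 1 ⬝ᵥ v), mul_ne_zero (by simpa using hφj) (by simpa using hvi),
    ?_⟩
  · rw [Units.val_mul, ← mulVec_mulVec, h1, hW]
    funext l; fin_cases l <;> simp [Matrix.mulVec, dotProduct, Fin.sum_univ_three]
  · rw [_root_.mul_inv_rev, Units.val_mul, ← vecMul_vecMul, h2, smul_vecMul, hW']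
    congr 1
    funext l; fin_cases l <;> simp [Matrix.vecMul, dotProduct, Fin.sum_univ_three]

theorem mem_flagU_move {Γ : Subgroup SL₃} {v φ : V} {P : GL (Fin 3) F} (g : SL₃) {a : F} (ha : a ≠ 0)
    (hv : (P : M₃) *ᵥ v = ![1, 0, 0]) (hφ : φ ᵥ* ((P⁻¹ : GL (Fin 3) F) : M₃) = a • ![0, 0, 1]) :
    g ∈ flagU Γ v φ ↔ conjGL P g ∈ flagU (moveGL P Γ) ![1, 0, 0] ![0, 0, 1] := by
  have hiv : ((P⁻¹ : GL (Fin 3) F) : M₃) * (P : M₃) = 1 := by rw [← Units.val_mul, inv_mul_cancel, Units.val_one]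
  have hvi : (P : M₃) * ((P⁻¹ : GL (Fin 3) F) : M₃) = 1 := by rw [← Units.val_mul, mul_inv_cancel, Units.val_one]
  have e1 : (conjGL P g : M₃) *ᵥ ![1, 0, 0] = (P : M₃) *ᵥ ((g : M₃) *ᵥ v) := by
    rw [conjGL_coe, ← hv, mulVec_mulVec, mulVec_mulVec, mul_assoc, hiv, mul_one]
  have e2 : (a • ![0, 0, 1]) ᵥ* (conjGL P g : M₃) = (φ ᵥ* (g : M₃)) ᵥ* ((P⁻¹ : GL (Fin 3) F) : M₃) := by
    rw [conjGL_coe, ← hφ, vecMul_vecMul, vecMul_vecMul, ← mul_assoc, ← mul_assoc, hiv, one_mul]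
  constructor
  · rintro ⟨hg, h1, h2⟩
    refine ⟨mem_moveGL.2 ⟨g, hg, rfl⟩, by rw [e1, h1, hv], ?_⟩
    have h := e2
    rw [h2, hφ, smul_vecMul] at h
    exact smul_right_injective V ha h
  · rintro ⟨hg, h1, h2⟩
    obtain ⟨g', hg', e⟩ := mem_moveGL.1 hg
    rw [(conjGL P).injective e] at hg'
    refine ⟨hg', ?_, ?_⟩
    · rw [e1, ← hv] at h1
      have := congrArg (((P⁻¹ : GL (Fin 3) F) : M₃) *ᵥ ·) h1
      simpa only [mulVec_mulVec, ← mul_assoc, hiv, one_mul, one_mulVec] using this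
    · rw [smul_vecMul, h2, ← hφ] at e2
      have := congrArg (· ᵥ* (P : M₃)) e2.symm
      simpa only [vecMul_vecMul, mul_assoc, hiv, mul_one, vecMul_one] using this

theorem smallRoots_move {Γ : Subgroup SL₃} (h : SmallRoots Γ) (P : GL (Fin 3) F) : SmallRoots (moveGL P Γ) := by
  intro v φ hv hφ c d hc hd
  have hvi : (P : M₃) * ((P⁻¹ : GL (Fin 3) F) : M₃) = 1 := by rw [← Units.val_mul, mul_inv_cancel, Units.val_one]
  have e1 : (P : M₃) *ᵥ (((P⁻¹ : GL (Fin 3) F) : M₃) *ᵥ v) = v := by rw [mulVec_mulVec, hvi, one_mulVec]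
  have e2 : (φ ᵥ* (P : M₃)) ᵥ* ((P⁻¹ : GL (Fin 3) F) : M₃) = φ := by rw [vecMul_vecMul, hvi, vecMul_one]
  refine h (((P⁻¹ : GL (Fin 3) F) : M₃) *ᵥ v) (φ ᵥ* (P : M₃)) (fun h0 => hv (by rw [← e1, h0, mulVec_zero]))
    (fun h0 => hφ (by rw [← e2, h0, zero_vecMul])) c d ((moveGL_lam P _ _ c).1 (by rwa [e1, e2]))
    ((moveGL_lam P _ _ d).1 (by rwa [e1, e2]))

section Std

variable {Γ : Subgroup (Matrix.SpecialLinearGroup (Fin 3) F)}

local notation "U₀" => flagU Γ ![1, 0, 0] ![0, 0, 1]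

theorem flag_uni {g : SL₃} (hg : g ∈ U₀) :
    (g : M₃) = uni ((g : M₃) 0 1) ((g : M₃) 1 2) ((g : M₃) 0 2) := by
  obtain ⟨-, h1, h2⟩ := hg
  have h00 := congrFun h1 0
  have h10 := congrFun h1 1
  have h20 := congrFun h1 2
  have h21 := congrFun h2 1
  have h22 := congrFun h2 2
  simp [Matrix.mulVec, Matrix.vecMul, dotProduct, Fin.sum_univ_three] at h00 h10 h20 h21 h22
  have hd : (g : M₃).det = 1 := g.2
  rw [det_fin_three, h00, h10, h20, h21, h22] at hd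
  ring_nf at hd
  ext i j
  fin_cases i <;> fin_cases j <;> simp [uni, h00, h10, h20, h21, h22, hd]

theorem uni_mem {x y z : F} {g : SL₃} (hg : g ∈ Γ) (e : (g : M₃) = uni x y z) : g ∈ U₀ := by
  refine ⟨hg, ?_, ?_⟩
  · rw [e]; funext i; fin_cases i <;> simp [uni, Matrix.mulVec, dotProduct, Fin.sum_univ_three]
  · rw [e]; funext i; fin_cases i <;> simp [uni, Matrix.vecMul, dotProduct, Fin.sum_univ_three]

theorem uni_root {z : F} : (∃ g ∈ Γ, (g : M₃) = uni 0 0 z) ↔ Bloom.InT Γ ![1, 0, 0] (z • ![0, 0, 1]) := by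
  have e : (1 : M₃) + vecMulVec ![1, 0, 0] (z • ![0, 0, 1]) = uni 0 0 z := by
    ext i j; fin_cases i <;> fin_cases j <;> simp [uni, vecMulVec_apply]
  refine ⟨fun ⟨g, hg, eg⟩ => ⟨by simp, g, hg, eg.trans e.symm⟩, fun ⟨_, g, hg, eg⟩ => ⟨g, hg, eg.trans e⟩⟩

variable [CharP F 2] (hs : SmallRoots Γ)

include hs in
theorem z_unique {g h : SL₃} (hg : g ∈ Γ) (hh : h ∈ Γ) {z z' : F} (eg : (g : M₃) = uni 0 0 z)
    (eh : (h : M₃) = uni 0 0 z') (hz : z ≠ 0) : z' = 0 ∨ z' = z := by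
  rcases eq_or_ne z' 0 with h0 | h0
  · exact Or.inl h0
  · exact Or.inr (hs _ _ (by simp) (by simp) z' z (uni_root.1 ⟨h, hh, eh⟩) (uni_root.1 ⟨g, hg, eg⟩) h0 hz)

theorem square_uni {g : SL₃} {x y z : F} (eg : (g : M₃) = uni x y z) : ((g * g : SL₃) : M₃) = uni 0 0 (x * y) := by
  rw [Matrix.SpecialLinearGroup.coe_mul, eg, uni_mul]
  simp [CharTwo.add_self_eq_zero]

theorem comm_uni {g h : SL₃} {x y z x' y' z' : F} (eg : (g : M₃) = uni x y z) (eh : (h : M₃) = uni x' y' z') :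
    (((g * h) * (g * h) * ((g * g) * (h * h)) : SL₃) : M₃) = uni 0 0 (x * y' + x' * y) := by
  have h1 : ((g * h : SL₃) : M₃) = uni (x + x') (y + y') (z + z' + x * y') := by
    rw [Matrix.SpecialLinearGroup.coe_mul, eg, eh, uni_mul]
  rw [Matrix.SpecialLinearGroup.coe_mul, square_uni h1, Matrix.SpecialLinearGroup.coe_mul (g * g), square_uni eg,
    square_uni eh, uni_mul, uni_mul]
  congr 1
  · simp
  · simp
  · linear_combination (x * y + x' * y') * CharTwo.two_eq_zero (R := F)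

/-- The three possibilities. -/
def UniShape (Γ : Subgroup (Matrix.SpecialLinearGroup (Fin 3) F)) : Prop :=
  (∀ g ∈ flagU Γ ![1, 0, 0] ![0, 0, 1], (g : Matrix (Fin 3) (Fin 3) F) 1 2 = 0) ∨
  (∀ g ∈ flagU Γ ![1, 0, 0] ![0, 0, 1], (g : Matrix (Fin 3) (Fin 3) F) 0 1 = 0) ∨
  (∀ g ∈ flagU Γ ![1, 0, 0] ![0, 0, 1], ∀ h ∈ flagU Γ ![1, 0, 0] ![0, 0, 1],
    g * g = 1 → h * h = 1 → g ≠ 1 → h ≠ 1 → g = h) ∨
  ∃ g₁ ∈ flagU Γ ![1, 0, 0] ![0, 0, 1], ∃ g₂ ∈ flagU Γ ![1, 0, 0] ![0, 0, 1],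
    g₁ * g₁ = 1 ∧ g₂ * g₂ = 1 ∧ g₁ * g₂ ≠ g₂ * g₁ ∧ ∃ x₁ y₁ z₀ : F, x₁ ≠ 0 ∧ y₁ ≠ 0 ∧
      ∀ g ∈ flagU Γ ![1, 0, 0] ![0, 0, 1], ∀ x y z, (g : Matrix (Fin 3) (Fin 3) F) = uni x y z →
        (x = 0 ∨ x = x₁) ∧ (y = 0 ∨ y = y₁) ∧ (x = 0 → y = 0 → z = 0 ∨ z = z₀)

omit [CharP F 2] in
theorem flag_exists {g : SL₃} (hg : g ∈ U₀) : ∃ x y z, (g : M₃) = uni x y z :=
  ⟨_, _, _, flag_uni hg⟩

include hs in
theorem uniShape : UniShape Γ := by
  classical
  by_cases hx : ∃ g ∈ U₀, ∃ x z, x ≠ 0 ∧ (g : M₃) = uni x 0 z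
  · obtain ⟨g₁, hg₁, x₁, z₁, hx₁, e₁⟩ := hx
    by_cases hy : ∃ g ∈ U₀, ∃ y z, y ≠ 0 ∧ (g : M₃) = uni 0 y z
    · obtain ⟨g₂, hg₂, y₁, z₂, hy₁, e₂⟩ := hy
      right; right; right
      have hc := comm_uni e₁ e₂
      rw [mul_comm (0 : F) 0, mul_zero, add_zero] at hc
      set w := g₁ * g₂ * (g₁ * g₂) * (g₁ * g₁ * (g₂ * g₂)) with hw
      have hwΓ : w ∈ Γ := by
        have a := hg₁.1; have b := hg₂.1
        exact mul_mem (mul_mem (mul_mem a b) (mul_mem a b)) (mul_mem (mul_mem a a) (mul_mem b b))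
      have hz0 : x₁ * y₁ ≠ 0 := mul_ne_zero hx₁ hy₁
      refine ⟨g₁, hg₁, g₂, hg₂, Subtype.ext (by rw [square_uni e₁, mul_zero, uni_zero]; rfl),
        Subtype.ext (by rw [square_uni e₂, zero_mul, uni_zero]; rfl), fun h => ?_, x₁, y₁, x₁ * y₁, hx₁, hy₁,
        fun g hg x y z e => ?_⟩
      · have := congrArg (fun a : SL₃ => (a : M₃)) h
        simp only [Matrix.SpecialLinearGroup.coe_mul, e₁, e₂, uni_mul] at this
        have := (uni_inj this).2.2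
        exact hz0 (by linear_combination this)
      · have hgg : ∀ a b : SL₃, a ∈ Γ → b ∈ Γ → a * b * (a * b) * (a * a * (b * b)) ∈ Γ := fun a b ha hb =>
          mul_mem (mul_mem (mul_mem ha hb) (mul_mem ha hb)) (mul_mem (mul_mem ha ha) (mul_mem hb hb))
        have h1 := z_unique hs hwΓ (hgg g₁ g hg₁.1 hg.1) hc (comm_uni e₁ e) hz0
        have h2 := z_unique hs hwΓ (hgg g₂ g hg₂.1 hg.1) hc (comm_uni e₂ e) hz0
        rw [mul_zero, add_zero] at h1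
        rw [zero_mul, zero_add] at h2
        refine ⟨h2.imp (fun h => (mul_eq_zero.1 h).resolve_right hy₁) (fun h => mul_right_cancel₀ hy₁ h),
          h1.imp (fun h => (mul_eq_zero.1 h).resolve_left hx₁) (fun h => mul_left_cancel₀ hx₁ h), fun hx0 hy0 => ?_⟩
        subst hx0 hy0
        exact z_unique hs hwΓ hg.1 hc e hz0
    · left
      intro g hg
      obtain ⟨x, y, z, e⟩ := flag_exists hg
      have he : (g : M₃) 1 2 = y := by rw [e]; simp [uni]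
      rw [he]
      by_contra hy0
      push Not at hy
      have hx0 : x ≠ 0 := fun h => hy g hg y z hy0 (h ▸ e)
      have hsq : g * g ∈ Γ := mul_mem hg.1 hg.1
      have hc : g₁ * g * (g₁ * g) * (g₁ * g₁ * (g * g)) ∈ Γ :=
        mul_mem (mul_mem (mul_mem hg₁.1 hg.1) (mul_mem hg₁.1 hg.1)) (mul_mem (mul_mem hg₁.1 hg₁.1) hsq)
      have h := z_unique hs hsq hc (square_uni e) (comm_uni e₁ e) (mul_ne_zero hx0 hy0)
      rw [mul_zero, add_zero] at h
      have hxe : x₁ = x := mul_right_cancel₀ hy0 (h.resolve_left (mul_ne_zero hx₁ hy0))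
      refine hy (g₁ * g) (mul_mem hg₁ hg) y (z₁ + z + x * y) hy0 ?_
      rw [Matrix.SpecialLinearGroup.coe_mul, e₁, e, uni_mul, hxe, CharTwo.add_self_eq_zero, zero_add]
  · push Not at hx
    by_cases hy : ∃ g ∈ U₀, ∃ y z, y ≠ 0 ∧ (g : M₃) = uni 0 y z
    · obtain ⟨g₂, hg₂, y₁, z₂, hy₁, e₂⟩ := hy
      right; left
      intro g hg
      obtain ⟨x, y, z, e⟩ := flag_exists hg
      have he : (g : M₃) 0 1 = x := by rw [e]; simp [uni]
      rw [he]
      by_contra hx0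
      have hy0 : y ≠ 0 := fun h => hx g hg x z hx0 (h ▸ e)
      have hsq : g * g ∈ Γ := mul_mem hg.1 hg.1
      have hc : g₂ * g * (g₂ * g) * (g₂ * g₂ * (g * g)) ∈ Γ :=
        mul_mem (mul_mem (mul_mem hg₂.1 hg.1) (mul_mem hg₂.1 hg.1)) (mul_mem (mul_mem hg₂.1 hg₂.1) hsq)
      have h := z_unique hs hsq hc (square_uni e) (comm_uni e₂ e) (mul_ne_zero hx0 hy0)
      rw [zero_mul, zero_add] at h
      have hye : y₁ = y := mul_left_cancel₀ hx0 (h.resolve_left (mul_ne_zero hx0 hy₁))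
      refine hx (g * g₂) (mul_mem hg hg₂) x (z + z₂ + x * y) hx0 ?_
      rw [Matrix.SpecialLinearGroup.coe_mul, e, e₂, uni_mul, hye, CharTwo.add_self_eq_zero, add_zero]
    · push Not at hy
      right; right; left
      intro g hg h hh hg2 hh2 hg1 hh1
      have key : ∀ a ∈ U₀, a * a = 1 → a ≠ 1 → ∃ z, z ≠ 0 ∧ (a : M₃) = uni 0 0 z := by
        intro a ha ha2 ha1
        obtain ⟨x, y, z, e⟩ := flag_exists ha
        have hxy : x * y = 0 := by
          have := square_uni e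
          rw [ha2, Matrix.SpecialLinearGroup.coe_one, ← uni_zero] at this
          exact (uni_inj this).2.2.symm
        obtain ⟨rfl, rfl⟩ : x = 0 ∧ y = 0 := by
          rcases mul_eq_zero.1 hxy with h0 | h0
          · subst h0; exact ⟨rfl, by_contra fun hne => hy a ha y z hne e⟩
          · subst h0; exact ⟨by_contra fun hne => hx a ha x z hne e, rfl⟩
        exact ⟨z, fun h0 => ha1 (Subtype.ext (by rw [e, h0, uni_zero]; rfl)), e⟩
      obtain ⟨z, hz, e⟩ := key g hg hg2 hg1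
      obtain ⟨z', hz', e'⟩ := key h hh hh2 hh1
      refine Subtype.ext ?_
      rw [e, e', ((z_unique hs hg.1 hh.1 e e' hz).resolve_left hz')]

end Std

/-- Two-groups of matrices fix a flag. -/
theorem exists_flag_two [Finite F] [CharP F 2] (S : Subgroup SL₃) (hS : IsPGroup 2 S) :
    ∃ v φ : V, v ≠ 0 ∧ φ ≠ 0 ∧ φ ⬝ᵥ v = 0 ∧ ∀ g ∈ S, (g : M₃) *ᵥ v = v ∧ φ ᵥ* (g : M₃) = φ := by
  classical
  haveI : Fact (Nat.Prime 2) := ⟨Nat.prime_two⟩
  haveI := Fintype.ofFinite F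
  obtain ⟨f, -, hf⟩ := FiniteField.card F 2
  letI : MulAction S V :=
    { smul := fun g x => ((g : SL₃) : M₃) *ᵥ x
      one_smul := fun x => one_mulVec x
      mul_smul := fun g h x => by
        show ((g * h : S) : SL₃).1 *ᵥ x = ((g : SL₃) : M₃) *ᵥ (((h : SL₃) : M₃) *ᵥ x)
        rw [mulVec_mulVec]; rfl }
  obtain ⟨v, hv, hv0⟩ := hS.exists_fixed_point_of_prime_dvd_card_of_fixed_point V (by
    rw [Nat.card_eq_fintype_card, Fintype.card_fun, Fintype.card_fin, hf]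
    exact dvd_pow (dvd_pow_self 2 f.pos.ne') three_ne_zero) (a := (0 : V))
    (fun g => mulVec_zero _)
  have hvfix : ∀ g ∈ S, (g : M₃) *ᵥ v = v := fun g hg => hv ⟨g, hg⟩
  let W := LinearMap.ker (dotProductEquiv F (Fin 3) v)
  have hW : ∀ φ : V, φ ∈ W ↔ φ ⬝ᵥ v = 0 := fun φ => by
    simp [W, dotProduct_comm]
  letI : MulAction S W :=
    { smul := fun g x => ⟨(x : V) ᵥ* (((g : SL₃)⁻¹ : SL₃) : M₃), (hW _).2 (by
        rw [← dotProduct_mulVec, hvfix _ (inv_mem g.2)]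
        exact (hW _).1 x.2)⟩
      one_smul := fun x => Subtype.ext (by
        show (x : V) ᵥ* (((1 : SL₃)⁻¹ : SL₃) : M₃) = _
        rw [inv_one, Matrix.SpecialLinearGroup.coe_one, vecMul_one])
      mul_smul := fun g h x => Subtype.ext (by
        show (x : V) ᵥ* ((((g : SL₃) * (h : SL₃))⁻¹ : SL₃) : M₃) =
          ((x : V) ᵥ* (((h : SL₃)⁻¹ : SL₃) : M₃)) ᵥ* (((g : SL₃)⁻¹ : SL₃) : M₃)
        rw [vecMul_vecMul, ← Matrix.SpecialLinearGroup.coe_mul, _root_.mul_inv_rev]) }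
  obtain ⟨φ, hφ, hφ0⟩ := hS.exists_fixed_point_of_prime_dvd_card_of_fixed_point W (by
    rw [Nat.card_eq_fintype_card, Module.card_eq_pow_finrank (K := F), hf]
    refine dvd_pow (dvd_pow_self 2 f.pos.ne') ?_
    have h := (dotProductEquiv F (Fin 3) v).finrank_range_add_finrank_ker
    rw [Module.finrank_fintype_fun_eq_card, Fintype.card_fin] at h
    have h2 := Submodule.finrank_le (LinearMap.range (dotProductEquiv F (Fin 3) v))
    rw [Module.finrank_self] at h2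
    show Module.finrank F (LinearMap.ker (dotProductEquiv F (Fin 3) v)) ≠ 0
    omega) (a := (0 : W))
    (fun g => Subtype.ext (by
      show (0 : V) ᵥ* _ = 0
      exact zero_vecMul _))
  refine ⟨v, φ, fun h => hv0 h.symm, fun h => hφ0 (Subtype.ext h.symm), (hW _).1 φ.2, fun g hg => ⟨hvfix g hg, ?_⟩⟩
  have := congrArg Subtype.val (hφ ⟨g⁻¹, inv_mem hg⟩)
  change (φ : V) ᵥ* (((g⁻¹)⁻¹ : SL₃) : M₃) = φ at this
  rwa [inv_inv] at this

end Cfsg.Agent.Classical.Residual
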