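import Cfsg.Agent.Lib.Classical.Residual.UnitFiveData
import Cfsg.Agent.Lib.Classical.Residual.CoreCases
import Cfsg.Agent.Lib.Classical.AschUnitThreeField

/-!
Over 25 elements the groups of order 168 in the three-dimensional special unitary group lie in larger proper subgroups.
-/

set_option autoImplicit false
set_option maxRecDepth 8000
set_option maxHeartbeats 1000000
set_option synthInstance.maxHeartbeats 400000
set_option linter.unusedSectionVars false

namespace Cfsg.Agent.Classical.Residual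

open Matrix Cfsg.Geo
open scoped Pointwise
open Cfsg.Agent.Classical.Bloom
open Cfsg.Agent.Classical.UnitThree
open Cfsg.Agent.Classical.UnitThree.Code
open Cfsg.Agent.Classical.Asch (mem_GU_gram)
open Cfsg.Agent.Classical.MaxTv (qEquiv qEquiv_apply herm_hermForm)

section PSL7

local notation "M₇" => Matrix.ProjectiveSpecialLinearGroup (Fin 2) (ZMod 7)
local notation "SL₇" => Matrix.SpecialLinearGroup (Fin 2) (ZMod 7)

theorem card_psl7 : Nat.card M₇ = 168 := by
  haveI : Fact (Nat.Prime 7) := ⟨by norm_num⟩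
  have h := Cfsg.Agent.Dickson.card_psl (F := ZMod 7)
  have hd : Cfsg.Agent.Dickson.del (ZMod 7) = 2 := by simp [Cfsg.Agent.Dickson.del, ZMod.card]
  rw [hd, ZMod.card] at h
  omega

theorem slToPSL7_neg {L : Type*} [Field L] {g : Matrix.SpecialLinearGroup (Fin 2) L}
    (h : (g : Matrix (Fin 2) (Fin 2) L) = -1) : slToPSL 2 L g = 1 := by
  exact (slToPSL_eq_one_iff _).2 ⟨-1, by rw [h, map_neg, map_one]⟩

/-- Generators in the group of order 168. -/
theorem psl7_gen [IsSimpleGroup M₇] {t : M₇} (ht : orderOf t = 7) : ∃ u : M₇, u ≠ 1 ∧ u * u = 1 ∧ (u * t) ^ 3 = 1 ∧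
    Subgroup.closure {u, t} = ⊤ := by
  classical
  haveI : Fact (Nat.Prime 7) := ⟨by norm_num⟩
  let up : ZMod 7 → SL₇ := fun a => ⟨!![1, a; 0, 1], by simp [det_fin_two]⟩
  have hup : ∀ n : ℕ, up 1 ^ n = up (n : ZMod 7) := fun n => by
    induction n with
    | zero =>
      refine Subtype.ext ?_
      rw [pow_zero, Matrix.SpecialLinearGroup.coe_one]
      ext i j; fin_cases i <;> fin_cases j <;> simp [up]
    | succ n ih =>
      rw [pow_succ, ih]
      refine Subtype.ext ?_
      rw [Matrix.SpecialLinearGroup.coe_mul]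
      ext i j; fin_cases i <;> fin_cases j <;> simp [up, Matrix.mul_apply, Fin.sum_univ_two, add_comm]
  set T : M₇ := slToPSL 2 (ZMod 7) (up 1) with hT
  have hTo : orderOf T = 7 := by
    refine orderOf_eq_prime (by
      rw [hT, ← map_pow, hup, ZMod.natCast_self]
      refine (slToPSL_eq_one_iff _).2 ⟨1, ?_⟩
      ext i j; fin_cases i <;> fin_cases j <;> simp [up]) ?_
    intro h1
    obtain ⟨c, hc⟩ := (slToPSL_eq_one_iff _).1 h1
    have := congrFun (congrFun hc 0) 1
    simp [up] at this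
  have hfac : (Nat.card M₇).factorization 7 = 1 := by
    rw [card_psl7, show (168 : ℕ) = 7 * 24 by norm_num, Nat.factorization_mul (by norm_num) (by norm_num),
      Finsupp.add_apply, Nat.Prime.factorization_self (by norm_num),
      Nat.factorization_eq_zero_of_not_dvd (n := 24) (p := 7) (by norm_num)]
  let P : Sylow 7 M₇ := Sylow.ofCard (Subgroup.zpowers t) (by rw [hfac, pow_one, Nat.card_zpowers, ht])
  let Q : Sylow 7 M₇ := Sylow.ofCard (Subgroup.zpowers T) (by rw [hfac, pow_one, Nat.card_zpowers, hTo])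
  obtain ⟨g, hg⟩ := MulAction.exists_smul_eq M₇ P Q
  have hg' : MulAut.conj g • Subgroup.zpowers t = Subgroup.zpowers T := congrArg Sylow.toSubgroup hg
  have htT : g * t * g⁻¹ ∈ Subgroup.zpowers T := by
    rw [← hg']; exact Subgroup.smul_mem_pointwise_smul _ _ _ (Subgroup.mem_zpowers t)
  obtain ⟨n, hn⟩ := mem_powers_iff_mem_zpowers.2 htT
  replace hn : T ^ n = g * t * g⁻¹ := hn
  have hn0 : ((n : ℕ) : ZMod 7) ≠ 0 := fun h => by
    have h7 : 7 ∣ n := (ZMod.natCast_eq_zero_iff n 7).1 h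
    rw [orderOf_dvd_iff_pow_eq_one.1 (by rwa [hTo] : orderOf T ∣ n)] at hn
    have : t = 1 := by
      have := congrArg (fun x => g⁻¹ * x * g) hn
      simpa [mul_assoc] using this.symm
    rw [this, orderOf_one] at ht
    norm_num at ht
  rw [hT, ← map_pow, hup] at hn
  set a : ZMod 7 := (n : ZMod 7)
  obtain ⟨b, hb⟩ : ∃ b, b * a = 1 := ⟨a⁻¹, inv_mul_cancel₀ hn0⟩
  let U : SL₇ := ⟨!![0, -a; b, 0], by simp [det_fin_two, mul_comm a, hb]⟩
  set u : M₇ := g⁻¹ * slToPSL 2 (ZMod 7) U * g with hu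
  have hU1 : slToPSL 2 (ZMod 7) U ≠ 1 := fun h => by
    obtain ⟨c, hc⟩ := (slToPSL_eq_one_iff _).1 h
    have := congrFun (congrFun hc 0) 1
    simp [U] at this
    exact hn0 this
  have hU2 : slToPSL 2 (ZMod 7) U * slToPSL 2 (ZMod 7) U = 1 := by
    rw [← map_mul]
    refine slToPSL7_neg ?_
    rw [Matrix.SpecialLinearGroup.coe_mul]
    ext i j
    fin_cases i <;> fin_cases j <;> simp [U, Matrix.mul_apply, Fin.sum_univ_two] <;>
      first | linear_combination hb | linear_combination -hb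
  have hU3 : (slToPSL 2 (ZMod 7) U * slToPSL 2 (ZMod 7) (up a)) ^ 3 = 1 := by
    rw [← map_mul, ← map_pow]
    refine slToPSL7_neg ?_
    rw [Matrix.SpecialLinearGroup.coe_pow, Matrix.SpecialLinearGroup.coe_mul, pow_succ, sq]
    ext i j
    fin_cases i <;> fin_cases j <;> simp [U, up, Matrix.mul_apply, Fin.sum_univ_two] <;>
      first
      | linear_combination ((b * a) ^ 2 - b * a - 1) * hb
      | exact Or.inl (by linear_combination (b * a) * hb)
      | linear_combination (-(a ^ 2 * b)) * hb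
      | linear_combination (a * b + 1) * hb
      | linear_combination (a * b) * hb
      | linear_combination -hb
      | linear_combination hb
      | linear_combination (-a) * hb
      | linear_combination (a) * hb
      | linear_combination (-b) * hb
      | linear_combination (b) * hb
      | linear_combination (-1 - a * b) * hb
      | linear_combination (-2 : ZMod 7) * hb
      | linear_combination (2 : ZMod 7) * hb
      | ring
  have hu1 : u ≠ 1 := fun h => hU1 (by
    have := congrArg (fun x => g * x * g⁻¹) h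
    simpa [hu, mul_assoc] using this)
  have hu2 : u * u = 1 := by
    rw [show u * u = g⁻¹ * (slToPSL 2 (ZMod 7) U * slToPSL 2 (ZMod 7) U) * g by rw [hu]; group, hU2, mul_one,
      inv_mul_cancel]
  have hu3 : (u * t) ^ 3 = 1 := by
    rw [show u * t = g⁻¹ * (slToPSL 2 (ZMod 7) U * (g * t * g⁻¹)) * g⁻¹⁻¹ by rw [hu]; group, ← hn, conj_pow, hU3,
      mul_one, mul_inv_cancel]
  refine ⟨u, hu1, hu2, hu3, ?_⟩
  set L := Subgroup.closure ({u, t} : Set M₇) with hL
  by_contra hne
  have hut : u * t ≠ 1 := fun h => by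
    have h2 := hu2
    rw [eq_inv_of_mul_eq_one_left h, ← _root_.mul_inv_rev, inv_eq_one] at h2
    have := orderOf_dvd_of_pow_eq_one (show t ^ 2 = 1 by rw [sq, h2])
    rw [ht] at this
    norm_num at this
  have hmu : u ∈ L := Subgroup.subset_closure (Set.mem_insert _ _)
  have hmt : t ∈ L := Subgroup.subset_closure (Set.mem_insert_of_mem _ rfl)
  have h2 : 2 ∣ Nat.card L := by
    have := Subgroup.orderOf_dvd_natCard L hmu
    rwa [orderOf_eq_prime (by rw [sq, hu2]) hu1] at this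
  have h3 : 3 ∣ Nat.card L := by
    have := Subgroup.orderOf_dvd_natCard L (mul_mem hmu hmt)
    rwa [orderOf_eq_prime hu3 hut] at this
  have h7 : 7 ∣ Nat.card L := (dvd_of_eq ht.symm).trans (Subgroup.orderOf_dvd_natCard L hmt)
  have h42 : 42 ∣ Nat.card L :=
    (Nat.Coprime.mul_dvd_of_dvd_of_dvd (by norm_num) (Nat.Coprime.mul_dvd_of_dvd_of_dvd (by norm_num) h2 h3) h7 :
      2 * 3 * 7 ∣ Nat.card L)
  have hi4 : L.index ≤ 4 := by
    have hmul := Subgroup.card_mul_index L
    rw [card_psl7] at hmul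
    obtain ⟨k, hk⟩ := h42
    rw [hk] at hmul
    have hk0 : 0 < k := Nat.pos_of_ne_zero fun h => by subst h; simp at hmul
    nlinarith
  have hcore : L.normalCore = ⊥ :=
    (IsSimpleGroup.eq_bot_or_eq_top_of_normal L.normalCore inferInstance).resolve_right fun h =>
      hne (top_le_iff.1 (h ▸ L.normalCore_le))
  have hinj : Function.Injective (MulAction.toPermHom M₇ (M₇ ⧸ L)) := by
    rw [← MonoidHom.ker_eq_bot_iff, ← Subgroup.normalCore_eq_ker, hcore]
  have hd := Subgroup.card_dvd_of_injective _ hinj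
  rw [Nat.card_perm, card_psl7, ← Subgroup.index_eq_card L] at hd
  have := Nat.le_of_dvd (Nat.factorial_pos _) hd
  have h24 : L.index.factorial ≤ Nat.factorial 4 := Nat.factorial_le hi4
  norm_num [Nat.factorial] at h24
  omega

end PSL7

section Five

variable {F : Type*} [Field F] [Fintype F] {w : F} (h : Model 5 w)

local notation "G₃" => GL (Fin 3) F
local notation "M₃" => Matrix (Fin 3) (Fin 3) F
local notation "SL₃" => Matrix.SpecialLinearGroup (Fin 3) F

include h

theorem two_ne : (2 : F) ≠ 0 := fun e => by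
  have h2 : val 5 w 2 = val 5 w 0 := by rw [h.val_nat (by norm_num), h.val_zero, ← e]; norm_num
  have := h.val_inj (by norm_num) (by norm_num) h2
  norm_num at this

theorem exists_line {a : Fin 3 → F} (ha : a ≠ 0) : ∃ v ∈ FiveCode.lines, ∃ s : F, s ≠ 0 ∧ a = s • toV 5 w v := by
  by_cases h0 : a 0 = 0
  · by_cases h1 : a 1 = 0
    · have h2 : a 2 ≠ 0 := fun e => ha (funext fun i => by fin_cases i <;> assumption)
      exact ⟨[0, 0, 1], by simp [FiveCode.lines], a 2, h2, funext fun i => by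
        fin_cases i <;> simp [toV, nth, h.val_zero, h.val_one, h0, h1]⟩
    · obtain ⟨c, hc, ec⟩ := h.exists_code (a 2 / a 1)
      refine ⟨[0, 1, c], ?_, a 1, h1, funext fun i => by
        fin_cases i <;> simp [toV, nth, h.val_zero, h.val_one, h0, ec, mul_div_cancel₀ _ h1]⟩
      simp only [FiveCode.lines, List.mem_cons, List.mem_append, List.mem_map, List.mem_range]
      exact Or.inl (Or.inr ⟨c, hc, rfl⟩)
  · obtain ⟨b, hb, eb⟩ := h.exists_code (a 1 / a 0)
    obtain ⟨c, hc, ec⟩ := h.exists_code (a 2 / a 0)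
    refine ⟨[1, b, c], ?_, a 0, h0, funext fun i => by
      fin_cases i <;> simp [toV, nth, h.val_one, eb, ec, mul_div_cancel₀ _ h0]⟩
    simp only [FiveCode.lines, List.mem_cons, List.mem_append, List.mem_flatMap, List.mem_map, List.mem_range]
    exact Or.inr ⟨b, hb, c, hc, rfl⟩

theorem val_cinv {v : List ℕ} (hn : hermForm 3 F 5 (toV 5 w v) (toV 5 w v) ≠ 0) :
    hdot 5 v v ≠ 0 ∧
      val 5 w (cmul 5 2 (FiveCode.cinv (hdot 5 v v))) * hermForm 3 F 5 (toV 5 w v) (toV 5 w v) = 2 := by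
  have hfix : qEquiv h.hF (hermForm 3 F 5 (toV 5 w v) (toV 5 w v)) = hermForm 3 F 5 (toV 5 w v) (toV 5 w v) :=
    ((herm_hermForm (n := 3) h.hF).herm _ _).symm
  obtain ⟨t, ht, et⟩ := h.exists_nat_of_fixed hfix
  have hcode : hdot 5 v v = t :=
    h.val_inj (h.cadd_lt _ _) (by omega) (by rw [h.hdot_val, et])
  have ht0 : t ≠ 0 := fun e => hn (by rw [← et, e, h.val_zero])
  refine ⟨hcode ▸ ht0, ?_⟩
  have hc : FiveCode.cinv t < 5 := Nat.mod_lt _ (by norm_num)
  have key : cmul 5 (cmul 5 2 (FiveCode.cinv t)) t = 2 := by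
    interval_cases t
    · exact absurd rfl ht0
    all_goals decide
  rw [hcode, ← et, ← h.val_cmul, key, h.val_nat (by norm_num)]
  norm_num

theorem toM_refl (v : List ℕ) : toM 5 w (FiveCode.refl v) =
    -1 + val 5 w (cmul 5 2 (FiveCode.cinv (hdot 5 v v))) •
      vecMulVec (toV 5 w v) (qEquiv h.hF ∘ toV 5 w v) := by
  rw [FiveCode.refl, h.toM_madd, h.toM_mscal, h.toM_mscal, h.toM_mone, show val 5 w 4 = -1 by
    rw [← h.cast_pred]; exact h.val_nat (by norm_num), neg_one_smul]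
  congr 2
  ext i j
  fin_cases i <;> fin_cases j <;>
    simp [toM, toV, FiveCode.outerC, ent, nth, vecMulVec_apply, h.val_cmul, h.val_ccj]

theorem exists_refl {U : G₃} (hU : U ∈ SU3 F 5) (h2 : U * U = 1) (h1 : U ≠ 1) :
    ∃ v ∈ FiveCode.lines, hdot 5 v v ≠ 0 ∧ hermForm 3 F 5 (toV 5 w v) (toV 5 w v) ≠ 0 ∧
      (U : M₃) = toM 5 w (FiveCode.refl v) := by
  set σ := qEquiv h.hF
  have hA : (U : M₃) * (U : M₃) = 1 := by rw [← Units.val_mul, h2, Units.val_one]
  have hdet : (U : M₃).det = 1 := congrArg Units.val (MonoidHom.mem_ker.1 hU.2)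
  obtain ⟨a, φ, ha, hφ, e⟩ := invol_rank_one hA hdet fun e => h1 (Units.ext e)
  rw [one_smul] at e
  have hgram : (U : M₃)ᵀ * (1 * (U : M₃).map σ) = 1 := (mem_GU_gram (σ := σ) fun _ => rfl).1 hU.1
  rw [Matrix.one_mul] at hgram
  have hsym : (U : M₃).map σ = (U : M₃)ᵀ := by
    have hT : (U : M₃)ᵀ * (U : M₃)ᵀ = 1 := by rw [← transpose_mul, hA, transpose_one]
    calc (U : M₃).map σ = ((U : M₃)ᵀ * (U : M₃)ᵀ) * (U : M₃).map σ := by rw [hT, one_mul]
      _ = _ := by rw [mul_assoc, hgram, mul_one]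
  have hs : ∀ i j, σ (a i) * σ (φ j) = a j * φ i := fun i j => by
    have e1 := congrFun (congrFun e i) j
    have e2 := congrFun (congrFun e j) i
    have e3 := congrFun (congrFun hsym i) j
    simp only [Matrix.add_apply, vecMulVec_apply, Matrix.map_apply, transpose_apply] at e1 e2 e3
    rw [← map_mul, ← e1, ← e2, map_add, e3]
    congr 1
    by_cases hij : i = j
    · subst hij; simp
    · simp [Matrix.one_apply, hij, Ne.symm hij]
  obtain ⟨j, hj⟩ := Function.ne_iff.1 hφ
  obtain ⟨i₀, hi₀⟩ := Function.ne_iff.1 ha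
  have haj : a j ≠ 0 := fun e0 => mul_ne_zero ((map_ne_zero σ).2 hi₀) ((map_ne_zero σ).2 hj)
    (by rw [hs, e0, zero_mul])
  set k := σ (φ j) / a j with hk
  have hφ' : φ = k • (σ ∘ a) := funext fun i => by
    have := hs i j
    rw [Pi.smul_apply, Function.comp_apply, smul_eq_mul, hk, div_mul_eq_mul_div, eq_div_iff haj]
    linear_combination -this
  obtain ⟨v, hv, s, hs0, eas⟩ := exists_line h ha
  set n := hermForm 3 F 5 (toV 5 w v) (toV 5 w v) with hn
  have hdot2 : φ ⬝ᵥ a = 2 := by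
    have hU' : (U : M₃) = (-1 : F) • (1 + vecMulVec a (-φ)) := by
      rw [vecMulVec_neg, ← e]
      ext i j
      simp
    rw [hU', det_smul, Fintype.card_fin, vecMulVec_eq (ι := Unit), det_one_add_replicateCol_mul_replicateRow,
      neg_dotProduct] at hdet
    linear_combination hdet
  have hval : k * (σ s * s) * n = 2 := by
    rw [← hdot2, hn, hφ', eas]
    simp [hermForm, dotProduct, Fin.sum_univ_three, σ, qEquiv_apply, toV, mul_pow]
    ring
  have hn0 : n ≠ 0 := fun e0 => two_ne h (by rw [← hval, e0, mul_zero])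
  obtain ⟨hd, hc⟩ := val_cinv h hn0
  refine ⟨v, hv, hd, hn0, ?_⟩
  rw [toM_refl h]
  have hkc : k * (σ s * s) = val 5 w (cmul 5 2 (FiveCode.cinv (hdot 5 v v))) := by
    exact mul_right_cancel₀ hn0 (by rw [hval, hc])
  rw [← hkc, eq_neg_add_iff_add_eq, add_comm, e, hφ', eas]
  ext i j
  simp [vecMulVec_apply, σ]
  ring

theorem mover_spec {A : List ℕ} (hA : A ∈ FiveCode.movers) {t : G₃} (ht : (t : M₃) = toM 5 w tMatFive) :
    ∃ c : G₃, c ∈ GU 3 F 5 ∧ (c : M₃) = toM 5 w A ∧ c * t = t * c ∧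
      ((c⁻¹ : G₃) : M₃) = ((toM 5 w A)ᵀ).map (qEquiv h.hF) := by
  have h0 := FiveCode.movers_ok
  simp only [FiveCode.checkMovers, List.all_eq_true, Bool.and_eq_true, beq_iff_eq] at h0
  obtain ⟨h1, h2⟩ := h0 A hA
  have e := congrArg (toM 5 w) h1
  rw [h.toM_mmul, h.toM_mone] at e
  refine ⟨⟨toM 5 w A, toM 5 w (mct 5 A), mul_eq_one_comm.1 e, e⟩, ?_, rfl, Units.ext ?_, h.toM_mct A⟩
  · refine (mem_GU_gram (σ := qEquiv h.hF) fun _ => rfl).2 ?_
    show (toM 5 w A)ᵀ * (1 * (toM 5 w A).map (qEquiv h.hF)) = 1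
    rw [Matrix.one_mul]
    have e' := congrArg (fun M : M₃ => M.map (qEquiv h.hF)) e
    rw [h.toM_mct] at e'
    simp only [Matrix.map_mul, Matrix.map_map, Matrix.map_one (qEquiv h.hF) (map_zero _) (map_one _)] at e'
    convert e' using 2
    ext i j
    show toM 5 w A j i = qEquiv h.hF (qEquiv h.hF (toM 5 w A j i))
    exact ((herm_hermForm (n := 1) h.hF).invol _).symm
  · show toM 5 w A * (t : M₃) = (t : M₃) * toM 5 w A
    rw [ht, ← h.toM_mmul, h2, h.toM_mmul]

/-- The conjugate of the involution with axis `v` has axis the image of `v`. -/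
theorem conj_refl {A : List ℕ} {c : G₃} (hc : c ∈ GU 3 F 5) (ec : (c : M₃) = toM 5 w A)
    (eci : ((c⁻¹ : G₃) : M₃) = ((toM 5 w A)ᵀ).map (qEquiv h.hF)) {v : List ℕ}
    (hn : hermForm 3 F 5 (toV 5 w v) (toV 5 w v) ≠ 0) :
    (c : M₃) * toM 5 w (FiveCode.refl v) * ((c⁻¹ : G₃) : M₃) = toM 5 w (FiveCode.refl (mapp 5 A v)) := by
  have hiso : hermForm 3 F 5 (toV 5 w (mapp 5 A v)) (toV 5 w (mapp 5 A v)) =
      hermForm 3 F 5 (toV 5 w v) (toV 5 w v) := by
    rw [h.toV_mapp, ← ec]; exact hc _ _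
  obtain ⟨-, e1⟩ := val_cinv h hn
  obtain ⟨-, e2⟩ := val_cinv h (v := mapp 5 A v) (by rw [hiso]; exact hn)
  rw [hiso] at e2
  rw [toM_refl h, toM_refl h, mul_right_cancel₀ hn (e2.trans e1.symm), mul_add, add_mul, mul_neg, mul_one, neg_mul,
    ← Units.val_mul, mul_inv_cancel, Units.val_one, Matrix.mul_smul, Matrix.smul_mul, mul_vecMulVec, vecMulVec_mul,
    h.toV_mapp, ec, eci]
  congr 3
  funext i
  rw [Matrix.transpose_map]
  simp [Matrix.vecMul, Matrix.mulVec, dotProduct, map_sum, map_mul, mul_comm]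

end Five

variable {F : Type*} [Field F] [Fintype F]

local notation "G₃" => GL (Fin 3) F
local notation "SL₃" => Matrix.SpecialLinearGroup (Fin 3) F
local notation "M₃" => Matrix (Fin 3) (Fin 3) F

namespace Core

variable {Γ : Subgroup (Matrix.SpecialLinearGroup (Fin 3) F)} (K : Core Γ)

include K in
/-- The traces in the case of order 168 over 25 elements. -/
theorem seven_traces (h7 : IsSevenCase Γ 5) (hF : Fintype.card F = 5 ^ 2) {g : SL₃} (hg : g ∈ Γ) :
    g ^ 7 = 1 ∨ trace (g : M₃) ^ 5 = trace (g : M₃) := by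
  haveI : Fact (Nat.Prime 7) := ⟨by norm_num⟩
  obtain ⟨⟨e⟩, hu⟩ := h7
  have hU : UnitTr Γ 5 := by
    rcases hu with ⟨h5, -⟩ | ⟨-, -, hU⟩
    · rw [hF] at h5; norm_num at h5
    · exact hU
  have hcyc : ∀ P : Sylow 3 (Matrix.ProjectiveSpecialLinearGroup (Fin 2) (ZMod 7)), IsCyclic P :=
    fun P => psl2_sylow_three 7 (by norm_num) (by rw [ZMod.card]; norm_num) (MulEquiv.refl _) P
  rcases psl2_seven (ZMod.card 7) (e ⟨pr g, Subgroup.mem_map_of_mem _ hg⟩) with ⟨-, hc⟩ | ⟨hn, -⟩
  · right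
    obtain ⟨u, hu', huc⟩ := conj_of_isConj e hg (inv_mem hg) (by
      convert hc using 1
      rw [← map_inv]
      exact congrArg e (Subtype.ext (map_inv pr g)))
    have h1 := K.kernel_trivial e hcyc (mul_mem (mul_mem (mul_mem hu' hg) (inv_mem hu')) hg) (by
      rw [map_mul, huc, map_inv, inv_mul_cancel])
    have hr : u * g * u⁻¹ = g⁻¹ := eq_inv_of_mul_eq_one_left h1
    rw [hU g hg, ← hr, trace_conj]
  · exact Or.inl (K.kernel_trivial e hcyc (pow_mem hg 7) (by rw [map_pow]; exact pow_of_pow e hg hn))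

include K in
/-- Over 25 elements the groups of order 168 are not socles of maximal subgroups. -/
theorem seven_five_false (h7 : IsSevenCase Γ 5) (hF : Fintype.card F = 5 ^ 2) {H : Subgroup G₃}
    (hH : IsMaximalIn (SU3 F 5) H) (hle : Γ.map Matrix.SpecialLinearGroup.toGL ≤ H)
    (hnorm : ∀ y ∈ H, ∀ x ∈ Γ.map Matrix.SpecialLinearGroup.toGL,
      y * x * y⁻¹ ∈ Γ.map Matrix.SpecialLinearGroup.toGL) : False := by
  classical
  haveI : Fact (Nat.Prime 7) := ⟨by norm_num⟩
  obtain ⟨w, h⟩ := exists_model hF (Or.inr rfl)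
  obtain ⟨e⟩ := h7.1
  have hcyc : ∀ P : Sylow 3 (Matrix.ProjectiveSpecialLinearGroup (Fin 2) (ZMod 7)), IsCyclic P :=
    fun P => psl2_sylow_three 7 (by norm_num) (by rw [ZMod.card]; norm_num) (MulEquiv.refl _) P
  set P := Γ.map (Matrix.SpecialLinearGroup.toGL : SL₃ →* G₃) with hP
  have hinjσ : Function.Injective (pr.subgroupMap Γ) := fun a b eab => by
    have := K.kernel_trivial e hcyc (mul_mem (inv_mem a.2) b.2) (by
      rw [map_mul, map_inv, show pr (a : SL₃) = pr (b : SL₃) from congrArg Subtype.val eab, inv_mul_cancel])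
    exact Subtype.ext (inv_mul_eq_one.1 this)
  have hinjGL : Function.Injective (Matrix.SpecialLinearGroup.toGL : SL₃ →* G₃) := fun a b eab =>
    Subtype.ext (congrArg Units.val eab)
  let φ : P ≃* Matrix.ProjectiveSpecialLinearGroup (Fin 2) (ZMod 7) :=
    ((Subgroup.equivMapOfInjective Γ _ hinjGL).symm.trans
      (MulEquiv.ofBijective _ ⟨hinjσ, pr.subgroupMap_surjective Γ⟩)).trans e
  have hPS : P ≤ SU3 F 5 := hle.trans hH.1.le
  have hcard : Nat.card P = 168 := by rw [Nat.card_congr φ.toEquiv, card_psl7]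
  -- move an element of order seven to the coded one
  have htor := torusFive_ok
  simp only [checkTorus, Bool.and_eq_true, beq_iff_eq, bne_iff_ne, ne_eq] at htor
  obtain ⟨⟨⟨⟨⟨⟨⟨⟨⟨⟨⟨htS, htst⟩, -⟩, -⟩, -⟩, -⟩, hp7⟩, htne⟩, -⟩, -⟩, -⟩, -⟩ := htor
  obtain ⟨T, hTmem, hT⟩ := h.exists_su htS
  have hTbig : T ∈ h.big cfgFive := h.mem_big cfgFive_ok hTmem hT htst
  have hT7 : T ^ 7 = 1 := Units.ext (by
    rw [Units.val_pow_eq_pow_val, hT, ← h.toM_mpow]
    exact (congrArg (toM 5 w) hp7).trans h.toM_mone)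
  have hTo : orderOf T = 7 := orderOf_eq_prime hT7 fun e1 => by
    have e2 : toM 5 w tMatFive = toM 5 w mone := by
      rw [h.toM_mone]; exact hT.symm.trans (congrArg Units.val e1)
    have e3 := h.mmul_eq_of_toM (A := mone) (B := tMatFive) (A' := mone) (B' := mone)
      (by rw [h.toM_mmul, h.toM_mmul, e2])
    revert e3
    decide
  obtain ⟨x₀, hx₀⟩ := exists_prime_orderOf_dvd_card' (G := P) 7 (by rw [hcard]; norm_num)
  have hfac : (Nat.card (GU 3 F 5)).factorization 7 = 1 := by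
    have e := order_GU hF 3
    norm_num [Finset.prod_range_succ] at e
    rw [show Nat.card (GU 3 F 5) = 7 * 324000 by rw [Nat.card_eq_fintype_card]; exact_mod_cast e,
      Nat.factorization_mul (by norm_num) (by norm_num), Finsupp.add_apply,
      Nat.Prime.factorization_self (by norm_num),
      Nat.factorization_eq_zero_of_not_dvd (n := 324000) (p := 7) (by norm_num)]
  let Xu : GU 3 F 5 := ⟨(x₀ : G₃), (hPS x₀.2).1⟩
  let Tu : GU 3 F 5 := ⟨T, hTmem.1⟩
  have hXu : Nat.card (Subgroup.zpowers Xu) = 7 := by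
    rw [Nat.card_zpowers, ← orderOf_injective (GU 3 F 5).subtype Subtype.val_injective Xu]
    exact (Subgroup.orderOf_coe x₀).trans hx₀
  have hTu : Nat.card (Subgroup.zpowers Tu) = 7 := by
    rw [Nat.card_zpowers, ← orderOf_injective (GU 3 F 5).subtype Subtype.val_injective Tu]; exact hTo
  let S₁ : Sylow 7 (GU 3 F 5) := Sylow.ofCard (Subgroup.zpowers Xu) (by rw [hfac, pow_one, hXu])
  let S₂ : Sylow 7 (GU 3 F 5) := Sylow.ofCard (Subgroup.zpowers Tu) (by rw [hfac, pow_one, hTu])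
  obtain ⟨g, hg⟩ := MulAction.exists_smul_eq (GU 3 F 5) S₁ S₂
  have hg' : MulAut.conj g • Subgroup.zpowers Xu = Subgroup.zpowers Tu := congrArg Sylow.toSubgroup hg
  obtain ⟨X, hXP, hXo, hgX⟩ : ∃ X : G₃, X ∈ P ∧ orderOf X = 7 ∧ (g : G₃) * X * (g : G₃)⁻¹ = T := by
    have := Subgroup.mem_zpowers Tu
    rw [← hg', Subgroup.mem_pointwise_smul_iff_inv_smul_mem] at this
    obtain ⟨k, hk⟩ := this
    have hk' := congrArg Subtype.val (congrArg (fun z => g * z * g⁻¹) hk)
    simp only [MulAut.smul_def, MulAut.conj_inv_apply, Subgroup.coe_mul, Subgroup.coe_inv,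
      Subgroup.coe_zpow] at hk'
    refine ⟨(x₀ : G₃) ^ k, zpow_mem x₀.2 k, ?_, ?_⟩
    · have hT' : orderOf ((g : G₃) * (x₀ : G₃) ^ k * (g : G₃)⁻¹) = 7 := by
        rw [hk', show (g : G₃) * ((g : G₃)⁻¹ * (Tu : G₃) * (g : G₃)) * (g : G₃)⁻¹ = (Tu : G₃) by group]
        exact hTo
      rw [← hT']
      exact (orderOf_injective (MulAut.conj (g : G₃)).toMonoidHom (MulAut.conj (g : G₃)).injective _).symm
    · refine hk'.trans ?_
      show (g : G₃) * ((g : G₃)⁻¹ * T * (g : G₃)) * (g : G₃)⁻¹ = T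
      group
  set m := φ ⟨X, hXP⟩ with hm
  have hmo : orderOf m = 7 := by
    rw [hm, ← MulEquiv.coe_toMonoidHom, orderOf_injective φ.toMonoidHom φ.injective, ← Subgroup.orderOf_coe]
    exact hXo
  haveI := K.simple
  haveI : Nontrivial (Matrix.ProjectiveSpecialLinearGroup (Fin 2) (ZMod 7)) := e.symm.toEquiv.nontrivial
  haveI : IsSimpleGroup (Matrix.ProjectiveSpecialLinearGroup (Fin 2) (ZMod 7)) := e.symm.isSimpleGroup
  obtain ⟨u, hu1, hu2, hu3, hgen⟩ := psl7_gen hmo
  set u' : P := φ.symm u with hu'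
  have hum : φ.symm m = ⟨X, hXP⟩ := φ.symm_apply_apply _
  set U : G₃ := (g : G₃) * (u' : G₃) * (g : G₃)⁻¹ with hU
  have hu'2 : (u' : G₃) * (u' : G₃) = 1 := by
    rw [← Subgroup.coe_mul, hu', ← map_mul, hu2, map_one, Subgroup.coe_one]
  have hu'1 : (u' : G₃) ≠ 1 := fun e1 => hu1 (by
    have : u' = 1 := Subtype.ext e1
    rw [← φ.apply_symm_apply u, ← hu', this, map_one])
  have hu'3 : ((u' : G₃) * X) ^ 3 = 1 := by
    have := congrArg (fun z : P => (z : G₃)) (congrArg φ.symm hu3)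
    simpa [map_pow, map_mul, hum, ← hu'] using this
  have hUS : U ∈ SU3 F 5 := conj_mem_su g.2 (hPS u'.2)
  obtain ⟨v, hv, hd, hn, eU⟩ := exists_refl h hUS
    (by rw [hU, show (g : G₃) * u' * (g : G₃)⁻¹ * ((g : G₃) * u' * (g : G₃)⁻¹) = (g : G₃) * (u' * u') * (g : G₃)⁻¹ by
      group, hu'2, mul_one, mul_inv_cancel])
    (fun e1 => hu'1 (by
      have := congrArg (fun z => (g : G₃)⁻¹ * z * (g : G₃)) e1
      simpa [hU, mul_assoc] using this))
  have hUT : (U * T) ^ 3 = 1 := by
    rw [hU, ← hgX, show (g : G₃) * u' * (g : G₃)⁻¹ * ((g : G₃) * X * (g : G₃)⁻¹) =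
      (g : G₃) * (u' * X) * (g : G₃)⁻¹ by group, conj_pow, hu'3, mul_one, mul_inv_cancel]
  obtain ⟨A, hA, hst⟩ : ∃ A ∈ FiveCode.movers, stab 5 cfgFive (FiveCode.refl (mapp 5 A v)) = true := by
    have h0 := FiveCode.seven_ok
    simp only [FiveCode.checkSeven, List.all_eq_true, Bool.or_eq_true, Bool.not_eq_true', beq_iff_eq,
      List.any_eq_true] at h0
    rcases h0 v hv with (e1 | e1) | e1
    · exact absurd e1 hd
    · exfalso
      set B := mmul 5 (FiveCode.refl v) tMatFive with hB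
      have e2 : toM 5 w (mmul 5 B (mpow 5 B 2)) = toM 5 w (mmul 5 mone mone) := by
        rw [h.toM_mmul, h.toM_mpow, h.toM_mmul mone, h.toM_mone, mul_one, ← pow_succ', hB, h.toM_mmul, ← eU]
        show ((U : M₃) * toM 5 w torusFive.t) ^ (2 + 1) = 1
        rw [← hT]
        have := congrArg Units.val hUT
        rw [Units.val_pow_eq_pow_val, Units.val_mul, Units.val_one] at this
        exact this
      have e3 := h.mmul_eq_of_toM e2
      rw [beq_eq_false_iff_ne] at e1
      exact e1 (e3.trans (by decide))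
    · exact e1
  obtain ⟨c, hcU, ec, hcT, eci⟩ := mover_spec h hA hT
  set d : G₃ := c * (g : G₃) with hd'
  have hdU : d ∈ GU 3 F 5 := mul_mem hcU g.2
  have hdX : d * X * d⁻¹ = T := by
    rw [hd', show c * (g : G₃) * X * (c * (g : G₃))⁻¹ = c * ((g : G₃) * X * (g : G₃)⁻¹) * c⁻¹ by group, hgX, hcT,
      mul_inv_cancel_right]
  have hdu : d * (u' : G₃) * d⁻¹ ∈ h.big cfgFive := by
    refine h.mem_big cfgFive_ok (conj_mem_su hdU (hPS u'.2)) ?_ hst
    rw [hd', show c * (g : G₃) * u' * (c * (g : G₃))⁻¹ = c * U * c⁻¹ by rw [hU]; group, Units.val_mul, Units.val_mul,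
      eU, conj_refl h hcU ec eci hn]
  have hPbig : ∀ x ∈ P, d * x * d⁻¹ ∈ h.big cfgFive := by
    let L : Subgroup (Matrix.ProjectiveSpecialLinearGroup (Fin 2) (ZMod 7)) :=
      (((h.big cfgFive).comap (MulAut.conj d).toMonoidHom).subgroupOf P).map φ.toMonoidHom
    have hL : L = ⊤ := by
      rw [eq_top_iff, ← hgen, Subgroup.closure_le]
      rintro z (rfl | rfl)
      · exact ⟨u', hdu, φ.apply_symm_apply _⟩
      · exact ⟨⟨X, hXP⟩, (show d * X * d⁻¹ ∈ h.big cfgFive by rw [hdX]; exact hTbig), rfl⟩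
    intro x hx
    obtain ⟨z, hz, ez⟩ : φ ⟨x, hx⟩ ∈ L := hL ▸ Subgroup.mem_top _
    have := φ.injective ez
    subst this
    exact hz
  have hfac7 : (Nat.card (Matrix.ProjectiveSpecialLinearGroup (Fin 2) (ZMod 7))).factorization 7 = 1 := by
    rw [card_psl7, show (168 : ℕ) = 7 * 24 by norm_num, Nat.factorization_mul (by norm_num) (by norm_num),
      Finsupp.add_apply, Nat.Prime.factorization_self (by norm_num),
      Nat.factorization_eq_zero_of_not_dvd (n := 24) (p := 7) (by norm_num)]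
  refine false_of_conj hH le_rfl (B := h.big cfgFive) hdU ?_ inf_le_left (h.exists_not_big cfgFive_ok) ?_
  · rintro y ⟨hyH, hyS⟩
    have hyX : y * X * y⁻¹ ∈ P := hnorm y hyH X hXP
    set m' := φ ⟨_, hyX⟩ with hm'
    have hm'o : orderOf m' = 7 := by
      rw [hm', ← MulEquiv.coe_toMonoidHom, orderOf_injective φ.toMonoidHom φ.injective, ← Subgroup.orderOf_coe]
      exact (orderOf_injective (MulAut.conj y).toMonoidHom (MulAut.conj y).injective X).trans hXo
    let R₁ := Sylow.ofCard (Subgroup.zpowers m') (by rw [hfac7, pow_one, Nat.card_zpowers, hm'o])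
    let R₂ := Sylow.ofCard (Subgroup.zpowers m) (by rw [hfac7, pow_one, Nat.card_zpowers, hmo])
    obtain ⟨z, hz⟩ := MulAction.exists_smul_eq (Matrix.ProjectiveSpecialLinearGroup (Fin 2) (ZMod 7)) R₁ R₂
    have hz' : MulAut.conj z • Subgroup.zpowers m' = Subgroup.zpowers m := congrArg Sylow.toSubgroup hz
    have hzm : z * m' * z⁻¹ ∈ Subgroup.zpowers m := by
      rw [← hz']; exact Subgroup.smul_mem_pointwise_smul _ _ _ (Subgroup.mem_zpowers m')
    obtain ⟨j, hj⟩ := mem_powers_iff_mem_zpowers.2 hzm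
    replace hj : m ^ j = z * m' * z⁻¹ := hj
    set z' : P := φ.symm z with hz0
    have hj' : X ^ j = (z' : G₃) * (y * X * y⁻¹) * (z' : G₃)⁻¹ := by
      have := congrArg (fun a : P => (a : G₃)) (congrArg φ.symm hj)
      simpa [map_pow, map_mul, map_inv, hum, hm', ← hz0] using this
    have htm := h.torus_mem cfgFive_ok torusFive_ok centraliserFive_ok hT
      (y := d * ((z' : G₃) * y) * d⁻¹) (conj_mem_su hdU (mul_mem (hPS z'.2) hyS)) (j := j) (by
      rw [← hdX, conj_pow, hj']; group)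
    have := mul_mem (inv_mem (hPbig _ z'.2)) htm
    rwa [show (d * (z' : G₃) * d⁻¹)⁻¹ * (d * ((z' : G₃) * y) * d⁻¹) = d * y * d⁻¹ by group] at this
  · have hw := FiveCode.witness_ok
    simp only [FiveCode.checkWitness, Bool.and_eq_true, bne_iff_ne, ne_eq] at hw
    obtain ⟨⟨⟨hxS, hxst⟩, hx7⟩, hxtr⟩ := hw
    obtain ⟨x, hxmem, hx⟩ := h.exists_su hxS
    refine ⟨x, h.mem_big cfgFive_ok hxmem hx hxst, fun hmem => ?_⟩
    set y := d⁻¹ * x * d with hy
    have hpm : (y * X * y⁻¹) * X ∈ P := mul_mem (hnorm y hmem X hXP) hXP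
    have hconj : (x * T * x⁻¹) * T = d * ((y * X * y⁻¹) * X) * d⁻¹ := by rw [hy, ← hdX]; group
    obtain ⟨k, hk, ek⟩ := Subgroup.mem_map.1 hpm
    have hxi : ((x⁻¹ : G₃) : M₃) = toM 5 w (mct 5 FiveCode.xMat) := by
      have hS' := hxS
      simp only [isSU, Bool.and_eq_true, beq_iff_eq] at hS'
      have e0 := congrArg (toM 5 w) hS'.1
      rw [h.toM_mmul, h.toM_mone] at e0
      calc ((x⁻¹ : G₃) : M₃) = (toM 5 w (mct 5 FiveCode.xMat) * (x : M₃)) * ((x⁻¹ : G₃) : M₃) := by
            rw [hx, e0, one_mul]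
        _ = _ := by rw [mul_assoc, ← Units.val_mul, mul_inv_cancel, Units.val_one, mul_one]
    have hprod : toM 5 w FiveCode.xProd = ((x * T * x⁻¹ * T : G₃) : M₃) := by
      simp only [FiveCode.xProd, h.toM_mmul, Units.val_mul, hx, hT, hxi]
      rfl
    rcases K.seven_traces h7 hF hk with h1 | h1
    · have e7 : (x * T * x⁻¹ * T) ^ 7 = 1 := by
        rw [hconj, conj_pow, ← ek, ← map_pow, h1, map_one, mul_one, mul_inv_cancel]
      have e2 : toM 5 w (mmul 5 FiveCode.xProd (mpow 5 FiveCode.xProd 6)) = toM 5 w (mmul 5 mone mone) := by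
        rw [h.toM_mmul, h.toM_mpow, h.toM_mmul mone, h.toM_mone, mul_one, ← pow_succ', hprod,
          ← Units.val_pow_eq_pow_val, e7, Units.val_one]
      exact hx7 ((h.mmul_eq_of_toM e2).trans (by decide))
    · set c₀ := cadd 5 (cadd 5 (ent FiveCode.xProd 0 0) (ent FiveCode.xProd 1 1)) (ent FiveCode.xProd 2 2) with hc₀
      have etr : val 5 w c₀ = trace (k : M₃) := by
        have : trace (toM 5 w FiveCode.xProd) = trace (k : M₃) := by
          rw [hprod, hconj, ← ek, Units.val_mul, Units.val_mul, trace_mul_cycle, ← Units.val_mul, inv_mul_cancel,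
            Units.val_one, one_mul]
          rfl
        rw [← this, hc₀, h.val_cadd, h.val_cadd, trace_fin_three]
        rfl
      have hlt : c₀ < 25 := h.cadd_lt _ _
      have := h.val_inj (h.ccj_lt c₀) hlt (by rw [h.val_ccj, qEquiv_apply, etr, h1])
      simp only [ccj, beq_iff_eq] at this hxtr
      omega

end Core

end Cfsg.Agent.Classical.Residual
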