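import Cfsg.Agent.Lib.Classical.AschUnitThreeData

/-!
A certificate: over 25 elements the involutions generating, with a fixed element of order seven, a group of order 168
are moved into the stabiliser of the configuration by isometries commuting with that element.
-/

set_option autoImplicit false
set_option maxRecDepth 20000

namespace Cfsg.Agent.Classical.Residual.FiveCode

open Cfsg.Agent.Classical.UnitThree.Code

/-- All multiples of a vector with itself, conjugated. -/
def outerC (v : List ℕ) : List ℕ :=
  [cmul 5 (nth v 0) (ccj 5 (nth v 0)), cmul 5 (nth v 0) (ccj 5 (nth v 1)), cmul 5 (nth v 0) (ccj 5 (nth v 2)),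
    cmul 5 (nth v 1) (ccj 5 (nth v 0)), cmul 5 (nth v 1) (ccj 5 (nth v 1)), cmul 5 (nth v 1) (ccj 5 (nth v 2)),
    cmul 5 (nth v 2) (ccj 5 (nth v 0)), cmul 5 (nth v 2) (ccj 5 (nth v 1)), cmul 5 (nth v 2) (ccj 5 (nth v 2))]

/-- The inverse of a rational code. -/
def cinv (n : ℕ) : ℕ := n * n * n % 5

/-- The involution with a given axis. -/
def refl (v : List ℕ) : List ℕ :=
  madd 5 (mscal 5 4 mone) (mscal 5 (cmul 5 2 (cinv (hdot 5 v v))) (outerC v))

/-- Representatives of the lines. -/
def lines : List (List ℕ) :=
  [0, 0, 1] :: ((List.range 25).map fun b => [0, 1, b]) ++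
    (List.range 25).flatMap fun a => (List.range 25).map fun b => [1, a, b]

/-- Two isometries commuting with the element of order seven. -/
def movers : List (List ℕ) := [[0, 5, 16, 5, 6, 21, 14, 9, 2], [1, 6, 18, 6, 17, 17, 12, 13, 21]]

/-- An element of the stabiliser. -/
def xMat : List ℕ := [1, 0, 0, 0, 4, 0, 0, 0, 4]

/-- The isometries commute with the element of order seven. -/
def checkMovers : Bool :=
  movers.all fun A => mmul 5 (mct 5 A) A == mone && mmul 5 A tMatFive == mmul 5 tMatFive A

/-- The involutions are moved into the stabiliser. -/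
def checkSeven : Bool :=
  lines.all fun v => hdot 5 v v == 0 || !(mpow 5 (mmul 5 (refl v) tMatFive) 3 == mone) ||
    movers.any fun A => stab 5 cfgFive (refl (mapp 5 A v))

/-- The product of the element of order seven with a conjugate. -/
def xProd : List ℕ := mmul 5 (mmul 5 (mmul 5 xMat tMatFive) (mct 5 xMat)) tMatFive

/-- The facts on the element of the stabiliser. -/
def checkWitness : Bool :=
  isSU 5 xMat && stab 5 cfgFive xMat && mpow 5 xProd 7 != mone &&
    cadd 5 (cadd 5 (ent xProd 0 0) (ent xProd 1 1)) (ent xProd 2 2) / 5 != 0

theorem movers_ok : checkMovers = true := by decide +kernel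
theorem seven_ok : checkSeven = true := by decide +kernel
theorem witness_ok : checkWitness = true := by decide +kernel

end Cfsg.Agent.Classical.Residual.FiveCode
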